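import Mathlib
import Cfsg.Agent.Lib.Helper71.LWDefs

set_option autoImplicit false
set_option linter.unusedSectionVars false
open Equiv
open Cfsg.Agent.Lib.Helper71.LW

namespace Cfsg.Agent.Lib.Helper42.LW

variable {α : Type*} [Fintype α] [DecidableEq α]

/-- an enumeration of a finset of cardinality `k` -/
theorem exists_enum (Γ : Finset α) (k : ℕ) (h : Γ.card = k) :
    ∃ x : Fin k ↪ α, ∀ a, a ∈ Γ ↔ ∃ i, x i = a := by
  let e : ↥Γ ≃ Fin k := Γ.equivFinOfCardEq h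
  refine ⟨e.symm.toEmbedding.trans (Function.Embedding.subtype _), fun a => ?_⟩
  constructor
  · intro ha
    exact ⟨e ⟨a, ha⟩, by simp⟩
  · rintro ⟨i, rfl⟩
    exact (e.symm i).2

theorem pstab_conj (G : Subgroup (Perm α)) (k : ℕ) (hG : Trans G k) (Γ Γ' : Finset α)
    (h : Γ.card = k) (h' : Γ'.card = k) :
    ∃ g ∈ G, Γ.image g = Γ' ∧ ∀ p : Perm α, p ∈ pstab G Γ' ↔ g⁻¹ * p * g ∈ pstab G Γ := by
  obtain ⟨x, hx⟩ := exists_enum Γ k h
  obtain ⟨y, hy⟩ := exists_enum Γ' k h'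
  obtain ⟨g, hgG, hg⟩ := hG x y
  have himg : Γ.image g = Γ' := by
    ext z
    rw [Finset.mem_image]
    constructor
    · rintro ⟨a, ha, rfl⟩
      obtain ⟨i, rfl⟩ := (hx a).mp ha
      rw [hg i]
      exact (hy _).mpr ⟨i, rfl⟩
    · intro hz
      obtain ⟨i, rfl⟩ := (hy z).mp hz
      exact ⟨x i, (hx _).mpr ⟨i, rfl⟩, hg i⟩
  refine ⟨g, hgG, himg, fun p => ?_⟩
  rw [mem_pstab, mem_pstab]
  constructor
  · rintro ⟨hpG, hp⟩
    refine ⟨G.mul_mem (G.mul_mem (G.inv_mem hgG) hpG) hgG, fun a ha => ?_⟩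
    have hga : g a ∈ Γ' := by rw [← himg]; exact Finset.mem_image_of_mem g ha
    rw [Perm.mul_apply, Perm.mul_apply, hp _ hga]
    simp
  · rintro ⟨hpG, hp⟩
    have h1 : p = g * (g⁻¹ * p * g) * g⁻¹ := by simp [mul_assoc]
    refine ⟨?_, fun b hb => ?_⟩
    · rw [h1]
      exact G.mul_mem (G.mul_mem hgG hpG) (G.inv_mem hgG)
    · rw [← himg, Finset.mem_image] at hb
      obtain ⟨a, ha, rfl⟩ := hb
      have h2 := hp a ha
      rw [Perm.mul_apply, Perm.mul_apply, Perm.inv_eq_iff_eq] at h2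
      exact h2

theorem card_pstab_eq (G : Subgroup (Perm α)) (k : ℕ) (hG : Trans G k) (Γ Γ' : Finset α)
    (h : Γ.card = k) (h' : Γ'.card = k) : Nat.card (pstab G Γ) = Nat.card (pstab G Γ') := by
  obtain ⟨g, -, -, hg⟩ := pstab_conj G k hG Γ Γ' h h'
  symm
  refine Nat.card_congr (Equiv.subtypeEquiv (MulAut.conj g⁻¹).toEquiv (fun p => ?_))
  have h1 : (MulAut.conj g⁻¹).toEquiv p = g⁻¹ * p * g := by
    simp
  rw [h1]
  exact hg p

end Cfsg.Agent.Lib.Helper42.LW
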