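import Mathlib
import Cfsg.Agent.Lib.Helper71.LWDefs

set_option autoImplicit false
set_option linter.unusedSectionVars false
open Equiv
open Cfsg.Agent.Lib.Helper71.LW

namespace Cfsg.Agent.Lib.Helper42.LW

variable {α : Type*} [Fintype α] [DecidableEq α]

/-- a Mathlib Sylow `2`-subgroup of `↥H` gives a Sylow `2`-subgroup in the sense of `IsSyl2In` -/
theorem isSyl2In_of_sylow (H : Subgroup (Perm α)) (S : Sylow 2 H) :
    IsSyl2In ((S : Subgroup H).map H.subtype) H := by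
  refine ⟨Subgroup.map_subtype_le _, S.isPGroup'.map H.subtype, ?_⟩
  intro Q hQ hSQ hQH
  have h1 : (S : Subgroup H) ≤ Q.subgroupOf H := by
    rw [← Subgroup.comap_subtype]
    exact Subgroup.map_le_iff_le_comap.mp hSQ
  have h2 : Q.subgroupOf H = (S : Subgroup H) := S.is_maximal' hQ.comap_subtype h1
  rw [← h2]
  exact (Subgroup.map_subgroupOf_eq_of_le hQH).symm

/-- conversely -/
theorem exists_sylow_of_isSyl2In {P H : Subgroup (Perm α)} (h : IsSyl2In P H) :
    ∃ S : Sylow 2 H, (S : Subgroup H) = P.subgroupOf H := by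
  refine ⟨⟨P.subgroupOf H, h.2.1.comap_subtype, ?_⟩, rfl⟩
  intro Q' hQ' hle
  have h1 : P ≤ Q'.map H.subtype := by
    rw [← Subgroup.map_subgroupOf_eq_of_le h.1]
    exact Subgroup.map_mono hle
  have h2 : Q'.map H.subtype = P :=
    h.2.2 _ (hQ'.map H.subtype) h1 (Subgroup.map_subtype_le _)
  rw [← h2, ← Subgroup.comap_subtype,
    Subgroup.comap_map_eq_self_of_injective H.subtype_injective]

theorem exists_isSyl2In_ge (H Q : Subgroup (Perm α)) (hQ : IsPGroup 2 Q) (hQH : Q ≤ H) :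
    ∃ P, IsSyl2In P H ∧ Q ≤ P := by
  obtain ⟨S, hS⟩ := (hQ.comap_subtype (K := H)).exists_le_sylow
  refine ⟨(S : Subgroup H).map H.subtype, isSyl2In_of_sylow H S, ?_⟩
  rw [← Subgroup.map_subgroupOf_eq_of_le hQH]
  exact Subgroup.map_mono hS

theorem isSyl2In_card {P H : Subgroup (Perm α)} (h : IsSyl2In P H) :
    Nat.card P = 2 ^ (Nat.card H).factorization 2 := by
  obtain ⟨S, hS⟩ := exists_sylow_of_isSyl2In h
  have h1 := S.card_eq_multiplicity
  rw [hS] at h1
  rw [← h1]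
  exact (Nat.card_congr (Subgroup.subgroupOfEquivOfLe h.1).toEquiv).symm

theorem isSyl2In_conj {P P' H : Subgroup (Perm α)} (h : IsSyl2In P H) (h' : IsSyl2In P' H) :
    ∃ g ∈ H, ∀ p : Perm α, p ∈ P' ↔ g⁻¹ * p * g ∈ P := by
  obtain ⟨S, hS⟩ := exists_sylow_of_isSyl2In h
  obtain ⟨S', hS'⟩ := exists_sylow_of_isSyl2In h'
  obtain ⟨g, hg⟩ := MulAction.exists_smul_eq H S S'
  refine ⟨g.1, g.2, fun p => ?_⟩
  have key : ∀ x : H, x ∈ (S' : Subgroup H) ↔ g⁻¹ * x * g ∈ (S : Subgroup H) := by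
    intro x
    rw [← hg, Sylow.coe_subgroup_smul, Subgroup.mem_pointwise_smul_iff_inv_smul_mem,
      MulAut.smul_def, MulAut.conj_inv_apply]
  by_cases hp : p ∈ H
  · have h1 := key ⟨p, hp⟩
    rw [hS, hS'] at h1
    exact h1
  · constructor
    · intro hp'
      exact absurd (h'.1 hp') hp
    · intro hp'
      exfalso
      apply hp
      have h2 : g⁻¹.1 * p * g.1 ∈ H := h.1 hp'
      have h3 : p = g.1 * (g⁻¹.1 * p * g.1) * g⁻¹.1 := by
        simp [mul_assoc]
      rw [h3]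
      exact H.mul_mem (H.mul_mem g.2 h2) (g⁻¹).2

theorem exists_involution_of_ne_bot {P : Subgroup (Perm α)} (hP : IsPGroup 2 P) (h : P ≠ ⊥) :
    ∃ z ∈ P, z ≠ 1 ∧ z * z = 1 := by
  have hcard : 2 ∣ Nat.card P := by
    rcases hP.card_eq_or_dvd with h1 | h1
    · exact absurd (Subgroup.card_eq_one.mp h1) h
    · exact h1
  obtain ⟨x, hx⟩ := exists_prime_orderOf_dvd_card' 2 hcard
  refine ⟨x.1, x.2, ?_, ?_⟩
  · intro h1
    have : x = 1 := Subtype.ext h1
    rw [this, orderOf_one] at hx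
    omega
  · have h1 : x ^ 2 = 1 := by rw [← hx]; exact pow_orderOf_eq_one x
    have h2 := congrArg Subtype.val h1
    rw [pow_two] at h2
    exact h2

theorem odd_card_of_syl_bot {H : Subgroup (Perm α)} (h : IsSyl2In ⊥ H) : Odd (Nat.card H) := by
  have h1 := isSyl2In_card h
  rw [Subgroup.card_bot] at h1
  have h2 : (Nat.card H).factorization 2 = 0 := by
    by_contra hne
    have : 2 ≤ 2 ^ (Nat.card H).factorization 2 := by
      calc 2 = 2 ^ 1 := by norm_num
        _ ≤ 2 ^ (Nat.card H).factorization 2 :=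
          Nat.pow_le_pow_right (by norm_num) (Nat.one_le_iff_ne_zero.mpr hne)
    omega
  rw [Nat.odd_iff]
  by_contra hodd
  have hdvd : 2 ∣ Nat.card H := by omega
  have hpos : Nat.card H ≠ 0 := Nat.card_pos.ne'
  have := (Nat.Prime.factorization_pos_of_dvd Nat.prime_two hpos hdvd)
  omega

theorem normalizer_grows {Q P : Subgroup (Perm α)} (hP : IsPGroup 2 P) (hQP : Q ≤ P)
    (hne : Q ≠ P) :
    ∃ w ∈ P, w ∉ Q ∧ w * w ∈ Q ∧ ∀ q ∈ Q, w * q * w⁻¹ ∈ Q := by
  classical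
  have hPP : IsPGroup 2 (↥P) := hP
  have hnil : Group.IsNilpotent (↥P) := hPP.isNilpotent
  have hlt : Q.subgroupOf P < ⊤ := by
    rw [lt_top_iff_ne_top]
    intro h
    apply hne
    exact le_antisymm hQP (Subgroup.subgroupOf_eq_top.mp h)
  have hnc := Group.normalizerCondition_of_isNilpotent (G := ↥P) (Q.subgroupOf P) hlt
  obtain ⟨x, hxN, hxQ⟩ := SetLike.exists_of_lt hnc
  -- the least `n` with `x ^ (2 ^ n) ∈ Q'`
  have hex : ∃ n : ℕ, x ^ (2 ^ n) ∈ Q.subgroupOf P := by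
    obtain ⟨n, hn⟩ := hPP x
    exact ⟨n, by rw [hn]; exact Subgroup.one_mem _⟩
  have hn0 : Nat.find hex ≠ 0 := by
    intro h0
    have := Nat.find_spec hex
    rw [h0, pow_zero, pow_one] at this
    exact hxQ this
  obtain ⟨m, hm⟩ : ∃ m, Nat.find hex = m + 1 := Nat.exists_eq_succ_of_ne_zero hn0
  have hw1 : x ^ (2 ^ m) ∉ Q.subgroupOf P := by
    have := Nat.find_min hex (m := m) (by omega)
    exact this
  have hw2 : x ^ (2 ^ m) * x ^ (2 ^ m) ∈ Q.subgroupOf P := by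
    have := Nat.find_spec hex
    rw [hm, pow_succ, pow_mul, pow_two] at this
    exact this
  have hwN : x ^ (2 ^ m) ∈ Subgroup.normalizer ((Q.subgroupOf P : Subgroup P) : Set P) :=
    Subgroup.pow_mem _ hxN _
  refine ⟨(x ^ (2 ^ m)).1, (x ^ (2 ^ m)).2, ?_, ?_, ?_⟩
  · exact fun h => hw1 (Subgroup.mem_subgroupOf.mpr h)
  · exact Subgroup.mem_subgroupOf.mp hw2
  · intro q hq
    have h1 := (Subgroup.mem_normalizer_iff.mp hwN ⟨q, hQP hq⟩).mp (Subgroup.mem_subgroupOf.mpr hq)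
    exact Subgroup.mem_subgroupOf.mp h1

end Cfsg.Agent.Lib.Helper42.LW
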