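import Mathlib
import Cfsg.Agent.Lib.Helper12.SimsLocDefs
import Cfsg.Agent.Lib.Helper12.AmalGen

/-!
# S2772 module [SL-T] (helper42): the transvection from a maximal elementary abelian subgroup

`A ≤ S` elementary abelian of maximal order, `A ≰ Q`, `|S : Q| = 2`, `V ≤ Q` central in `Q` of
exponent `2`: some `a ∈ S ∖ Q` (indeed any `a ∈ A ∖ Q`) centralizes a subgroup of index `≤ 2` of `V`.
Statement from helper12's sheet `Lib/Helper12/SimsLocSHEET.md`.
-/

set_option autoImplicit false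

namespace Cfsg.Agent.Lib.Helper42.SimsLocT

open Cfsg.Agent.Lib.Helper12.SimsLoc Cfsg.Agent.Lib.Helper12.Amal

variable {H : Type*} [Group H]

/-- product formula `|AB| |A ∩ B| = |A| |B|` when `B` normalizes `A` -/
theorem card_sup_mul_card_inf {A B : Subgroup H} (hn : B ≤ Subgroup.normalizer (A : Set H)) :
    Nat.card ↥(A ⊔ B : Subgroup H) * Nat.card ↥(A ⊓ B : Subgroup H)
      = Nat.card ↥A * Nat.card ↥B := by
  have hA : A ≤ Subgroup.normalizer (A : Set H) := Subgroup.le_normalizer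
  have h1 := Subgroup.relIndex_sup_right (B.subgroupOf (Subgroup.normalizer (A : Set H)))
    (A.subgroupOf (Subgroup.normalizer (A : Set H)))
  rw [← Subgroup.subgroupOf_sup hn hA, Subgroup.relIndex_subgroupOf (sup_le hn hA),
    Subgroup.relIndex_subgroupOf hn] at h1
  have h2 := card_mul_relIndex' (le_sup_right : A ≤ B ⊔ A)
  have h3 := card_mul_relIndex' (inf_le_right : A ⊓ B ≤ B)
  rw [Subgroup.inf_relIndex_right] at h3
  rw [h1] at h2
  rw [sup_comm, ← h2, ← h3]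
  ring

variable [Finite H]

/-- [SL-T] an element of `S ∖ Q` centralizing a subgroup of index `≤ 2` of `V` -/
theorem exists_transvection (S Q A V : Subgroup H)
    (hQS : Q ≤ S) (hSQ : Nat.card ↥S = 2 * Nat.card ↥Q)
    (hA : A ≤ S) (hEA : EA A) (hAQ : ¬ A ≤ Q)
    (hmax : ∀ B : Subgroup H, B ≤ S → EA B → Nat.card ↥B ≤ Nat.card ↥A)
    (hVQ : V ≤ Q) (hVc : ∀ v ∈ V, ∀ u ∈ Q, v * u = u * v) (hVE : EA V) :
    ∃ a ∈ S, a ∉ Q ∧ Nat.card ↥V ≤ 2 * Nat.card ↥(V ⊓ Subgroup.centralizer ({a} : Set H)) := by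
  obtain ⟨a, haA, haQ⟩ := SetLike.not_le_iff_exists.mp hAQ
  refine ⟨a, hA haA, haQ, ?_⟩
  -- (i) `A ∩ Q` has index 2 in `A`
  have hrel : (A ⊓ Q).relIndex A = 2 := by
    refine relIndex_two_of_forall ⟨a, haA, fun h => haQ h.2⟩ ?_
    intro b hb c hc hbH hcH
    refine ⟨mul_mem hb hc, ?_⟩
    exact mul_mem_of_card hQS hSQ.symm (hA hb) (hA hc) (fun h => hbH ⟨hb, h⟩) (fun h => hcH ⟨hc, h⟩)
  have hcardA : 2 * Nat.card ↥(A ⊓ Q : Subgroup H) = Nat.card ↥A :=
    card_of_relIndex_two inf_le_left hrel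
  -- (ii) `B = V (A ∩ Q)` is elementary abelian inside `S`
  have hc : ∀ v ∈ V, ∀ b ∈ A ⊓ Q, v * b = b * v := fun v hv b hb => hVc v hv b hb.2
  have hBE : EA (V ⊔ (A ⊓ Q)) := by
    intro y hy
    obtain ⟨v, hv, b, hb, rfl⟩ := (mem_sup_of_commute hc).mp hy
    have h1 := hVE v hv
    have h2 := hEA b hb.1
    calc v * b * (v * b) = v * (b * v) * b := by group
      _ = v * (v * b) * b := by rw [hc v hv b hb]
      _ = (v * v) * (b * b) := by group
      _ = 1 := by rw [h1, h2, one_mul]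
  have hBS : V ⊔ (A ⊓ Q) ≤ S := sup_le (hVQ.trans hQS) (inf_le_left.trans hA)
  have hBA : Nat.card ↥(V ⊔ (A ⊓ Q) : Subgroup H) ≤ Nat.card ↥A := hmax _ hBS hBE
  -- (iii) the product formula
  have hnorm : A ⊓ Q ≤ Subgroup.normalizer (V : Set H) := by
    intro b hb
    rw [Subgroup.mem_normalizer_iff]
    intro v
    constructor
    · intro hv
      have : b * v * b⁻¹ = v := by rw [← hc v hv b hb]; group
      rw [this]; exact hv
    · intro hv
      have h3 := hc _ hv b hb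
      have : v = b * v * b⁻¹ := by
        calc v = b⁻¹ * (b * v * b⁻¹ * b) := by group
          _ = b⁻¹ * (b * (b * v * b⁻¹)) := by rw [h3]
          _ = b * v * b⁻¹ := by group
      rw [this]; exact hv
  have hprod := card_sup_mul_card_inf hnorm
  -- (iv) `V ∩ A ∩ Q` centralizes `a`
  have hle : V ⊓ (A ⊓ Q) ≤ V ⊓ Subgroup.centralizer ({a} : Set H) := by
    intro y hy
    refine Subgroup.mem_inf.mpr ⟨hy.1, ?_⟩
    rw [Subgroup.mem_centralizer_singleton_iff]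
    exact hEA.comm hy.2.1 haA
  have hle' := Subgroup.card_le_of_le hle
  have hpos : 0 < Nat.card ↥(A ⊓ Q : Subgroup H) := Nat.card_pos
  -- arithmetic
  have h4 : Nat.card ↥V * Nat.card ↥(A ⊓ Q : Subgroup H)
      ≤ (2 * Nat.card ↥(V ⊓ (A ⊓ Q) : Subgroup H)) * Nat.card ↥(A ⊓ Q : Subgroup H) := by
    calc Nat.card ↥V * Nat.card ↥(A ⊓ Q : Subgroup H)
        = Nat.card ↥(V ⊔ (A ⊓ Q) : Subgroup H) * Nat.card ↥(V ⊓ (A ⊓ Q) : Subgroup H) := hprod.symm
      _ ≤ Nat.card ↥A * Nat.card ↥(V ⊓ (A ⊓ Q) : Subgroup H) := Nat.mul_le_mul_right _ hBA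
      _ = (2 * Nat.card ↥(V ⊓ (A ⊓ Q) : Subgroup H)) * Nat.card ↥(A ⊓ Q : Subgroup H) := by
          rw [← hcardA]; ring
  have h5 := Nat.le_of_mul_le_mul_right h4 hpos
  omega

end Cfsg.Agent.Lib.Helper42.SimsLocT
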