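import Mathlib
import Cfsg.Agent.Lib.Helper11.CAClass
import Cfsg.Agent.Lib.Helper6.DihedralRec

set_option autoImplicit false

/-!
# Groups partitioned by cyclic TI subgroups with small normalizers (helper42)

Abstract setting for the `p'`-case of Dickson's theorem: a finite group `G` together with a
conjugation-equivariant assignment `x ↦ A x` of a cyclic subgroup containing `x` to each `x ≠ 1`,
such that the `A x` partition `G \ {1}`, `A x` has index at most two in its normalizer and the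
elements of the normalizer outside `A x` invert `A x`.

This file: basic lemmas, the cover count, recognition lemmas (dihedral, symmetric/alternating via a
subgroup of small index with trivial core).
-/

namespace Cfsg.Agent.Lib.Helper42

open Cfsg.Agent.Lib.Helper11

/-- partition data -/
structure PData {G : Type*} [Group G] (A : G → Subgroup G) : Prop where
  mem : ∀ x, x ≠ 1 → x ∈ A x
  eq_of_mem : ∀ x, x ≠ 1 → ∀ x' ∈ A x, x' ≠ 1 → A x' = A x
  conj : ∀ x, x ≠ 1 → ∀ g a, a ∈ A x → g * a * g⁻¹ ∈ A (g * x * g⁻¹)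
  cyc : ∀ x, x ≠ 1 → IsCyclic (A x)
  inv : ∀ x, x ≠ 1 → ∀ g ∈ Subgroup.normalizer (A x : Set G), g ∉ A x →
    ∀ a ∈ A x, g * a * g⁻¹ = a⁻¹
  idx : ∀ x, x ≠ 1 → ∀ g ∈ Subgroup.normalizer (A x : Set G),
    ∀ g' ∈ Subgroup.normalizer (A x : Set G), g ∉ A x → g' ∉ A x → g * g' ∈ A x

section

variable {G : Type*} [Group G] {A : G → Subgroup G}

/-- the nontrivial elements conjugate into `A x` -/
abbrev cov (A : G → Subgroup G) (x : G) : Set G := coverZ (⊥ : Subgroup G) (A x)

theorem mem_cov {x y : G} : y ∈ cov A x ↔ y ≠ 1 ∧ ∃ k, k⁻¹ * y * k ∈ A x := by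
  simp only [cov, mem_coverZ, Subgroup.mem_bot]

theorem conj_ne_one' {x : G} (hx : x ≠ 1) (g : G) : g * x * g⁻¹ ≠ 1 := by
  intro h
  apply hx
  have : x = g⁻¹ * (g * x * g⁻¹) * g := by group
  rw [this, h]; group

variable (h : PData A)
include h

theorem PData.conj_iff {x : G} (hx : x ≠ 1) (g a : G) :
    a ∈ A x ↔ g * a * g⁻¹ ∈ A (g * x * g⁻¹) := by
  constructor
  · exact h.conj x hx g a
  · intro ha
    have := h.conj (g * x * g⁻¹) (conj_ne_one' hx g) g⁻¹ _ ha
    have e1 : g⁻¹ * (g * a * g⁻¹) * g⁻¹⁻¹ = a := by group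
    have e2 : g⁻¹ * (g * x * g⁻¹) * g⁻¹⁻¹ = x := by group
    rwa [e1, e2] at this

theorem PData.mem_normalizer {x : G} (hx : x ≠ 1) {a k : G} (ha : a ∈ A x) (ha1 : a ≠ 1)
    (hk : k * a * k⁻¹ ∈ A x) : k ∈ Subgroup.normalizer (A x : Set G) := by
  have e1 : A a = A x := h.eq_of_mem x hx a ha ha1
  have e2 : A (k * a * k⁻¹) = A x := h.eq_of_mem x hx _ hk (conj_ne_one' ha1 k)
  rw [Subgroup.mem_normalizer_iff]
  intro b
  have := h.conj_iff ha1 k b
  rw [e1, e2] at this
  exact this

theorem PData.centralizer_le_normalizer {x : G} (hx : x ≠ 1) {c : G} (hc : c * x = x * c) :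
    c ∈ Subgroup.normalizer (A x : Set G) := by
  apply h.mem_normalizer hx (h.mem x hx) hx
  have : c * x * c⁻¹ = x := by rw [hc]; group
  rw [this]; exact h.mem x hx

theorem PData.ncard_cov [Finite G] {x : G} (hx : x ≠ 1) :
    (cov A x).ncard = (Subgroup.normalizer (A x : Set G)).index * (Nat.card (A x) - 1) := by
  have := ncard_coverZ (⊥ : Subgroup G) (A x) (Subgroup.normalizer (A x : Set G)) bot_le bot_le
    (fun n hn a ha => (Subgroup.mem_normalizer_iff.mp hn a).mp ha)
    (fun k a ha ha1 hk => h.mem_normalizer hx ha (fun hh => ha1 (Subgroup.mem_bot.mpr hh)) hk)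
  rw [Subgroup.card_bot] at this
  exact this

theorem PData.two_le_card [Finite G] {x : G} (hx : x ≠ 1) : 2 ≤ Nat.card (A x) := by
  have hne : A x ≠ ⊥ := by
    intro hh
    have := h.mem x hx
    rw [hh, Subgroup.mem_bot] at this
    exact hx this
  have := (Subgroup.one_lt_card_iff_ne_bot (A x)).mpr hne
  omega

/-- the normalizer of `A x` is `A x` or has twice its order -/
theorem PData.normalizer_card [Finite G] {x : G} (hx : x ≠ 1) :
    Subgroup.normalizer (A x : Set G) = A x ∨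
      Nat.card (Subgroup.normalizer (A x : Set G)) = 2 * Nat.card (A x) := by
  set M := Subgroup.normalizer (A x : Set G) with hM
  have hAM : A x ≤ M := Subgroup.le_normalizer
  by_cases hle : M ≤ A x
  · left; exact le_antisymm hle hAM
  right
  obtain ⟨n₀, hn₀M, hn₀A⟩ := SetLike.not_le_iff_exists.mp hle
  have hidx : ((A x).subgroupOf M).index = 2 := by
    rw [Subgroup.index_eq_two_iff]
    refine ⟨⟨n₀, hn₀M⟩, ?_⟩
    rintro ⟨b, hb⟩
    simp only [Subgroup.mem_subgroupOf, Subgroup.coe_mul]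
    by_cases hbA : b ∈ A x
    · refine Or.inr ⟨hbA, ?_⟩
      intro hbn
      apply hn₀A
      have : n₀ = b⁻¹ * (b * n₀) := by group
      rw [this]
      exact (A x).mul_mem ((A x).inv_mem hbA) hbn
    · exact Or.inl ⟨h.idx x hx b hb n₀ hn₀M hbA hn₀A, hbA⟩
  have h3 := Subgroup.index_mul_card ((A x).subgroupOf M)
  rw [hidx, Nat.card_congr (Subgroup.subgroupOfEquivOfLe hAM).toEquiv] at h3
  exact h3.symm

theorem self_mem_cov' {x : G} (hx : x ≠ 1) : x ∈ cov A x :=
  mem_cov.mpr ⟨hx, 1, by simpa using h.mem x hx⟩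

theorem PData.cov_disjoint {x y : G} (hx : x ≠ 1) (hy : y ≠ 1) (hn : y ∉ cov A x) :
    Disjoint (cov A x) (cov A y) := by
  rw [Set.disjoint_left]
  intro w hw hw'
  obtain ⟨hw1, k, hk⟩ := mem_cov.mp hw
  obtain ⟨-, l, hl⟩ := mem_cov.mp hw'
  apply hn
  have hk1 : k⁻¹ * w * k ≠ 1 := by
    have := conj_ne_one' hw1 k⁻¹
    rwa [inv_inv] at this
  have hl1 : l⁻¹ * w * l ≠ 1 := by
    have := conj_ne_one' hw1 l⁻¹
    rwa [inv_inv] at this
  have e1 : A (k⁻¹ * w * k) = A x := h.eq_of_mem x hx _ hk hk1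
  have e2 : A (l⁻¹ * w * l) = A y := h.eq_of_mem y hy _ hl hl1
  refine mem_cov.mpr ⟨hy, l⁻¹ * k, ?_⟩
  rw [← e1]
  have hy' : y ∈ A (l⁻¹ * w * l) := by rw [e2]; exact h.mem y hy
  have := (h.conj_iff hl1 (l⁻¹ * k)⁻¹ y).mp hy'
  have e3 : (l⁻¹ * k)⁻¹ * (l⁻¹ * w * l) * (l⁻¹ * k)⁻¹⁻¹ = k⁻¹ * w * k := by group
  rw [e3, inv_inv] at this
  exact this

omit h in
theorem cov_pow_card_eq_one [Finite G] {x y : G} (hy : y ∈ cov A x) :
    y ^ Nat.card (A x) = 1 := by
  obtain ⟨-, k, hk⟩ := mem_cov.mp hy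
  have h1 : (⟨k⁻¹ * y * k, hk⟩ : A x) ^ Nat.card (A x) = 1 := pow_card_eq_one'
  have h2 : (k⁻¹ * y * k) ^ Nat.card (A x) = 1 := by
    have := congrArg Subtype.val h1
    rw [Subgroup.coe_pow, Subgroup.coe_one] at this
    exact this
  have h3 : (k⁻¹ * y * k) ^ Nat.card (A x) = k⁻¹ * y ^ Nat.card (A x) * k := by
    have := conj_pow (a := k⁻¹) (b := y) (i := Nat.card (A x))
    rw [inv_inv] at this
    exact this
  rw [h3] at h2
  calc y ^ Nat.card (A x) = k * (k⁻¹ * y ^ Nat.card (A x) * k) * k⁻¹ := by group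
    _ = 1 := by rw [h2]; group

omit h in
/-- a normal subgroup meeting a cover of a subgroup of prime order contains the cover -/
theorem cov_subset_normal [Finite G] {x : G} (hp : (Nat.card (A x)).Prime)
    (C : Subgroup G) [C.Normal] {g : G} (hg : g ∈ C) (hgc : g ∈ cov A x) :
    (cov A x).ncard + 1 ≤ Nat.card C := by
  classical
  obtain ⟨hg1, l, hl⟩ := mem_cov.mp hgc
  have hl1 : l⁻¹ * g * l ≠ 1 := by
    have := conj_ne_one' hg1 l⁻¹
    rwa [inv_inv] at this
  have hlC : l⁻¹ * g * l ∈ C := by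
    have := ‹C.Normal›.conj_mem g hg l⁻¹
    rwa [inv_inv] at this
  have hAC : A x ≤ C := by
    intro a ha
    have : Fact (Nat.card (A x)).Prime := ⟨hp⟩
    have hne : (⟨l⁻¹ * g * l, hl⟩ : A x) ≠ 1 := fun hh => hl1 (congrArg Subtype.val hh)
    have := mem_zpowers_of_prime_card (G := A x) rfl hne (g' := ⟨a, ha⟩)
    obtain ⟨n, hn⟩ := Subgroup.mem_zpowers_iff.mp this
    have hn' : (l⁻¹ * g * l) ^ n = a := by
      have := congrArg Subtype.val hn
      simpa using this
    rw [← hn']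
    exact C.zpow_mem hlC n
  have hsub : insert (1 : G) (cov A x) ⊆ (C : Set G) := by
    intro w hw
    rcases Set.mem_insert_iff.mp hw with rfl | hw
    · exact C.one_mem
    · obtain ⟨-, k, hk⟩ := mem_cov.mp hw
      have h1 := ‹C.Normal›.conj_mem _ (hAC hk) k
      have e : k * (k⁻¹ * w * k) * k⁻¹ = w := by group
      rw [e] at h1
      exact h1
  have h1 : (1 : G) ∉ cov A x := fun hh => (mem_cov.mp hh).1 rfl
  have h2 := Set.ncard_le_ncard hsub (Set.toFinite _)
  rw [Set.ncard_insert_of_notMem h1 (Set.toFinite _)] at h2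
  have h3 : (C : Set G).ncard = Nat.card C := by
    rw [← Nat.card_coe_set_eq]; rfl
  omega

/-- dihedral recognition -/
theorem PData.dihedral [Finite G] {x : G} (hx : x ≠ 1)
    (hN : Subgroup.normalizer (A x : Set G) = ⊤) (hcard : Nat.card G = 2 * Nat.card (A x)) :
    Nonempty (G ≃* DihedralGroup (Nat.card (A x))) := by
  have hmemN : ∀ g : G, g ∈ Subgroup.normalizer (A x : Set G) := fun g => by rw [hN]; trivial
  have hne : ∃ τ, τ ∉ A x := by
    by_contra hh
    push Not at hh
    have : A x = ⊤ := by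
      rw [eq_top_iff]; intro g _; exact hh g
    have h1 : Nat.card (A x) = Nat.card G := by rw [this]; exact Subgroup.card_top
    have h2 : 0 < Nat.card G := Nat.card_pos
    omega
  obtain ⟨τ, hτ⟩ := hne
  have hτ1 : τ ≠ 1 := fun hh => hτ (hh ▸ (A x).one_mem)
  have hττ : τ * τ = 1 := by
    by_contra hne
    have h1 : τ * τ ∈ A x := h.idx x hx τ (hmemN τ) τ (hmemN τ) hτ hτ
    have h2 : A (τ * τ) = A x := h.eq_of_mem x hx _ h1 hne
    have h3 : A (τ * τ) = A τ :=
      h.eq_of_mem τ hτ1 _ ((A τ).mul_mem (h.mem τ hτ1) (h.mem τ hτ1)) hne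
    apply hτ
    rw [← h2, h3]
    exact h.mem τ hτ1
  have hτinv : τ⁻¹ = τ := inv_eq_of_mul_eq_one_left hττ
  have hcyc := h.cyc x hx
  let e : Multiplicative (ZMod (Nat.card (A x))) ≃* A x := zmodCyclicMulEquiv hcyc
  let ρ : Multiplicative (ZMod (Nat.card (A x))) →* G := (A x).subtype.comp e.toMonoidHom
  have hρmem : ∀ i, ρ i ∈ A x := fun i => (e i).2
  refine Cfsg.Agent.Lib.Helper6.nonempty_mulEquiv_dihedral ρ ?_ τ hττ ?_ ?_ ?_
  · intro i j hij
    apply e.injective
    exact Subtype.ext hij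
  · intro i
    have := h.inv x hx τ (hmemN τ) hτ (ρ i) (hρmem i)
    rw [hτinv] at this
    rw [this, map_inv]
  · intro i hh
    exact hτ (hh ▸ hρmem i)
  · intro g
    by_cases hg : g ∈ A x
    · left
      obtain ⟨i, hi⟩ := e.surjective ⟨g, hg⟩
      refine ⟨i, ?_⟩
      show g = ((e i : A x) : G)
      rw [hi]
    · right
      have h1 : τ * g ∈ A x := h.idx x hx τ (hmemN τ) g (hmemN g) hτ hg
      obtain ⟨i, hi⟩ := e.surjective ⟨τ * g, h1⟩
      refine ⟨i, ?_⟩
      show g = τ * ((e i : A x) : G)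
      rw [hi]
      show g = τ * (τ * g)
      rw [← mul_assoc, hττ, one_mul]

end

section Recognition

variable {G : Type*} [Group G] [Finite G]

omit [Finite G] in
theorem toPermHom_injective_of_core (N : Subgroup G) (hcore : N.normalCore = ⊥) :
    Function.Injective (MulAction.toPermHom G (G ⧸ N)) := by
  rw [← MonoidHom.ker_eq_bot_iff, ← Subgroup.normalCore_eq_ker, hcore]

theorem card_perm_quotient (N : Subgroup G) (m : ℕ) (hidx : N.index = m) :
    Nat.card (Equiv.Perm (G ⧸ N)) = m.factorial := by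
  classical
  have := Fintype.ofFinite (G ⧸ N)
  rw [Nat.card_eq_fintype_card, Fintype.card_perm, ← Nat.card_eq_fintype_card, ← hidx]
  rfl

/-- a group of order `m!` with a subgroup of index `m` with trivial core is `S_m` -/
theorem equiv_perm_of_index (N : Subgroup G) (m : ℕ) (hidx : N.index = m)
    (hcore : N.normalCore = ⊥) (hcard : Nat.card G = m.factorial) :
    Nonempty (G ≃* Equiv.Perm (Fin m)) := by
  classical
  have hinj := toPermHom_injective_of_core N hcore
  have hbij : Function.Bijective (MulAction.toPermHom G (G ⧸ N)) := by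
    rw [Nat.bijective_iff_injective_and_card]
    exact ⟨hinj, by rw [hcard, card_perm_quotient N m hidx]⟩
  have e1 : G ≃* Equiv.Perm (G ⧸ N) := MulEquiv.ofBijective _ hbij
  have e0 : (G ⧸ N) ≃ Fin m := by
    have : Nat.card (G ⧸ N) = m := hidx
    exact (Finite.equivFinOfCardEq this)
  exact ⟨e1.trans (Equiv.permCongrHom e0)⟩

/-- a group of order `m!/2` with a subgroup of index `m` with trivial core is `A_m` -/
theorem equiv_alt_of_index (N : Subgroup G) (m : ℕ) (hidx : N.index = m)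
    (hcore : N.normalCore = ⊥) (hcard : 2 * Nat.card G = m.factorial) :
    Nonempty (G ≃* alternatingGroup (Fin m)) := by
  classical
  have := Fintype.ofFinite (G ⧸ N)
  have hinj := toPermHom_injective_of_core N hcore
  set φ := MulAction.toPermHom G (G ⧸ N) with hφ
  have e1 : G ≃* φ.range := MonoidHom.ofInjective hinj
  have hcr : Nat.card φ.range = Nat.card G := (Nat.card_congr e1.toEquiv).symm
  have hi : φ.range.index = 2 := by
    have h1 := Subgroup.index_mul_card φ.range
    rw [hcr, card_perm_quotient N m hidx, ← hcard] at h1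
    have hG : 0 < Nat.card G := Nat.card_pos
    have : φ.range.index * Nat.card G = 2 * Nat.card G := h1
    exact Nat.eq_of_mul_eq_mul_right hG this
  have h2 := Equiv.Perm.eq_alternatingGroup_of_index_eq_two hi
  have e0 : (G ⧸ N) ≃ Fin m := by
    have : Nat.card (G ⧸ N) = m := hidx
    exact (Finite.equivFinOfCardEq this)
  have e2 : φ.range ≃* alternatingGroup (G ⧸ N) := MulEquiv.subgroupCongr h2
  exact ⟨(e1.trans e2).trans (Equiv.altCongrHom e0)⟩

end Recognition

end Cfsg.Agent.Lib.Helper42
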