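import Mathlib
import Cfsg.Agent.Lib.Helper42.PPrimeAbs1

set_option autoImplicit false

/-!
# Classification of groups with a cyclic TI partition with small normalizers (helper42)

Main theorem `PData.classify`: such a group is trivial, equal to some `A x` (cyclic), dihedral
`DihedralGroup (card (A x))`, `A₄`, `S₄` or `A₅`.
-/

namespace Cfsg.Agent.Lib.Helper42

open Cfsg.Agent.Lib.Helper11

theorem arith_quarter (k i a p : ℕ) (hp : p = i * a) (ha : 2 ≤ a) (hk : k = p ∨ k = 2 * p) :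
    k ≤ 4 * (p - i) := by
  have h2 : 2 * i ≤ p := by rw [hp, mul_comm]; exact Nat.mul_le_mul_left i ha
  omega

theorem arith1 (k i a p : ℕ) (hp : p = i * a) (hi : 1 ≤ i) (ha : 2 ≤ a)
    (hk : k = p ∨ k = 2 * p) (hsum : p - i = k - 1) : k = p ∧ i = 1 := by
  have h2 : 2 * i ≤ p := by rw [hp, mul_comm]; exact Nat.mul_le_mul_left i ha
  omega

theorem arith2 (k i₁ a₁ p₁ i₂ a₂ p₂ : ℕ) (hp₁ : p₁ = i₁ * a₁) (hp₂ : p₂ = i₂ * a₂)
    (hi₁ : 1 ≤ i₁) (hi₂ : 1 ≤ i₂) (ha₁ : 2 ≤ a₁) (h12 : a₁ ≤ a₂)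
    (hk₁ : k = p₁ ∨ k = 2 * p₁) (hk₂ : k = p₂ ∨ k = 2 * p₂)
    (hsum : (p₁ - i₁) + (p₂ - i₂) = k - 1) :
    (k = 2 * p₂ ∧ i₂ = 1) ∨ (k = 2 * p₁ ∧ i₁ = 1) ∨
      (k = 2 * p₁ ∧ k = p₂ ∧ a₁ = 2 ∧ a₂ = 3 ∧ k = 12 ∧ i₁ = 3 ∧ i₂ = 4) := by
  have hb₁ : 2 * i₁ ≤ p₁ := by rw [hp₁, mul_comm]; exact Nat.mul_le_mul_left i₁ ha₁
  have hb₂ : 2 * i₂ ≤ p₂ := by rw [hp₂, mul_comm]; exact Nat.mul_le_mul_left i₂ (ha₁.trans h12)
  by_cases h3 : 3 ≤ a₁
  · exfalso
    have hc₁ : 3 * i₁ ≤ p₁ := by rw [hp₁, mul_comm]; exact Nat.mul_le_mul_left i₁ h3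
    have hc₂ : 3 * i₂ ≤ p₂ := by rw [hp₂, mul_comm]; exact Nat.mul_le_mul_left i₂ (h3.trans h12)
    omega
  · have ha : a₁ = 2 := by omega
    subst ha
    rcases hk₁ with hk₁ | hk₁ <;> rcases hk₂ with hk₂ | hk₂
    · exfalso; omega
    · left; omega
    · by_cases h4 : 4 ≤ a₂
      · exfalso
        have hc₂ : 4 * i₂ ≤ p₂ := by rw [hp₂, mul_comm]; exact Nat.mul_le_mul_left i₂ h4
        omega
      · have : a₂ = 2 ∨ a₂ = 3 := by omega
        rcases this with rfl | rfl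
        · right; left; omega
        · right; right; omega
    · exfalso; omega

theorem arith3 (k i₁ a₁ p₁ i₂ a₂ p₂ i₃ a₃ p₃ : ℕ) (hp₁ : p₁ = i₁ * a₁) (hp₂ : p₂ = i₂ * a₂)
    (hp₃ : p₃ = i₃ * a₃) (hi₁ : 1 ≤ i₁) (hi₂ : 1 ≤ i₂) (hi₃ : 1 ≤ i₃)
    (ha₁ : 2 ≤ a₁) (h12 : a₁ ≤ a₂) (h23 : a₂ ≤ a₃)
    (hk₁ : k = p₁ ∨ k = 2 * p₁) (hk₂ : k = p₂ ∨ k = 2 * p₂) (hk₃ : k = p₃ ∨ k = 2 * p₃)
    (hsum : (p₁ - i₁) + (p₂ - i₂) + (p₃ - i₃) = k - 1) :
    k = 2 * p₁ ∧ k = 2 * p₂ ∧ k = 2 * p₃ ∧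
      ((i₃ = 1) ∨ (a₁ = 2 ∧ a₂ = 3 ∧ a₃ = 3 ∧ k = 12) ∨ (a₁ = 2 ∧ a₂ = 3 ∧ a₃ = 4 ∧ k = 24) ∨
        (a₁ = 2 ∧ a₂ = 3 ∧ a₃ = 5 ∧ k = 60)) := by
  have hb₁ : 2 * i₁ ≤ p₁ := by rw [hp₁, mul_comm]; exact Nat.mul_le_mul_left i₁ ha₁
  have hb₂ : 2 * i₂ ≤ p₂ := by rw [hp₂, mul_comm]; exact Nat.mul_le_mul_left i₂ (ha₁.trans h12)
  have hb₃ : 2 * i₃ ≤ p₃ := by
    rw [hp₃, mul_comm]; exact Nat.mul_le_mul_left i₃ ((ha₁.trans h12).trans h23)
  have hall : k = 2 * p₁ ∧ k = 2 * p₂ ∧ k = 2 * p₃ := by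
    rcases hk₁ with hk₁ | hk₁ <;> rcases hk₂ with hk₂ | hk₂ <;> rcases hk₃ with hk₃ | hk₃ <;>
      first
        | exact ⟨hk₁, hk₂, hk₃⟩
        | (exfalso; omega)
  obtain ⟨e₁, e₂, e₃⟩ := hall
  refine ⟨e₁, e₂, e₃, ?_⟩
  by_cases h3 : 3 ≤ a₁
  · exfalso
    have hc₁ : 3 * i₁ ≤ p₁ := by rw [hp₁, mul_comm]; exact Nat.mul_le_mul_left i₁ h3
    have hc₂ : 3 * i₂ ≤ p₂ := by rw [hp₂, mul_comm]; exact Nat.mul_le_mul_left i₂ (h3.trans h12)
    have hc₃ : 3 * i₃ ≤ p₃ := by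
      rw [hp₃, mul_comm]; exact Nat.mul_le_mul_left i₃ ((h3.trans h12).trans h23)
    omega
  have ha : a₁ = 2 := by omega
  subst ha
  by_cases h4 : 4 ≤ a₂
  · exfalso
    have hc₂ : 4 * i₂ ≤ p₂ := by rw [hp₂, mul_comm]; exact Nat.mul_le_mul_left i₂ h4
    have hc₃ : 4 * i₃ ≤ p₃ := by rw [hp₃, mul_comm]; exact Nat.mul_le_mul_left i₃ (h4.trans h23)
    omega
  have : a₂ = 2 ∨ a₂ = 3 := by omega
  rcases this with rfl | rfl
  · left; omega
  · by_cases h6 : 6 ≤ a₃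
    · exfalso
      have hc₃ : 6 * i₃ ≤ p₃ := by rw [hp₃, mul_comm]; exact Nat.mul_le_mul_left i₃ h6
      omega
    have : a₃ = 3 ∨ a₃ = 4 ∨ a₃ = 5 := by omega
    rcases this with rfl | rfl | rfl
    · right; left; omega
    · right; right; left; omega
    · right; right; right; omega

theorem arith4 (k n₁ n₂ n₃ n₄ : ℕ) (hk : 1 ≤ k) (h₁ : k ≤ 4 * n₁) (h₂ : k ≤ 4 * n₂)
    (h₃ : k ≤ 4 * n₃) (h₄ : k ≤ 4 * n₄) (hsum : n₁ + n₂ + n₃ + n₄ ≤ k - 1) : False := by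
  omega

theorem exists_min_of_exists {α : Type*} (P : α → Prop) (f : α → ℕ) (hex : ∃ x, P x) :
    ∃ x, P x ∧ ∀ y, P y → f x ≤ f y := by
  classical
  have hex' : ∃ n, ∃ x, P x ∧ f x = n := by
    obtain ⟨x, hx⟩ := hex
    exact ⟨f x, x, hx, rfl⟩
  obtain ⟨x, hx, hfx⟩ := Nat.find_spec hex'
  refine ⟨x, hx, fun y hy => ?_⟩
  rw [hfx]
  exact Nat.find_min' hex' ⟨y, hy, rfl⟩

section

variable {G : Type*} [Group G] {A : G → Subgroup G}
variable (h : PData A)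
include h

theorem PData.A_conj {x : G} (hx : x ≠ 1) (g : G) :
    A (g * x * g⁻¹) = (A x).map (MulAut.conj g).toMonoidHom := by
  ext b
  rw [Subgroup.mem_map]
  constructor
  · intro hb
    refine ⟨g⁻¹ * b * g, ?_, ?_⟩
    · rw [h.conj_iff hx g (g⁻¹ * b * g)]
      have e : g * (g⁻¹ * b * g) * g⁻¹ = b := by group
      rw [e]; exact hb
    · show (MulAut.conj g) (g⁻¹ * b * g) = b
      rw [MulAut.conj_apply]; group
  · rintro ⟨a, ha, rfl⟩
    show (MulAut.conj g) a ∈ _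
    rw [MulAut.conj_apply]
    exact h.conj x hx g a ha

theorem PData.card_A_conj [Finite G] {x : G} (hx : x ≠ 1) (g : G) :
    Nat.card (A (g * x * g⁻¹)) = Nat.card (A x) := by
  rw [h.A_conj hx g]
  exact Subgroup.card_map_of_injective (MulAut.conj g).injective

theorem PData.normalizer_A_conj {x : G} (hx : x ≠ 1) (g : G) :
    Subgroup.normalizer (A (g * x * g⁻¹) : Set G)
      = (Subgroup.normalizer (A x : Set G)).map (MulAut.conj g).toMonoidHom := by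
  rw [h.A_conj hx g, Subgroup.map_equiv_normalizer_eq]

theorem PData.card_normalizer_A_conj [Finite G] {x : G} (hx : x ≠ 1) (g : G) :
    Nat.card (Subgroup.normalizer (A (g * x * g⁻¹) : Set G))
      = Nat.card (Subgroup.normalizer (A x : Set G)) := by
  rw [h.normalizer_A_conj hx g]
  exact Subgroup.card_map_of_injective (MulAut.conj g).injective

/-- the numerical data attached to a nontrivial element -/
theorem PData.numeric [Finite G] {x : G} (hx : x ≠ 1) :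
    ∃ i : ℕ, 1 ≤ i ∧ i = (Subgroup.normalizer (A x : Set G)).index ∧
      (cov A x).ncard = i * Nat.card (A x) - i ∧
      ((Nat.card G = i * Nat.card (A x) ∧ Subgroup.normalizer (A x : Set G) = A x) ∨
       (Nat.card G = 2 * (i * Nat.card (A x)) ∧
          Nat.card (Subgroup.normalizer (A x : Set G)) = 2 * Nat.card (A x))) := by
  refine ⟨(Subgroup.normalizer (A x : Set G)).index, ?_, rfl, ?_, ?_⟩
  · have : (Subgroup.normalizer (A x : Set G)).index ≠ 0 := Subgroup.index_ne_zero_of_finite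
    omega
  · rw [h.ncard_cov hx, Nat.mul_sub_one]
  · have hk := Subgroup.index_mul_card (Subgroup.normalizer (A x : Set G))
    rcases h.normalizer_card hx with hN | hN
    · left
      refine ⟨?_, hN⟩
      have hc : Nat.card (Subgroup.normalizer (A x : Set G)) = Nat.card (A x) := by rw [hN]
      rw [← hk, hc]
    · right
      refine ⟨?_, hN⟩
      rw [← hk, hN]; ring

/-- elements of odd order three in the normalizer of `A x` lie in `A x` -/
theorem PData.mem_of_pow_three {x : G} (hx : x ≠ 1) {n : G}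
    (hn : n ∈ Subgroup.normalizer (A x : Set G)) (hn3 : n ^ 3 = 1) : n ∈ A x := by
  by_contra hnA
  have h1 : n * n ∈ A x := h.idx x hx n hn n hn hnA hnA
  apply hnA
  have : n = (n * n)⁻¹ := by
    rw [eq_inv_iff_mul_eq_one]
    rw [← hn3, pow_succ, pow_two]; group
  rw [this]
  exact (A x).inv_mem h1

theorem PData.caseA4 [Finite G] {x₂ : G} (hx₂ : x₂ ≠ 1)
    (hN : Subgroup.normalizer (A x₂ : Set G) = A x₂) (ha : Nat.card (A x₂) = 3)
    (hk : Nat.card G = 12) : Nonempty (G ≃* alternatingGroup (Fin 4)) := by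
  have hNc : Nat.card (Subgroup.normalizer (A x₂ : Set G)) = 3 := by rw [hN, ha]
  have hidx : (Subgroup.normalizer (A x₂ : Set G)).index = 4 := by
    have := Subgroup.index_mul_card (Subgroup.normalizer (A x₂ : Set G))
    rw [hNc, hk] at this
    omega
  have hcov : (cov A x₂).ncard = 8 := by rw [h.ncard_cov hx₂, hidx, ha]
  have hcore : (Subgroup.normalizer (A x₂ : Set G)).normalCore = ⊥ := by
    rw [eq_bot_iff]
    intro g hg
    rw [Subgroup.mem_bot]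
    by_contra hg1
    have hgN : g ∈ Subgroup.normalizer (A x₂ : Set G) := Subgroup.normalCore_le _ hg
    have hgA : g ∈ A x₂ := by rw [hN] at hgN; exact hgN
    have hgc : g ∈ cov A x₂ := mem_cov.mpr ⟨hg1, 1, by simpa using hgA⟩
    have h1 := cov_subset_normal (by rw [ha]; exact Nat.prime_three)
      (Subgroup.normalizer (A x₂ : Set G)).normalCore hg hgc
    have hle := Subgroup.card_le_of_le (Subgroup.normalCore_le (Subgroup.normalizer (A x₂ : Set G)))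
    omega
  exact equiv_alt_of_index _ 4 hidx hcore (by rw [hk]; rfl)

theorem PData.caseS4 [Finite G] {x₂ : G} (hx₂ : x₂ ≠ 1)
    (hN : Nat.card (Subgroup.normalizer (A x₂ : Set G)) = 6) (ha : Nat.card (A x₂) = 3)
    (hk : Nat.card G = 24) : Nonempty (G ≃* Equiv.Perm (Fin 4)) := by
  have hidx : (Subgroup.normalizer (A x₂ : Set G)).index = 4 := by
    have := Subgroup.index_mul_card (Subgroup.normalizer (A x₂ : Set G))
    rw [hN, hk] at this
    omega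
  have hcov : (cov A x₂).ncard = 8 := by rw [h.ncard_cov hx₂, hidx, ha]
  have hle := Subgroup.card_le_of_le (Subgroup.normalCore_le (Subgroup.normalizer (A x₂ : Set G)))
  have hx₂3 : x₂ ^ 3 = 1 := by
    have h1 : (⟨x₂, h.mem x₂ hx₂⟩ : A x₂) ^ Nat.card (A x₂) = 1 := pow_card_eq_one'
    have := congrArg Subtype.val h1
    rw [Subgroup.coe_pow, Subgroup.coe_one, ha] at this
    exact this
  have hbad : ∀ g, g ∈ (Subgroup.normalizer (A x₂ : Set G)).normalCore → g ∈ A x₂ → g ≠ 1 →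
      False := by
    intro g hg hgA hg1
    have hgc : g ∈ cov A x₂ := mem_cov.mpr ⟨hg1, 1, by simpa using hgA⟩
    have h1 := cov_subset_normal (by rw [ha]; exact Nat.prime_three)
      (Subgroup.normalizer (A x₂ : Set G)).normalCore hg hgc
    omega
  have hcore : (Subgroup.normalizer (A x₂ : Set G)).normalCore = ⊥ := by
    rw [eq_bot_iff]
    intro g hg
    rw [Subgroup.mem_bot]
    by_contra hg1
    have hgN : g ∈ Subgroup.normalizer (A x₂ : Set G) := Subgroup.normalCore_le _ hg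
    by_cases hgA : g ∈ A x₂
    · exact hbad g hg hgA hg1
    · have hinv := h.inv x₂ hx₂ g hgN hgA x₂ (h.mem x₂ hx₂)
      have hnorm : (Subgroup.normalizer (A x₂ : Set G)).normalCore.Normal := inferInstance
      have h1 : x₂ * g * x₂⁻¹ ∈ (Subgroup.normalizer (A x₂ : Set G)).normalCore :=
        hnorm.conj_mem g hg x₂
      have h2 : x₂ * g * x₂⁻¹ * g⁻¹ ∈ (Subgroup.normalizer (A x₂ : Set G)).normalCore :=
        Subgroup.mul_mem _ h1 (Subgroup.inv_mem _ hg)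
      have e : x₂ * g * x₂⁻¹ * g⁻¹ = x₂ * x₂ := by
        calc x₂ * g * x₂⁻¹ * g⁻¹ = x₂ * (g * x₂ * g⁻¹)⁻¹ := by group
          _ = x₂ * x₂ := by rw [hinv, inv_inv]
      rw [e] at h2
      apply hbad (x₂ * x₂) h2 ((A x₂).mul_mem (h.mem x₂ hx₂) (h.mem x₂ hx₂))
      intro h3
      apply hx₂
      calc x₂ = x₂ ^ 3 * (x₂ * x₂)⁻¹ := by rw [pow_succ, pow_two]; group
        _ = 1 := by rw [hx₂3, h3]; group
  exact equiv_perm_of_index _ 4 hidx hcore (by rw [hk]; rfl)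

theorem PData.case233 [Finite G] {x₂ x₃ : G} (hx₂ : x₂ ≠ 1) (hx₃ : x₃ ≠ 1)
    (hN : Nat.card (Subgroup.normalizer (A x₂ : Set G)) = 6) (hk : Nat.card G = 12)
    (ha₃ : Nat.card (A x₃) = 3) (hn : x₃ ∉ cov A x₂) : False := by
  have hidx : (Subgroup.normalizer (A x₂ : Set G)).index = 2 := by
    have := Subgroup.index_mul_card (Subgroup.normalizer (A x₂ : Set G))
    rw [hN, hk] at this
    omega
  have hx₃3 : x₃ ^ 3 = 1 := by
    have h1 : (⟨x₃, h.mem x₃ hx₃⟩ : A x₃) ^ Nat.card (A x₃) = 1 := pow_card_eq_one'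
    have := congrArg Subtype.val h1
    rw [Subgroup.coe_pow, Subgroup.coe_one, ha₃] at this
    exact this
  have h1 : x₃ ^ 2 ∈ Subgroup.normalizer (A x₂ : Set G) := Subgroup.sq_mem_of_index_two hidx x₃
  have h2 : x₃ ∈ Subgroup.normalizer (A x₂ : Set G) := by
    have e : x₃ = x₃ ^ 2 * x₃ ^ 2 := by
      calc x₃ = x₃ ^ 3 * x₃ := by rw [hx₃3, one_mul]
        _ = x₃ ^ 2 * x₃ ^ 2 := by rw [← pow_succ, ← pow_add]
    rw [e]
    exact Subgroup.mul_mem _ h1 h1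
  have h3 := h.mem_of_pow_three hx₂ h2 hx₃3
  exact hn (mem_cov.mpr ⟨hx₃, 1, by simpa using h3⟩)

theorem PData.caseA5 [Finite G] {x₁ x₂ x₃ : G} (hx₁ : x₁ ≠ 1) (hx₂ : x₂ ≠ 1) (hx₃ : x₃ ≠ 1)
    (ha₁ : Nat.card (A x₁) = 2) (ha₂ : Nat.card (A x₂) = 3) (ha₃ : Nat.card (A x₃) = 5)
    (hN₁ : Nat.card (Subgroup.normalizer (A x₁ : Set G)) = 4)
    (hN₂ : Nat.card (Subgroup.normalizer (A x₂ : Set G)) = 6)
    (hN₃ : Nat.card (Subgroup.normalizer (A x₃ : Set G)) = 10)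
    (hk : Nat.card G = 60)
    (hall : ∀ w, w ≠ 1 → w ∈ cov A x₁ ∨ w ∈ cov A x₂ ∨ w ∈ cov A x₃) :
    Nonempty (G ≃* alternatingGroup (Fin 5)) := by
  have hidx₁ : (Subgroup.normalizer (A x₁ : Set G)).index = 15 := by
    have := Subgroup.index_mul_card (Subgroup.normalizer (A x₁ : Set G))
    rw [hN₁, hk] at this
    omega
  have hidx₂ : (Subgroup.normalizer (A x₂ : Set G)).index = 10 := by
    have := Subgroup.index_mul_card (Subgroup.normalizer (A x₂ : Set G))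
    rw [hN₂, hk] at this
    omega
  have hidx₃ : (Subgroup.normalizer (A x₃ : Set G)).index = 6 := by
    have := Subgroup.index_mul_card (Subgroup.normalizer (A x₃ : Set G))
    rw [hN₃, hk] at this
    omega
  have hc₁ : (cov A x₁).ncard = 15 := by rw [h.ncard_cov hx₁, hidx₁, ha₁]
  have hc₂ : (cov A x₂).ncard = 20 := by rw [h.ncard_cov hx₂, hidx₂, ha₂]
  have hc₃ : (cov A x₃).ncard = 24 := by rw [h.ncard_cov hx₃, hidx₃, ha₃]
  set V := Subgroup.normalizer (A x₁ : Set G) with hV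
  have hV1 : ∀ v ∈ V, v ≠ 1 → v ∈ cov A x₁ := by
    intro v hv hv1
    have hv4 : v ^ 4 = 1 := by
      have h1 : (⟨v, hv⟩ : V) ^ Nat.card V = 1 := pow_card_eq_one'
      have := congrArg Subtype.val h1
      rw [Subgroup.coe_pow, Subgroup.coe_one, hN₁] at this
      exact this
    rcases hall v hv1 with h1 | h1 | h1
    · exact h1
    · exfalso
      have h3 := cov_pow_card_eq_one h1
      rw [ha₂] at h3
      apply hv1
      calc v = v ^ 4 * (v ^ 3)⁻¹ := by group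
        _ = 1 := by rw [hv4, h3]; group
    · exfalso
      have h5 := cov_pow_card_eq_one h1
      rw [ha₃] at h5
      apply hv1
      calc v = v ^ 5 * (v ^ 4)⁻¹ := by group
        _ = 1 := by rw [hv4, h5]; group
  have hVcomm : ∀ u ∈ V, ∀ v ∈ V, u * v = v * u := by
    have : Fact (Nat.Prime 2) := ⟨Nat.prime_two⟩
    have hcomm := IsPGroup.isMulCommutative_of_card_eq_prime_sq (p := 2) (G := V)
      (by rw [hN₁]; norm_num)
    intro u hu v hv
    exact congrArg Subtype.val (hcomm.is_comm.comm ⟨u, hu⟩ ⟨v, hv⟩)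
  have hV2 : ∀ v ∈ V, v ≠ 1 → Subgroup.normalizer (A v : Set G) = V := by
    intro v hv hv1
    obtain ⟨-, k, hk'⟩ := mem_cov.mp (hV1 v hv hv1)
    have hk1 : k⁻¹ * v * k ≠ 1 := by
      have := conj_ne_one' hv1 k⁻¹
      rwa [inv_inv] at this
    have e1 : A (k⁻¹ * v * k) = A x₁ := h.eq_of_mem x₁ hx₁ _ hk' hk1
    have hc : Nat.card (Subgroup.normalizer (A v : Set G)) = 4 := by
      have h1 := h.card_normalizer_A_conj hv1 k⁻¹
      rw [inv_inv, e1] at h1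
      rw [← h1]; exact hN₁
    have hle : V ≤ Subgroup.normalizer (A v : Set G) := by
      intro u hu
      exact h.centralizer_le_normalizer hv1 (hVcomm u hu v hv)
    exact (Subgroup.eq_of_le_of_card_ge hle (by rw [hc, hN₁])).symm
  have hTI : ∀ k : G, ∀ v ∈ V, v ∉ (⊥ : Subgroup G) → k * v * k⁻¹ ∈ V →
      k ∈ Subgroup.normalizer (V : Set G) := by
    intro k v hv hv1 hkv
    have hv1' : v ≠ 1 := fun hh => hv1 (Subgroup.mem_bot.mpr hh)
    have e1 := hV2 v hv hv1'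
    have e2 := hV2 (k * v * k⁻¹) hkv (conj_ne_one' hv1' k)
    have e3 := h.normalizer_A_conj hv1' k
    rw [e1, e2] at e3
    rw [Subgroup.mem_normalizer_iff]
    intro b
    constructor
    · intro hb
      have h1 : k * b * k⁻¹ ∈ V.map (MulAut.conj k).toMonoidHom :=
        ⟨b, hb, by show (MulAut.conj k) b = _; rw [MulAut.conj_apply]⟩
      rw [← e3] at h1
      exact h1
    · intro hb
      rw [e3] at hb
      obtain ⟨b', hb', hbb⟩ := hb
      have h2 : k * b' * k⁻¹ = k * b * k⁻¹ := by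
        have : (MulAut.conj k) b' = k * b * k⁻¹ := hbb
        rwa [MulAut.conj_apply] at this
      have : b' = b := mul_left_cancel (mul_right_cancel h2)
      rw [← this]; exact hb'
  have hcovV : coverZ (⊥ : Subgroup G) V = cov A x₁ := by
    ext w
    constructor
    · rintro ⟨hw1, k, hk'⟩
      have hw1' : w ≠ 1 := fun hh => hw1 (Subgroup.mem_bot.mpr hh)
      have hkw1 : k⁻¹ * w * k ≠ 1 := by
        have := conj_ne_one' hw1' k⁻¹
        rwa [inv_inv] at this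
      obtain ⟨-, l, hl⟩ := mem_cov.mp (hV1 _ hk' hkw1)
      refine mem_cov.mpr ⟨hw1', k * l, ?_⟩
      have : (k * l)⁻¹ * w * (k * l) = l⁻¹ * (k⁻¹ * w * k) * l := by group
      rw [this]; exact hl
    · intro hw
      obtain ⟨hw1, k, hk'⟩ := mem_cov.mp hw
      exact ⟨fun hh => hw1 (Subgroup.mem_bot.mp hh), k, Subgroup.le_normalizer hk'⟩
  have hcnt := ncard_coverZ (⊥ : Subgroup G) V (Subgroup.normalizer (V : Set G)) bot_le bot_le
    (fun n hn v hv => (Subgroup.mem_normalizer_iff.mp hn v).mp hv) hTI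
  rw [hcovV, hc₁, Subgroup.card_bot, hN₁] at hcnt
  have hMidx : (Subgroup.normalizer (V : Set G)).index = 5 := by omega
  have hMcard : Nat.card (Subgroup.normalizer (V : Set G)) = 12 := by
    have := Subgroup.index_mul_card (Subgroup.normalizer (V : Set G))
    rw [hMidx, hk] at this
    omega
  have hcore : (Subgroup.normalizer (V : Set G)).normalCore = ⊥ := by
    rw [eq_bot_iff]
    intro g hg
    rw [Subgroup.mem_bot]
    by_contra hg1
    have hle := Subgroup.card_le_of_le (Subgroup.normalCore_le (Subgroup.normalizer (V : Set G)))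
    rcases hall g hg1 with h1 | h1 | h1
    · have := cov_subset_normal (by rw [ha₁]; exact Nat.prime_two)
        (Subgroup.normalizer (V : Set G)).normalCore hg h1
      omega
    · have := cov_subset_normal (by rw [ha₂]; exact Nat.prime_three)
        (Subgroup.normalizer (V : Set G)).normalCore hg h1
      omega
    · have := cov_subset_normal (by rw [ha₃]; exact Nat.prime_five)
        (Subgroup.normalizer (V : Set G)).normalCore hg h1
      omega
  exact equiv_alt_of_index _ 5 hMidx hcore (by rw [hk]; rfl)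

omit h [Group G] in
theorem ncard_union3 [Finite G] {S T U : Set G} (h12 : Disjoint S T) (h13 : Disjoint S U)
    (h23 : Disjoint T U) : (S ∪ T ∪ U).ncard = S.ncard + T.ncard + U.ncard := by
  rw [Set.ncard_union_eq (Set.disjoint_union_left.mpr ⟨h13, h23⟩) (Set.toFinite _) (Set.toFinite _),
    Set.ncard_union_eq h12 (Set.toFinite _) (Set.toFinite _)]

omit h [Group G] in
theorem ncard_union4 [Finite G] {S T U W : Set G} (h12 : Disjoint S T) (h13 : Disjoint S U)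
    (h23 : Disjoint T U) (h14 : Disjoint S W) (h24 : Disjoint T W) (h34 : Disjoint U W) :
    (S ∪ T ∪ U ∪ W).ncard = S.ncard + T.ncard + U.ncard + W.ncard := by
  rw [Set.ncard_union_eq (Set.disjoint_union_left.mpr ⟨Set.disjoint_union_left.mpr ⟨h14, h24⟩, h34⟩)
    (Set.toFinite _) (Set.toFinite _), ncard_union3 h12 h13 h23]

omit h in
theorem ncard_ne_one [Finite G] : ({w : G | w ≠ 1} : Set G).ncard = Nat.card G - 1 := by
  have : ({w : G | w ≠ 1} : Set G) = ({1} : Set G)ᶜ := by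
    ext w; simp
  rw [this, Set.ncard_compl, Set.ncard_singleton]

/-- **Classification**: a finite group with partition data is trivial, cyclic (equal to some
`A x`), dihedral, `A₄`, `S₄` or `A₅`. -/
theorem PData.classify [Finite G] :
    (∀ x : G, x = 1) ∨ (∃ x, x ≠ 1 ∧ A x = ⊤) ∨
    (∃ x, x ≠ 1 ∧ Nonempty (G ≃* DihedralGroup (Nat.card (A x)))) ∨
    Nonempty (G ≃* alternatingGroup (Fin 4)) ∨ Nonempty (G ≃* Equiv.Perm (Fin 4)) ∨
    Nonempty (G ≃* alternatingGroup (Fin 5)) := by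
  classical
  by_cases htriv : ∀ x : G, x = 1
  · exact Or.inl htriv
  right
  push Not at htriv
  have hkpos : 1 ≤ Nat.card G := Nat.card_pos
  have hU := ncard_ne_one (G := G)
  have hsubU : ∀ x : G, cov A x ⊆ {w : G | w ≠ 1} := fun x w hw => (mem_cov.mp hw).1
  -- first class
  obtain ⟨x₁, hx₁, hmin₁⟩ :=
    exists_min_of_exists (fun x : G => x ≠ 1) (fun x => Nat.card (A x)) htriv
  obtain ⟨i₁, hi₁, hidx₁, hc₁, hcase₁⟩ := h.numeric hx₁
  have ha₁ := h.two_le_card hx₁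
  have hkk₁ : Nat.card G = i₁ * Nat.card (A x₁) ∨ Nat.card G = 2 * (i₁ * Nat.card (A x₁)) :=
    hcase₁.imp And.left And.left
  by_cases hall1 : ∀ w, w ≠ 1 → w ∈ cov A x₁
  · left
    have hs : (cov A x₁).ncard = Nat.card G - 1 := by
      rw [← hU]; congr 1
      exact Set.Subset.antisymm (hsubU x₁) (fun w hw => hall1 w hw)
    obtain ⟨e1, e2⟩ := arith1 _ _ _ _ rfl hi₁ ha₁ hkk₁ (by rw [← hc₁, hs])
    refine ⟨x₁, hx₁, ?_⟩
    apply Subgroup.eq_top_of_card_eq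
    rw [e1, e2, one_mul]
  push Not at hall1
  -- second class
  obtain ⟨x₂, ⟨hx₂, hx₂n⟩, hmin₂⟩ :=
    exists_min_of_exists (fun x : G => x ≠ 1 ∧ x ∉ cov A x₁) (fun x => Nat.card (A x)) hall1
  obtain ⟨i₂, hi₂, hidx₂, hc₂, hcase₂⟩ := h.numeric hx₂
  have h12 : Nat.card (A x₁) ≤ Nat.card (A x₂) := hmin₁ x₂ hx₂
  have hkk₂ : Nat.card G = i₂ * Nat.card (A x₂) ∨ Nat.card G = 2 * (i₂ * Nat.card (A x₂)) :=
    hcase₂.imp And.left And.left
  have hd12 := h.cov_disjoint hx₁ hx₂ hx₂n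
  -- dihedral conclusion
  have hdih : ∀ (x : G) (hx : x ≠ 1) (i : ℕ), i = (Subgroup.normalizer (A x : Set G)).index →
      Nat.card G = 2 * (i * Nat.card (A x)) → i = 1 →
      Nonempty (G ≃* DihedralGroup (Nat.card (A x))) := by
    intro x hx i hi hk hi1
    refine h.dihedral hx ?_ ?_
    · apply Subgroup.index_eq_one.mp; rw [← hi, hi1]
    · rw [hk, hi1, one_mul]
  by_cases hall2 : ∀ w, w ≠ 1 → w ∈ cov A x₁ ∨ w ∈ cov A x₂
  · have hs : (cov A x₁).ncard + (cov A x₂).ncard = Nat.card G - 1 := by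
      rw [← hU, ← Set.ncard_union_eq hd12 (Set.toFinite _) (Set.toFinite _)]; congr 1
      exact Set.Subset.antisymm (Set.union_subset (hsubU x₁) (hsubU x₂)) (fun w hw => hall2 w hw)
    rcases arith2 _ _ _ _ _ _ _ rfl rfl hi₁ hi₂ ha₁ h12 hkk₁ hkk₂ (by rw [← hc₁, ← hc₂, hs]) with
      ⟨e, ei⟩ | ⟨e, ei⟩ | ⟨e1, e2, ea1, ea2, ek, ei1, ei2⟩
    · right; left
      exact ⟨x₂, hx₂, hdih x₂ hx₂ i₂ hidx₂ e ei⟩
    · right; left
      exact ⟨x₁, hx₁, hdih x₁ hx₁ i₁ hidx₁ e ei⟩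
    · right; right; left
      rcases hcase₂ with ⟨-, hN⟩ | ⟨hk2, -⟩
      · exact h.caseA4 hx₂ hN ea2 ek
      · omega
  push Not at hall2
  -- third class
  obtain ⟨x₃, hx₃, hx₃n1, hx₃n2⟩ := hall2
  obtain ⟨i₃, hi₃, hidx₃, hc₃, hcase₃⟩ := h.numeric hx₃
  have h23 : Nat.card (A x₂) ≤ Nat.card (A x₃) := hmin₂ x₃ ⟨hx₃, hx₃n1⟩
  have hkk₃ : Nat.card G = i₃ * Nat.card (A x₃) ∨ Nat.card G = 2 * (i₃ * Nat.card (A x₃)) :=
    hcase₃.imp And.left And.left
  have hd13 := h.cov_disjoint hx₁ hx₃ hx₃n1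
  have hd23 := h.cov_disjoint hx₂ hx₃ hx₃n2
  by_cases hall3 : ∀ w, w ≠ 1 → w ∈ cov A x₁ ∨ w ∈ cov A x₂ ∨ w ∈ cov A x₃
  · have hs : (cov A x₁).ncard + (cov A x₂).ncard + (cov A x₃).ncard = Nat.card G - 1 := by
      rw [← hU, ← ncard_union3 hd12 hd13 hd23]; congr 1
      refine Set.Subset.antisymm
        (Set.union_subset (Set.union_subset (hsubU x₁) (hsubU x₂)) (hsubU x₃)) (fun w hw => ?_)
      rcases hall3 w hw with h1 | h1 | h1
      · exact Or.inl (Or.inl h1)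
      · exact Or.inl (Or.inr h1)
      · exact Or.inr h1
    obtain ⟨e₁, e₂, e₃, hout⟩ := arith3 _ _ _ _ _ _ _ _ _ _ rfl rfl rfl hi₁ hi₂ hi₃ ha₁ h12 h23
      hkk₁ hkk₂ hkk₃ (by rw [← hc₁, ← hc₂, ← hc₃, hs])
    have hN₁ : Nat.card (Subgroup.normalizer (A x₁ : Set G)) = 2 * Nat.card (A x₁) := by
      rcases hcase₁ with ⟨hk1, -⟩ | ⟨-, hN⟩
      · omega
      · exact hN
    have hN₂ : Nat.card (Subgroup.normalizer (A x₂ : Set G)) = 2 * Nat.card (A x₂) := by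
      rcases hcase₂ with ⟨hk1, -⟩ | ⟨-, hN⟩
      · omega
      · exact hN
    have hN₃ : Nat.card (Subgroup.normalizer (A x₃ : Set G)) = 2 * Nat.card (A x₃) := by
      rcases hcase₃ with ⟨hk1, -⟩ | ⟨-, hN⟩
      · omega
      · exact hN
    rcases hout with ei | ⟨ea1, ea2, ea3, ek⟩ | ⟨ea1, ea2, ea3, ek⟩ | ⟨ea1, ea2, ea3, ek⟩
    · right; left
      exact ⟨x₃, hx₃, hdih x₃ hx₃ i₃ hidx₃ e₃ ei⟩
    · exfalso
      exact h.case233 hx₂ hx₃ (by rw [hN₂, ea2]) ek ea3 hx₃n2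
    · right; right; right; left
      exact h.caseS4 hx₂ (by rw [hN₂, ea2]) ea2 ek
    · right; right; right; right
      exact h.caseA5 hx₁ hx₂ hx₃ ea1 ea2 ea3 (by rw [hN₁, ea1]) (by rw [hN₂, ea2])
        (by rw [hN₃, ea3]) ek hall3
  push Not at hall3
  -- a fourth class is impossible
  exfalso
  obtain ⟨x₄, hx₄, hx₄n1, hx₄n2, hx₄n3⟩ := hall3
  obtain ⟨i₄, hi₄, hidx₄, hc₄, hcase₄⟩ := h.numeric hx₄
  have hkk₄ : Nat.card G = i₄ * Nat.card (A x₄) ∨ Nat.card G = 2 * (i₄ * Nat.card (A x₄)) :=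
    hcase₄.imp And.left And.left
  have hd14 := h.cov_disjoint hx₁ hx₄ hx₄n1
  have hd24 := h.cov_disjoint hx₂ hx₄ hx₄n2
  have hd34 := h.cov_disjoint hx₃ hx₄ hx₄n3
  have hs : (cov A x₁).ncard + (cov A x₂).ncard + (cov A x₃).ncard + (cov A x₄).ncard
      ≤ Nat.card G - 1 := by
    rw [← hU, ← ncard_union4 hd12 hd13 hd23 hd14 hd24 hd34]
    exact Set.ncard_le_ncard (Set.union_subset (Set.union_subset (Set.union_subset (hsubU x₁)
      (hsubU x₂)) (hsubU x₃)) (hsubU x₄)) (Set.toFinite _)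
  have q₁ := arith_quarter _ _ _ _ rfl ha₁ hkk₁
  have q₂ := arith_quarter _ _ _ _ rfl (h.two_le_card hx₂) hkk₂
  have q₃ := arith_quarter _ _ _ _ rfl (h.two_le_card hx₃) hkk₃
  have q₄ := arith_quarter _ _ _ _ rfl (h.two_le_card hx₄) hkk₄
  rw [← hc₁] at q₁
  rw [← hc₂] at q₂
  rw [← hc₃] at q₃
  rw [← hc₄] at q₄
  exact arith4 _ _ _ _ _ hkpos q₁ q₂ q₃ q₄ hs

end

end Cfsg.Agent.Lib.Helper42
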