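import Mathlib
import Cfsg.Agent.Lib.Helper42.PPrimeAbs2
import Cfsg.Agent.Lib.Helper11.DicksonMat
import Cfsg.Agent.Lib.Helper41.SL2Order
import Cfsg.Agent.Lib.Helper41.SL2NsTorusMain
import Cfsg.Agent.Lib.Helper41.SL2SylowTwo
import Cfsg.Agent.Lib.Helper5.PSL2Small
import Cfsg.Agent.Lib.Helper41.SL2OddMat

set_option autoImplicit false

/-!
# Centralizers of semisimple elements of `SL₂(F)` are cyclic of order `q ± 1` (helper42)
-/

namespace Cfsg.Agent.Lib.Helper42

open Cfsg.Agent.Lib.Helper41 Cfsg.Agent.Lib.Helper11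

theorem centralizer_conj {G : Type*} [Group G] (c d : G) :
    Subgroup.centralizer ({c * d * c⁻¹} : Set G)
      = (Subgroup.centralizer ({d} : Set G)).map (MulAut.conj c).toMonoidHom := by
  ext b
  rw [Subgroup.mem_map, Subgroup.mem_centralizer_singleton_iff]
  constructor
  · intro hb
    refine ⟨c⁻¹ * b * c, ?_, ?_⟩
    · rw [Subgroup.mem_centralizer_singleton_iff]
      calc c⁻¹ * b * c * d = c⁻¹ * (b * (c * d * c⁻¹)) * c := by group
        _ = c⁻¹ * ((c * d * c⁻¹) * b) * c := by rw [hb]
        _ = d * (c⁻¹ * b * c) := by group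
    · show (MulAut.conj c) (c⁻¹ * b * c) = b
      rw [MulAut.conj_apply]; group
  · rintro ⟨a, ha, rfl⟩
    rw [Subgroup.mem_centralizer_singleton_iff] at ha
    show (MulAut.conj c) a * (c * d * c⁻¹) = (c * d * c⁻¹) * (MulAut.conj c) a
    rw [MulAut.conj_apply]
    calc c * a * c⁻¹ * (c * d * c⁻¹) = c * (a * d) * c⁻¹ := by group
      _ = c * (d * a) * c⁻¹ := by rw [ha]
      _ = c * d * c⁻¹ * (c * a * c⁻¹) := by group

theorem isCyclic_map_conj {G : Type*} [Group G] (c : G) (H : Subgroup G) [IsCyclic H] :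
    IsCyclic (H.map (MulAut.conj c).toMonoidHom) :=
  isCyclic_of_surjective ((MulAut.conj c).toMonoidHom.subgroupMap H)
    ((MulAut.conj c).toMonoidHom.subgroupMap_surjective H)

theorem centralizer_of_isConj {G : Type*} [Group G] [Finite G] {a b : G} (hab : IsConj a b)
    (hc : IsCyclic (Subgroup.centralizer ({a} : Set G))) :
    IsCyclic (Subgroup.centralizer ({b} : Set G)) ∧
      Nat.card (Subgroup.centralizer ({b} : Set G)) = Nat.card (Subgroup.centralizer ({a} : Set G)) := by
  obtain ⟨c, hc'⟩ := isConj_iff.mp hab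
  rw [← hc', centralizer_conj]
  exact ⟨isCyclic_map_conj c _, Subgroup.card_map_of_injective (MulAut.conj c).injective⟩

variable {F : Type*} [Field F] [Fintype F]

/-- the centralizer in `SL₂(F)` of an element with `tr² ≠ 4` is cyclic of order `q - 1` or `q + 1` -/
theorem centralizer_cyclic_card (y : Matrix.SpecialLinearGroup (Fin 2) F)
    (ht : (tr2 y) ^ 2 ≠ 4) :
    IsCyclic (Subgroup.centralizer ({y} : Set (Matrix.SpecialLinearGroup (Fin 2) F))) ∧
      (Nat.card (Subgroup.centralizer ({y} : Set (Matrix.SpecialLinearGroup (Fin 2) F)))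
          = Fintype.card F - 1 ∨
        Nat.card (Subgroup.centralizer ({y} : Set (Matrix.SpecialLinearGroup (Fin 2) F)))
          = Fintype.card F + 1) := by
  by_cases hroot : ∃ r : F, r ^ 2 = -1 + tr2 y * r
  · obtain ⟨r, hr⟩ := hroot
    obtain ⟨u, hu⟩ := isConj_diagHom_of_root y ht r hr
    have hd : IsDiag (diagHom u : Matrix.SpecialLinearGroup (Fin 2) F) := by
      constructor <;> simp [coe_diagHom]
    have htr : tr2 (diagHom u : Matrix.SpecialLinearGroup (Fin 2) F) = tr2 y := by
      obtain ⟨c, hc⟩ := isConj_iff.mp hu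
      rw [← hc, tr2_conj]
    have hda : ((diagHom u : Matrix.SpecialLinearGroup (Fin 2) F) :
        Matrix (Fin 2) (Fin 2) F) 0 0 ^ 2 ≠ 1 := by
      intro h1
      apply ht
      rw [← htr, tr2_diagHom]
      have h00 : ((diagHom u : Matrix.SpecialLinearGroup (Fin 2) F) :
        Matrix (Fin 2) (Fin 2) F) 0 0 = (u : F) := by simp [coe_diagHom]
      rw [h00] at h1
      have hu0 : (u : F) ≠ 0 := u.ne_zero
      have hinv : ((u⁻¹ : Fˣ) : F) = (u : F) := by
        rw [Units.val_inv_eq_inv_val]
        exact inv_eq_of_mul_eq_one_right (by rw [← pow_two]; exact h1)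
      rw [hinv]
      linear_combination 4 * h1
    have hcen := centralizer_eq_diagSub _ hd hda
    have hcyc : IsCyclic (Subgroup.centralizer
        ({(diagHom u : Matrix.SpecialLinearGroup (Fin 2) F)} : Set _)) := by
      rw [hcen]; exact isCyclic_diagSub
    obtain ⟨h1, h2'⟩ := centralizer_of_isConj hu hcyc
    exact ⟨h1, Or.inl (by rw [h2', hcen, card_diagSub])⟩
  · push Not at hroot
    have hconj : IsConj (companion (tr2 y)) y :=
      isConj_of_tr2_eq _ _ (by rw [tr2_companion]; exact ht) (tr2_companion _)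
    have hcyc : IsCyclic (Subgroup.centralizer
        ({companion (tr2 y)} : Set (Matrix.SpecialLinearGroup (Fin 2) F))) :=
      isCyclic_nsTorus hroot
    obtain ⟨h1, h2'⟩ := centralizer_of_isConj hconj hcyc
    refine ⟨h1, Or.inr ?_⟩
    rw [h2']
    exact card_nsTorus hroot

omit [Fintype F] in
/-- characteristic two version of `eq_or_eq_inv_of_commute` -/
theorem eq_or_eq_inv_of_commute_char_two (s s' : Matrix.SpecialLinearGroup (Fin 2) F)
    (h2 : (2 : F) = 0) (hs : (tr2 s) ^ 2 ≠ 4) (htr : tr2 s' = tr2 s) (hc : s' * s = s * s') :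
    s' = s ∨ s' = s⁻¹ := by
  have hns := not_isScalarMat_of_tr2_sq s hs
  have hc' : (s' : Matrix (Fin 2) (Fin 2) F) * (s : Matrix (Fin 2) (Fin 2) F)
      = (s : Matrix (Fin 2) (Fin 2) F) * (s' : Matrix (Fin 2) (Fin 2) F) := by
    rw [← Matrix.SpecialLinearGroup.coe_mul, hc, Matrix.SpecialLinearGroup.coe_mul]
  obtain ⟨a, b, hab⟩ := exists_eq_smul_add _ _ hns hc'
  have x00 := congrFun (congrFun hab 0) 0
  have x01 := congrFun (congrFun hab 0) 1
  have x10 := congrFun (congrFun hab 1) 0
  have x11 := congrFun (congrFun hab 1) 1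
  simp at x00 x01 x10 x11
  have hdx := sl2_det s'
  have hdu := sl2_det s
  rw [x00, x01, x10, x11] at hdx
  have hT : 2 * a + b * tr2 s - tr2 s = 0 := by
    have := htr
    unfold tr2 at this ⊢
    rw [x00, x11] at this
    linear_combination this
  have hD : a ^ 2 + a * b * tr2 s + b ^ 2 - 1 = 0 := by
    unfold tr2
    linear_combination hdx - b ^ 2 * hdu
  have h4 : (4 : F) = 0 := by linear_combination 2 * h2
  have ht0 : tr2 s ≠ 0 := by
    intro h0
    apply hs
    rw [h0, h4]; ring
  have hb : b = 1 := by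
    have : (b - 1) * tr2 s = 0 := by linear_combination hT - a * h2
    rcases mul_eq_zero.mp this with h | h
    · linear_combination h
    · exact absurd h ht0
  subst hb
  have ha : a * (a + tr2 s) = 0 := by linear_combination hD
  rcases mul_eq_zero.mp ha with ha | ha
  · left
    apply Subtype.ext
    rw [hab, ha]; simp
  · right
    have ha' : a = - tr2 s := by linear_combination ha
    apply Subtype.ext
    have h3 := coe_add_coe_inv s
    have h5 : ((s⁻¹ : Matrix.SpecialLinearGroup (Fin 2) F) : Matrix (Fin 2) (Fin 2) F)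
        = tr2 s • (1 : Matrix (Fin 2) (Fin 2) F) - (s : Matrix (Fin 2) (Fin 2) F) := by
      rw [← h3]; abel
    rw [hab, h5, ha', one_smul]
    have h6 : (2 : F) • (tr2 s • (1 : Matrix (Fin 2) (Fin 2) F) - (s : Matrix (Fin 2) (Fin 2) F))
        = 0 := by rw [h2, zero_smul]
    rw [two_smul] at h6
    rw [neg_smul]
    have h7 : -(tr2 s • (1 : Matrix (Fin 2) (Fin 2) F)) + (s : Matrix (Fin 2) (Fin 2) F)
        = -(tr2 s • (1 : Matrix (Fin 2) (Fin 2) F) - (s : Matrix (Fin 2) (Fin 2) F)) := by abel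
    rw [h7, neg_eq_iff_add_eq_zero]
    exact h6

omit [Fintype F] in
/-- an element commuting with a semisimple element `s` and with the same trace is `s` or `s⁻¹`
(any characteristic) -/
theorem eq_or_eq_inv_of_commute' (s s' : Matrix.SpecialLinearGroup (Fin 2) F)
    (hs : (tr2 s) ^ 2 ≠ 4) (htr : tr2 s' = tr2 s) (hc : s' * s = s * s') :
    s' = s ∨ s' = s⁻¹ := by
  by_cases h2 : (2 : F) = 0
  · exact eq_or_eq_inv_of_commute_char_two s s' h2 hs htr hc
  · exact eq_or_eq_inv_of_commute s s' h2 hs htr hc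

end Cfsg.Agent.Lib.Helper42
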