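import Mathlib
import Cfsg.Agent.Lib.Helper42.PPrimeTorus

set_option autoImplicit false

/-!
# Subgroups of `PSL₂(F)` of order prime to the characteristic (helper42)

For `H ≤ PSL₂(F)`, `F` finite of characteristic `p`, with `p ∤ |H|`, the subgroups
`A x = (image of the centralizer in `SL₂(F)` of a lift of `x`) ∩ H` form partition data `PData`.
-/

namespace Cfsg.Agent.Lib.Helper42

open Cfsg.Agent.Lib.Helper41 Cfsg.Agent.Lib.Helper11

variable {F : Type*} [Field F]

local notation "SL2" => Matrix.SpecialLinearGroup (Fin 2) F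
local notation "PSL2" => Matrix.ProjectiveSpecialLinearGroup (Fin 2) F

/-- the projection `SL₂(F) → PSL₂(F)` -/
abbrev prj : SL2 →* PSL2 := QuotientGroup.mk' (Subgroup.center SL2)

theorem prj_surjective : Function.Surjective (prj (F := F)) := QuotientGroup.mk'_surjective _

theorem prj_eq_one_iff {y : SL2} : prj y = 1 ↔ y ∈ Subgroup.center SL2 :=
  QuotientGroup.eq_one_iff y

theorem prj_eq_iff {y y' : SL2} : prj y = prj y' ↔ y⁻¹ * y' ∈ Subgroup.center SL2 :=
  QuotientGroup.eq

/-- the image in `PSL₂` of the centralizer of `y` -/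
def imCen (y : SL2) : Subgroup PSL2 := (Subgroup.centralizer ({y} : Set SL2)).map prj

theorem mem_imCen {y : SL2} {h : PSL2} : h ∈ imCen y ↔ ∃ c : SL2, c * y = y * c ∧ prj c = h := by
  unfold imCen
  rw [Subgroup.mem_map]
  constructor
  · rintro ⟨c, hc, rfl⟩
    exact ⟨c, Subgroup.mem_centralizer_singleton_iff.mp hc, rfl⟩
  · rintro ⟨c, hc, rfl⟩
    exact ⟨c, Subgroup.mem_centralizer_singleton_iff.mpr hc, rfl⟩

theorem comm_mul_central {b y z : SL2} (hz : z ∈ Subgroup.center SL2) (hb : b * y = y * b) :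
    b * (y * z) = (y * z) * b := by
  have := Subgroup.mem_center_iff.mp hz b
  calc b * (y * z) = (b * y) * z := by group
    _ = y * (b * z) := by rw [hb]; group
    _ = y * (z * b) := by rw [this]
    _ = (y * z) * b := by group

theorem imCen_congr {y y' : SL2} (h : prj y = prj y') : imCen y = imCen y' := by
  have hz : y⁻¹ * y' ∈ Subgroup.center SL2 := prj_eq_iff.mp h
  have hz' : y'⁻¹ * y ∈ Subgroup.center SL2 := prj_eq_iff.mp h.symm
  have e1 : y' = y * (y⁻¹ * y') := by group
  have e2 : y = y' * (y'⁻¹ * y) := by group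
  ext g
  rw [mem_imCen, mem_imCen]
  constructor
  · rintro ⟨c, hc, rfl⟩
    exact ⟨c, by rw [e1]; exact comm_mul_central hz hc, rfl⟩
  · rintro ⟨c, hc, rfl⟩
    exact ⟨c, by rw [e2]; exact comm_mul_central hz' hc, rfl⟩

theorem imCen_eq_of_comm {y c : SL2} (hy : y ∉ Subgroup.center SL2) (hc : c ∉ Subgroup.center SL2)
    (hcy : c * y = y * c) : imCen c = imCen y := by
  ext g
  rw [mem_imCen, mem_imCen]
  constructor
  · rintro ⟨b, hb, rfl⟩
    exact ⟨b, comm_of_comm_noncentral hc hb hcy.symm, rfl⟩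
  · rintro ⟨b, hb, rfl⟩
    exact ⟨b, comm_of_comm_noncentral hy hb hcy, rfl⟩

theorem imCen_conj {y n : SL2} {g : PSL2} (hg : g ∈ imCen y) :
    prj n * g * (prj n)⁻¹ ∈ imCen (n * y * n⁻¹) := by
  obtain ⟨c, hc, rfl⟩ := mem_imCen.mp hg
  refine mem_imCen.mpr ⟨n * c * n⁻¹, ?_, by simp⟩
  calc n * c * n⁻¹ * (n * y * n⁻¹) = n * (c * y) * n⁻¹ := by group
    _ = n * (y * c) * n⁻¹ := by rw [hc]
    _ = n * y * n⁻¹ * (n * c * n⁻¹) := by group

section Main

variable (p : ℕ) [Fact p.Prime] [CharP F p]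
  (H : Subgroup (Matrix.ProjectiveSpecialLinearGroup (Fin 2) F))

include p in
theorem tr2_sq_ne_four_of_mem (hH : ¬ p ∣ Nat.card H) {y : SL2} (hyH : prj y ∈ H)
    (hy1 : prj y ≠ 1) : tr2 y ^ 2 ≠ 4 := by
  intro ht
  have hpow : (prj y) ^ p = 1 := by
    rw [← map_pow, prj_eq_one_iff, mem_center_iff_pm, Matrix.SpecialLinearGroup.coe_pow]
    exact pow_char_of_tr2_sq_eq_four p y ht
  have hord : orderOf (prj y) = p := by
    have hd := orderOf_dvd_of_pow_eq_one hpow
    rcases (Nat.dvd_prime (Fact.out)).mp hd with h1 | h1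
    · exact absurd (orderOf_eq_one_iff.mp h1) hy1
    · exact h1
  apply hH
  have := orderOf_dvd_natCard (⟨prj y, hyH⟩ : H)
  rw [Subgroup.orderOf_mk] at this
  rw [← hord]; exact this

/-- the subgroup `A x` of `H` attached to `x ∈ H` -/
noncomputable def AA (x : H) : Subgroup H := (imCen ((x : PSL2).out)).subgroupOf H

variable {H}

theorem mem_AA {x h : H} {y : SL2} (hy : prj y = x) :
    h ∈ AA H x ↔ ∃ c : SL2, c * y = y * c ∧ prj c = h := by
  unfold AA
  rw [Subgroup.mem_subgroupOf,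
    imCen_congr (y := (x : PSL2).out) (y' := y) (by rw [hy]; exact QuotientGroup.out_eq' _),
    mem_imCen]

theorem prj_out (x : PSL2) : prj x.out = x := QuotientGroup.out_eq' x

theorem not_mem_center_of_ne_one {x : H} (hx : x ≠ 1) {y : SL2} (hy : prj y = x) :
    y ∉ Subgroup.center SL2 := by
  intro hc
  apply hx
  apply Subtype.ext
  rw [← hy, Subgroup.coe_one]
  exact prj_eq_one_iff.mpr hc

include p in
/-- elements of the normalizer of `A x` outside `A x` invert a lift of `x` -/
theorem key_inv (hH : ¬ p ∣ Nat.card H) {x : H} (hx : x ≠ 1) {y : SL2} (hy : prj y = x)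
    {g : H} (hg : g ∈ Subgroup.normalizer (AA H x : Set H)) (hgA : g ∉ AA H x)
    {n : SL2} (hn : prj n = g) : n * y * n⁻¹ = y⁻¹ := by
  have hxA : x ∈ AA H x := (mem_AA hy).mpr ⟨y, rfl, hy⟩
  have h1 : g * x * g⁻¹ ∈ AA H x := (Subgroup.mem_normalizer_iff.mp hg x).mp hxA
  obtain ⟨c, hcy, hc⟩ := (mem_AA hy).mp h1
  have hc' : prj (n * y * n⁻¹) = prj c := by
    rw [hc, map_mul, map_mul, map_inv, hn, hy]; rfl
  have hz : (n * y * n⁻¹)⁻¹ * c ∈ Subgroup.center SL2 := prj_eq_iff.mp hc'
  have hcomm : (n * y * n⁻¹) * y = y * (n * y * n⁻¹) := by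
    have hz' := Subgroup.mem_center_iff.mp hz
    have e : c = (n * y * n⁻¹) * ((n * y * n⁻¹)⁻¹ * c) := by group
    rw [e] at hcy
    have h3 : (n * y * n⁻¹) * y * ((n * y * n⁻¹)⁻¹ * c)
        = y * (n * y * n⁻¹) * ((n * y * n⁻¹)⁻¹ * c) := by
      calc (n * y * n⁻¹) * y * ((n * y * n⁻¹)⁻¹ * c)
          = (n * y * n⁻¹) * (y * ((n * y * n⁻¹)⁻¹ * c)) := by group
        _ = (n * y * n⁻¹) * (((n * y * n⁻¹)⁻¹ * c) * y) := by rw [hz' y]
        _ = (n * y * n⁻¹) * ((n * y * n⁻¹)⁻¹ * c) * y := by group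
        _ = y * ((n * y * n⁻¹) * ((n * y * n⁻¹)⁻¹ * c)) := hcy
        _ = y * (n * y * n⁻¹) * ((n * y * n⁻¹)⁻¹ * c) := by group
    exact mul_right_cancel h3
  have hxH : prj y ∈ H := by rw [hy]; exact x.2
  have hx1 : prj y ≠ 1 := by
    rw [hy]; intro hh; exact hx (Subtype.ext hh)
  have ht := tr2_sq_ne_four_of_mem p H hH hxH hx1
  rcases eq_or_eq_inv_of_commute' y (n * y * n⁻¹) ht (tr2_conj n y) hcomm with h4 | h4
  · exfalso
    apply hgA
    refine (mem_AA hy).mpr ⟨n, ?_, hn⟩
    calc n * y = (n * y * n⁻¹) * n := by group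
      _ = y * n := by rw [h4]
  · exact h4

include p in
theorem pdata [Fintype F] (hH : ¬ p ∣ Nat.card H) : PData (AA H) where
  mem := by
    intro x hx
    exact (mem_AA (prj_out _)).mpr ⟨_, rfl, prj_out _⟩
  eq_of_mem := by
    intro x hx x' hx' hx'1
    obtain ⟨c, hcy, hc⟩ := (mem_AA (prj_out _)).mp hx'
    unfold AA
    congr 1
    rw [imCen_congr (y := (x' : PSL2).out) (y' := c) (by rw [hc]; exact prj_out _)]
    exact imCen_eq_of_comm (not_mem_center_of_ne_one hx (prj_out _))
      (not_mem_center_of_ne_one hx'1 hc) hcy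
  conj := by
    intro x hx g a ha
    unfold AA at ha ⊢
    rw [Subgroup.mem_subgroupOf] at ha ⊢
    have h1 := imCen_conj (n := (g : PSL2).out) ha
    rw [prj_out] at h1
    rw [imCen_congr (y := ((g * x * g⁻¹ : H) : PSL2).out)
      (y' := (g : PSL2).out * (x : PSL2).out * ((g : PSL2).out)⁻¹)
      (by rw [prj_out, map_mul, map_mul, map_inv, prj_out, prj_out]; rfl)]
    exact h1
  cyc := by
    intro x hx
    have hxH : prj (x : PSL2).out ∈ H := by rw [prj_out]; exact x.2
    have hx1 : prj (x : PSL2).out ≠ 1 := by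
      rw [prj_out]; intro hh; exact hx (Subtype.ext hh)
    have ht := tr2_sq_ne_four_of_mem p H hH hxH hx1
    have hcyc := (centralizer_cyclic_card _ ht).1
    have hcyc2 : IsCyclic (imCen (x : PSL2).out) :=
      isCyclic_of_surjective (prj.subgroupMap _) (prj.subgroupMap_surjective _)
    let f : AA H x →* imCen (x : PSL2).out :=
      { toFun := fun a => ⟨(a : H), Subgroup.mem_subgroupOf.mp a.2⟩
        map_one' := rfl
        map_mul' := fun _ _ => rfl }
    exact isCyclic_of_injective f (fun a b hab => by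
      apply Subtype.ext
      apply Subtype.ext
      exact congrArg (fun t : imCen (x : PSL2).out => (t : PSL2)) hab)
  inv := by
    intro x hx g hg hgA a ha
    have hkey := key_inv p hH hx (prj_out _) hg hgA (prj_out _)
    obtain ⟨c, hcy, hc⟩ := (mem_AA (prj_out _)).mp ha
    set y := (x : PSL2).out with hy
    set n := (g : PSL2).out with hn
    by_cases hcz : c ∈ Subgroup.center SL2
    · have ha1 : a = 1 := by
        apply Subtype.ext
        rw [← hc, Subgroup.coe_one]
        exact prj_eq_one_iff.mpr hcz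
      rw [ha1]; simp
    · have ha1 : a ≠ 1 := by
        intro hh
        apply hcz
        rw [← prj_eq_one_iff, hc, hh]; rfl
      have hyz := not_mem_center_of_ne_one hx (prj_out (x : PSL2))
      -- `n c n⁻¹` commutes with `c`
      have h1 : (n * c * n⁻¹) * y⁻¹ = y⁻¹ * (n * c * n⁻¹) := by
        rw [← hkey]
        calc n * c * n⁻¹ * (n * y * n⁻¹) = n * (c * y) * n⁻¹ := by group
          _ = n * (y * c) * n⁻¹ := by rw [hcy]
          _ = n * y * n⁻¹ * (n * c * n⁻¹) := by group
      have h2 : (n * c * n⁻¹) * y = y * (n * c * n⁻¹) := by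
        calc (n * c * n⁻¹) * y = y * (y⁻¹ * (n * c * n⁻¹)) * y := by group
          _ = y * ((n * c * n⁻¹) * y⁻¹) * y := by rw [h1]
          _ = y * (n * c * n⁻¹) := by group
      have h3 : (n * c * n⁻¹) * c = c * (n * c * n⁻¹) :=
        comm_of_comm_noncentral hyz h2 hcy
      have hcH : prj c ∈ H := by rw [hc]; exact a.2
      have hc1 : prj c ≠ 1 := by
        rw [hc]; intro hh; exact ha1 (Subtype.ext hh)
      have ht := tr2_sq_ne_four_of_mem p H hH hcH hc1
      rcases eq_or_eq_inv_of_commute' c (n * c * n⁻¹) ht (tr2_conj n c) h3 with h4 | h4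
      · exfalso
        apply hgA
        have h5 : n * c = c * n := by
          calc n * c = (n * c * n⁻¹) * n := by group
            _ = c * n := by rw [h4]
        exact (mem_AA (prj_out _)).mpr ⟨n, comm_of_comm_noncentral hcz h5 hcy.symm, prj_out _⟩
      · apply Subtype.ext
        have : ((g * a * g⁻¹ : H) : PSL2) = prj (n * c * n⁻¹) := by
          rw [map_mul, map_mul, map_inv, hc, prj_out]; rfl
        rw [this, h4, map_inv, hc]; rfl
  idx := by
    intro x hx g hg g' hg' hgA hg'A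
    have hk := key_inv p hH hx (prj_out _) hg hgA (prj_out _)
    have hk' := key_inv p hH hx (prj_out _) hg' hg'A (prj_out _)
    set y := (x : PSL2).out with hy
    set n := (g : PSL2).out with hn
    set n' := (g' : PSL2).out with hn'
    refine (mem_AA (prj_out _)).mpr ⟨n * n', ?_, ?_⟩
    · have h1 : (n * n') * y * (n * n')⁻¹ = y := by
        calc (n * n') * y * (n * n')⁻¹ = n * (n' * y * n'⁻¹) * n⁻¹ := by group
          _ = n * y⁻¹ * n⁻¹ := by rw [hk']
          _ = (n * y * n⁻¹)⁻¹ := by group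
          _ = y := by rw [hk, inv_inv]
      calc n * n' * y = ((n * n') * y * (n * n')⁻¹) * (n * n') := by group
        _ = y * (n * n') := by rw [h1]
    · rw [map_mul, prj_out, prj_out]; rfl

end Main

end Cfsg.Agent.Lib.Helper42
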