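import Mathlib
import Cfsg.Agent.Lib.Helper42.PPrimePSL

set_option autoImplicit false

/-!
# The `p'`-case of Dickson's theorem (helper42)

`pprime_dickson`: a subgroup `H` of `PSL₂(F)` (`F` finite of characteristic `p`) of order prime to
`p` is cyclic of order `k` or dihedral `DihedralGroup k` with `k ∣ (q ± 1) / gcd(2, q - 1)`, or
isomorphic to `A₄`, `S₄` or `A₅`.
-/

namespace Cfsg.Agent.Lib.Helper42

open Cfsg.Agent.Lib.Helper41 Cfsg.Agent.Lib.Helper11 Cfsg.Agent.Lib.Helper5

variable {F : Type*} [Field F]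

local notation "SL2" => Matrix.SpecialLinearGroup (Fin 2) F
local notation "PSL2" => Matrix.ProjectiveSpecialLinearGroup (Fin 2) F

theorem card_center_eq_gcd [Fintype F] :
    Nat.card (Subgroup.center SL2) = Nat.gcd 2 (Fintype.card F - 1) := by
  have hq : 2 ≤ Fintype.card F := Fintype.one_lt_card
  by_cases h2 : (2 : F) = 0
  · rw [center_SL2_eq_bot_of_two_eq_zero h2, Subgroup.card_bot]
    have hchar : ringChar F = 2 := by
      have h2' : ((2 : ℕ) : F) = 0 := by exact_mod_cast h2
      have hd := (ringChar.spec F 2).mp h2'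
      have hprime : (ringChar F).Prime := CharP.char_is_prime F (ringChar F)
      rcases (Nat.dvd_prime Nat.prime_two).mp hd with h | h
      · exact absurd h hprime.one_lt.ne'
      · exact h
    have heven := FiniteField.even_card_of_char_two hchar
    have h1 : (Fintype.card F - 1) % 2 = 1 := by omega
    rw [Nat.gcd_rec, h1]
    rfl
  · rw [card_center_SL2_of_two_ne_zero h2]
    have hchar : ringChar F ≠ 2 := by
      intro h
      apply h2
      have := ringChar.Nat.cast_ringChar (R := F)
      rw [h] at this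
      exact_mod_cast this
    have hodd := FiniteField.odd_card_of_char_ne_two hchar
    have h1 : (Fintype.card F - 1) % 2 = 0 := by omega
    rw [Nat.gcd_rec, h1]
    rfl

theorem card_imCen_mul [Fintype F] (y : SL2) :
    Nat.card (imCen y) * Nat.card (Subgroup.center SL2)
      = Nat.card (Subgroup.centralizer ({y} : Set SL2)) := by
  set K := Subgroup.centralizer ({y} : Set SL2) with hK
  have hle : Subgroup.center SL2 ≤ K := Subgroup.center_le_centralizer _
  have h1 := Subgroup.index_ker ((prj (F := F)).domRestrict K)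
  have h2 := Subgroup.index_mul_card ((prj (F := F)).domRestrict K).ker
  rw [h1, MonoidHom.domRestrict_range, MonoidHom.ker_domRestrict, QuotientGroup.ker_mk',
    Nat.card_congr (Subgroup.subgroupOfEquivOfLe hle).toEquiv] at h2
  exact h2

section Main

variable [Fintype F] (p : ℕ) [Fact p.Prime] [CharP F p]
  {H : Subgroup (Matrix.ProjectiveSpecialLinearGroup (Fin 2) F)}

include p in
theorem card_AA_dvd (hH : ¬ p ∣ Nat.card H) {x : H} (hx : x ≠ 1) :
    Nat.card (AA H x) ∣ (Fintype.card F + 1) / Nat.gcd 2 (Fintype.card F - 1) ∨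
      Nat.card (AA H x) ∣ (Fintype.card F - 1) / Nat.gcd 2 (Fintype.card F - 1) := by
  have hxH : prj (x : PSL2).out ∈ H := by rw [prj_out]; exact x.2
  have hx1 : prj (x : PSL2).out ≠ 1 := by
    rw [prj_out]; intro hh; exact hx (Subtype.ext hh)
  have ht := tr2_sq_ne_four_of_mem p H hH hxH hx1
  have hcard := (centralizer_cyclic_card _ ht).2
  let f : AA H x →* imCen (x : PSL2).out :=
    { toFun := fun a => ⟨(a : H), Subgroup.mem_subgroupOf.mp a.2⟩
      map_one' := rfl
      map_mul' := fun _ _ => rfl }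
  have hf : Function.Injective f := fun a b hab => by
    apply Subtype.ext
    apply Subtype.ext
    exact congrArg (fun t : imCen (x : PSL2).out => (t : PSL2)) hab
  have hdvd : Nat.card (AA H x) ∣ Nat.card (imCen (x : PSL2).out) :=
    Subgroup.card_dvd_of_injective f hf
  have hmul := card_imCen_mul (x : PSL2).out
  rw [card_center_eq_gcd] at hmul
  have hdpos : 0 < Nat.gcd 2 (Fintype.card F - 1) := Nat.gcd_pos_of_pos_left _ (by norm_num)
  rcases hcard with hc | hc
  · right
    rw [hc] at hmul
    rw [Nat.div_eq_of_eq_mul_left hdpos hmul.symm]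
    exact hdvd
  · left
    rw [hc] at hmul
    rw [Nat.div_eq_of_eq_mul_left hdpos hmul.symm]
    exact hdvd

include p in
/-- **Dickson's theorem, `p'`-case.** -/
theorem pprime_dickson (hH : ¬ p ∣ Nat.card H) :
    (∃ k : ℕ, (k ∣ (Fintype.card F + 1) / Nat.gcd 2 (Fintype.card F - 1) ∨
        k ∣ (Fintype.card F - 1) / Nat.gcd 2 (Fintype.card F - 1)) ∧
      ((IsCyclic H ∧ Nat.card H = k) ∨ Nonempty (H ≃* DihedralGroup k))) ∨
    Nonempty (H ≃* alternatingGroup (Fin 4)) ∨ Nonempty (H ≃* Equiv.Perm (Fin 4)) ∨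
    Nonempty (H ≃* alternatingGroup (Fin 5)) := by
  have hP := pdata p hH
  rcases hP.classify with htriv | ⟨x, hx, hA⟩ | ⟨x, hx, he⟩ | h | h | h
  · left
    refine ⟨1, Or.inl (one_dvd _), Or.inl ⟨?_, ?_⟩⟩
    · have : Subsingleton H := ⟨fun a b => by rw [htriv a, htriv b]⟩
      exact isCyclic_of_subsingleton
    · have : Subsingleton H := ⟨fun a b => by rw [htriv a, htriv b]⟩
      exact Nat.card_unique
  · left
    refine ⟨Nat.card (AA H x), card_AA_dvd p hH hx, Or.inl ⟨?_, ?_⟩⟩
    · have hcyc := hP.cyc x hx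
      apply isCyclic_of_surjective (AA H x).subtype
      intro a
      exact ⟨⟨a, by rw [hA]; trivial⟩, rfl⟩
    · rw [hA, Subgroup.card_top]
  · left
    exact ⟨Nat.card (AA H x), card_AA_dvd p hH hx, Or.inr he⟩
  · exact Or.inr (Or.inl h)
  · exact Or.inr (Or.inr (Or.inl h))
  · exact Or.inr (Or.inr (Or.inr h))

end Main

end Cfsg.Agent.Lib.Helper42
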