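import Mathlib
import Cfsg.Agent.Lib.Helper71.LWDefs

set_option autoImplicit false
set_option linter.unusedSectionVars false
open Equiv
open Cfsg.Agent.Lib.Helper71.LW

namespace Cfsg.Agent.Lib.Helper42.LW

variable {α : Type*} [Fintype α] [DecidableEq α]

/-- in a finite group, `g Q g⁻¹ ⊆ Q` implies `g⁻¹ Q g ⊆ Q` -/
theorem conj_inv_mem_of_conj_mem (Q : Subgroup (Perm α)) (g : Perm α)
    (hg : ∀ q ∈ Q, g * q * g⁻¹ ∈ Q) : ∀ q ∈ Q, g⁻¹ * q * g ∈ Q := by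
  have hpow : ∀ m : ℕ, ∀ q ∈ Q, g ^ m * q * (g ^ m)⁻¹ ∈ Q := by
    intro m
    induction m with
    | zero => intro q hq; simpa using hq
    | succ m ih =>
      intro q hq
      have h1 := hg _ (ih q hq)
      have h2 : g ^ (m + 1) * q * (g ^ (m + 1))⁻¹ = g * (g ^ m * q * (g ^ m)⁻¹) * g⁻¹ := by
        rw [pow_succ', mul_inv_rev]
        simp only [mul_assoc]
      rw [h2]
      exact h1
  have hpos : 0 < orderOf g := orderOf_pos g
  have hinv : g ^ (orderOf g - 1) = g⁻¹ := by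
    apply eq_inv_of_mul_eq_one_left
    rw [← pow_succ, Nat.sub_add_cancel hpos, pow_orderOf_eq_one]
  intro q hq
  have := hpow (orderOf g - 1) q hq
  rw [hinv, inv_inv] at this
  exact this

/-- an element normalising `Q` permutes the fixed points of `Q` -/
theorem smul_mem_fixPts_iff (Q : Subgroup (Perm α)) (g : Perm α)
    (hg : ∀ q ∈ Q, g * q * g⁻¹ ∈ Q) (x : α) : g x ∈ fixPts Q ↔ x ∈ fixPts Q := by
  have hg' := conj_inv_mem_of_conj_mem Q g hg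
  rw [mem_fixPts, mem_fixPts]
  constructor
  · intro h q hq
    have h1 := h _ (hg q hq)
    rw [Perm.mul_apply, Perm.mul_apply] at h1
    have h2 : g⁻¹ (g x) = x := by simp
    rw [h2] at h1
    exact g.injective h1
  · intro h q hq
    have h1 := h _ (hg' q hq)
    rw [Perm.mul_apply, Perm.mul_apply, Perm.inv_eq_iff_eq] at h1
    exact h1

theorem exists_induced (G Q : Subgroup (Perm α)) :
    ∃ B : Subgroup (Perm ↥(fixPts Q)),
      (∀ b ∈ B, ∃ g ∈ G, (∀ q ∈ Q, g * q * g⁻¹ ∈ Q) ∧ ∀ x : ↥(fixPts Q), g (x : α) = b x) ∧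
      (∀ g ∈ G, (∀ q ∈ Q, g * q * g⁻¹ ∈ Q) → ∃ b ∈ B, ∀ x : ↥(fixPts Q), g (x : α) = b x) := by
  let B : Subgroup (Perm ↥(fixPts Q)) :=
    { carrier := {b | ∃ g ∈ G, (∀ q ∈ Q, g * q * g⁻¹ ∈ Q) ∧ ∀ x : ↥(fixPts Q), g (x : α) = b x}
      one_mem' := ⟨1, G.one_mem, fun q hq => by simpa using hq, fun x => rfl⟩
      mul_mem' := by
        rintro b₁ b₂ ⟨g₁, hg₁G, hg₁Q, hg₁⟩ ⟨g₂, hg₂G, hg₂Q, hg₂⟩
        refine ⟨g₁ * g₂, G.mul_mem hg₁G hg₂G, fun q hq => ?_, fun x => ?_⟩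
        · have h1 := hg₁Q _ (hg₂Q q hq)
          have h2 : g₁ * g₂ * q * (g₁ * g₂)⁻¹ = g₁ * (g₂ * q * g₂⁻¹) * g₁⁻¹ := by
            rw [mul_inv_rev]
            simp only [mul_assoc]
          rw [h2]
          exact h1
        · rw [Perm.mul_apply, Perm.mul_apply, hg₂ x, hg₁ (b₂ x)]
      inv_mem' := by
        rintro b ⟨g, hgG, hgQ, hg⟩
        refine ⟨g⁻¹, G.inv_mem hgG, fun q hq => ?_, fun x => ?_⟩
        · rw [inv_inv]
          exact conj_inv_mem_of_conj_mem Q g hgQ q hq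
        · rw [Perm.inv_eq_iff_eq, hg (b⁻¹ x)]
          simp }
  refine ⟨B, fun b hb => hb, fun g hgG hgQ => ?_⟩
  refine ⟨Perm.subtypePerm g (smul_mem_fixPts_iff Q g hgQ), ⟨g, hgG, hgQ, fun x => rfl⟩,
    fun x => rfl⟩

end Cfsg.Agent.Lib.Helper42.LW
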