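import Mathlib
import Cfsg.Agent.Lib.Helper42.PPrimeMain

set_option autoImplicit false

/-!
# Partition data for subgroups of `PSL₂(F)` with small `p`-part (helper42)

`pdata_small`: for `H ≤ PSL₂(F)` such that every non-trivial `x ∈ H` with a non-semisimple lift
(`tr² = 4`) has `|AA H x| ∈ {2, 3}`, the family `AA H` is partition data (`PData`), without any
global hypothesis on `|H|`.  Also the per-element versions of the semisimple lemmas.
-/

namespace Cfsg.Agent.Lib.Helper42

open Cfsg.Agent.Lib.Helper41 Cfsg.Agent.Lib.Helper11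

variable {F : Type*} [Field F]

local notation "SL2" => Matrix.SpecialLinearGroup (Fin 2) F
local notation "PSL2" => Matrix.ProjectiveSpecialLinearGroup (Fin 2) F

/-- non-central elements of the centralizer of a semisimple element are semisimple -/
theorem tr2_sq_ne_four_of_comm {y c : SL2} (hy : tr2 y ^ 2 ≠ 4)
    (hc : c ∉ Subgroup.center SL2) (hcy : c * y = y * c) : tr2 c ^ 2 ≠ 4 := by
  intro hc4
  have hns := not_isScalarMat_of_tr2_sq y hy
  obtain ⟨a, b, hab⟩ := exists_eq_smul_add _ _ hns (coe_mul_comm_of_comm hcy)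
  have x00 := congrFun (congrFun hab 0) 0
  have x01 := congrFun (congrFun hab 0) 1
  have x10 := congrFun (congrFun hab 1) 0
  have x11 := congrFun (congrFun hab 1) 1
  simp at x00 x01 x10 x11
  have hdx := sl2_det c
  have hdu := sl2_det y
  rw [x00, x01, x10, x11] at hdx
  have hD : a ^ 2 + a * b * tr2 y + b ^ 2 - 1 = 0 := by
    unfold tr2
    linear_combination hdx - b ^ 2 * hdu
  have hT : tr2 c = 2 * a + b * tr2 y := by
    unfold tr2
    rw [x00, x11]; ring
  have hb : b ^ 2 * (tr2 y ^ 2 - 4) = 0 := by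
    rw [hT] at hc4
    linear_combination hc4 - 4 * hD
  have hb0 : b = 0 := by
    rcases mul_eq_zero.mp hb with h | h
    · exact pow_eq_zero_iff (two_ne_zero) |>.mp h
    · exact absurd (sub_eq_zero.mp h) hy
  apply hc
  apply mem_center_of_scalar c a
  rw [hab, hb0, zero_smul, add_zero]

/-- commuting in `PSL₂` lifts to commuting in `SL₂` when the trace is non-zero or in
characteristic two -/
theorem comm_lift {y n : SL2} (h : prj n * prj y = prj y * prj n)
    (ht : tr2 y ≠ 0 ∨ (2 : F) = 0) : n * y = y * n := by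
  have h1 : prj (n * y * n⁻¹) = prj y := by
    rw [map_mul, map_mul, map_inv, h]; group
  have h2 := (mk_eq_mk_iff (n * y * n⁻¹) y).mp h1
  have hgoal : ((n * y * n⁻¹ : SL2) : Matrix (Fin 2) (Fin 2) F) = (y : Matrix (Fin 2) (Fin 2) F) → 
      n * y = y * n := by
    intro h3
    have h4 : n * y * n⁻¹ = y := Subtype.ext h3
    calc n * y = (n * y * n⁻¹) * n := by group
      _ = y * n := by rw [h4]
  by_cases h20 : (2 : F) = 0
  · have hneg : (-(y : Matrix (Fin 2) (Fin 2) F)) = (y : Matrix (Fin 2) (Fin 2) F) := by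
      have h3 : (2 : F) • (y : Matrix (Fin 2) (Fin 2) F) = 0 := by rw [h20, zero_smul]
      rw [two_smul] at h3
      exact neg_eq_of_add_eq_zero_left h3
    rcases h2 with h2 | h2
    · exact hgoal h2
    · exact hgoal (by rw [h2, hneg])
  · have ht' : tr2 y ≠ 0 := by
      rcases ht with ht | ht
      · exact ht
      · exact absurd ht h20
    rcases h2 with h2 | h2
    · exact hgoal h2
    · exfalso
      apply ht'
      have h5 : tr2 (n * y * n⁻¹) = - tr2 y := by
        unfold tr2
        rw [h2]; simp; ring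
      rw [tr2_conj] at h5
      have h6 : (2 : F) * tr2 y = 0 := by linear_combination h5
      rcases mul_eq_zero.mp h6 with h7 | h7
      · exact absurd h7 h20
      · exact h7

/-- an element normalizing a subgroup of order 2 or 3 acts trivially or by inversion -/
theorem small_inv {G : Type*} [Group G] (A : Subgroup G) (x g : G) (hxA : x ∈ A) (hx1 : x ≠ 1)
    (hcard : Nat.card A = 2 ∨ Nat.card A = 3) (hgx : g * x * g⁻¹ ∈ A) (hne : g * x * g⁻¹ ≠ x) :
    ∀ a ∈ A, g * a * g⁻¹ = a⁻¹ := by
  have hfin : Finite A := Nat.finite_of_card_ne_zero (by rcases hcard with h | h <;> omega)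
  have hprime : (Nat.card A).Prime := by rcases hcard with h | h <;> rw [h] <;> norm_num
  have hord : orderOf x = Nat.card A := by
    have h1 : orderOf (⟨x, hxA⟩ : A) ∣ Nat.card A := orderOf_dvd_natCard _
    rw [Subgroup.orderOf_mk] at h1
    rcases (Nat.dvd_prime hprime).mp h1 with h | h
    · exact absurd (orderOf_eq_one_iff.mp h) hx1
    · exact h
  have hgen : ∀ a ∈ A, ∃ j : ℤ, x ^ j = a := by
    intro a ha
    have : Fact (Nat.card A).Prime := ⟨hprime⟩
    have hne' : (⟨x, hxA⟩ : A) ≠ 1 := fun h => hx1 (congrArg Subtype.val h)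
    have := mem_zpowers_of_prime_card (G := A) rfl hne' (g' := ⟨a, ha⟩)
    obtain ⟨j, hj⟩ := Subgroup.mem_zpowers_iff.mp this
    refine ⟨j, ?_⟩
    have := congrArg Subtype.val hj
    rw [Subgroup.coe_zpow] at this
    exact this
  obtain ⟨j, hj⟩ := hgen _ hgx
  have hj' : x ^ (j % (orderOf x : ℤ)) = g * x * g⁻¹ := by rw [zpow_mod_orderOf, hj]
  have hconj1 : g * x * g⁻¹ ≠ 1 := conj_ne_one' hx1 g
  have hinvx : g * x * g⁻¹ = x⁻¹ := by
    rcases hcard with h | h
    · rw [hord, h] at hj'
      have : j % ((2 : ℕ) : ℤ) = 0 ∨ j % ((2 : ℕ) : ℤ) = 1 := by omega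
      rcases this with h0 | h0 <;> rw [h0] at hj'
      · exact absurd hj'.symm (by simpa using hconj1)
      · exact absurd hj'.symm (by simpa using hne)
    · rw [hord, h] at hj'
      have hx3 : x ^ 3 = 1 := by
        rw [← h, ← hord]; exact pow_orderOf_eq_one x
      have : j % ((3 : ℕ) : ℤ) = 0 ∨ j % ((3 : ℕ) : ℤ) = 1 ∨ j % ((3 : ℕ) : ℤ) = 2 := by omega
      rcases this with h0 | h0 | h0 <;> rw [h0] at hj'
      · exact absurd hj'.symm (by simpa using hconj1)
      · exact absurd hj'.symm (by simpa using hne)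
      · rw [← hj']
        apply eq_inv_of_mul_eq_one_left
        rw [← hx3]
        show x ^ (2 : ℤ) * x = x ^ 3
        rw [show (2 : ℤ) = ((2 : ℕ) : ℤ) by norm_num, zpow_natCast, ← pow_succ]
  intro a ha
  obtain ⟨i, hi⟩ := hgen a ha
  rw [← hi, ← conj_zpow, hinvx, inv_zpow]

section Main

variable {H : Subgroup (Matrix.ProjectiveSpecialLinearGroup (Fin 2) F)}

/-- per-element version of `key_inv` -/
theorem key_inv' {x : H} {y : SL2} (hy : prj y = x) (ht : tr2 y ^ 2 ≠ 4)
    {g : H} (hg : g ∈ Subgroup.normalizer (AA H x : Set H)) (hgA : g ∉ AA H x)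
    {n : SL2} (hn : prj n = g) : n * y * n⁻¹ = y⁻¹ := by
  have hxA : x ∈ AA H x := (mem_AA hy).mpr ⟨y, rfl, hy⟩
  have h1 : g * x * g⁻¹ ∈ AA H x := (Subgroup.mem_normalizer_iff.mp hg x).mp hxA
  obtain ⟨c, hcy, hc⟩ := (mem_AA hy).mp h1
  have hc' : prj (n * y * n⁻¹) = prj c := by
    rw [hc, map_mul, map_mul, map_inv, hn, hy]; rfl
  have hz : (n * y * n⁻¹)⁻¹ * c ∈ Subgroup.center SL2 := prj_eq_iff.mp hc'
  have hcomm : (n * y * n⁻¹) * y = y * (n * y * n⁻¹) := by
    have hz' := Subgroup.mem_center_iff.mp hz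
    have e : c = (n * y * n⁻¹) * ((n * y * n⁻¹)⁻¹ * c) := by group
    rw [e] at hcy
    have h3 : (n * y * n⁻¹) * y * ((n * y * n⁻¹)⁻¹ * c)
        = y * (n * y * n⁻¹) * ((n * y * n⁻¹)⁻¹ * c) := by
      calc (n * y * n⁻¹) * y * ((n * y * n⁻¹)⁻¹ * c)
          = (n * y * n⁻¹) * (y * ((n * y * n⁻¹)⁻¹ * c)) := by group
        _ = (n * y * n⁻¹) * (((n * y * n⁻¹)⁻¹ * c) * y) := by rw [hz' y]
        _ = (n * y * n⁻¹) * ((n * y * n⁻¹)⁻¹ * c) * y := by group
        _ = y * ((n * y * n⁻¹) * ((n * y * n⁻¹)⁻¹ * c)) := hcy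
        _ = y * (n * y * n⁻¹) * ((n * y * n⁻¹)⁻¹ * c) := by group
    exact mul_right_cancel h3
  rcases eq_or_eq_inv_of_commute' y (n * y * n⁻¹) ht (tr2_conj n y) hcomm with h4 | h4
  · exfalso
    apply hgA
    refine (mem_AA hy).mpr ⟨n, ?_, hn⟩
    calc n * y = (n * y * n⁻¹) * n := by group
      _ = y * n := by rw [h4]
  · exact h4

/-- the centralizer in `H` of an element with non-semisimple lift lies in `A x` -/
theorem centralizer_le_AA {x : H} {y : SL2} (hy : prj y = x) (ht : tr2 y ^ 2 = 4) {g : H}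
    (hg : g * x = x * g) : g ∈ AA H x := by
  have h1 : prj (g : PSL2).out * prj y = prj y * prj (g : PSL2).out := by
    rw [prj_out, hy]
    exact congrArg Subtype.val hg
  have h2 : tr2 y ≠ 0 ∨ (2 : F) = 0 := by
    by_cases h20 : (2 : F) = 0
    · exact Or.inr h20
    · left
      intro h0
      rw [h0] at ht
      apply h20
      have : (2 : F) * 2 = 0 := by linear_combination -ht
      rcases mul_eq_zero.mp this with h | h <;> exact h
  exact (mem_AA hy).mpr ⟨_, comm_lift h1 h2, prj_out _⟩

/-- partition data when the non-semisimple elements have `|A x| ∈ {2, 3}` -/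
theorem pdata_small [Fintype F]
    (hsmall : ∀ x : H, x ≠ 1 → tr2 (x : PSL2).out ^ 2 = 4 →
      (Nat.card (AA H x) = 2 ∨ Nat.card (AA H x) = 3)) : PData (AA H) where
  mem := by
    intro x hx
    exact (mem_AA (prj_out _)).mpr ⟨_, rfl, prj_out _⟩
  eq_of_mem := by
    intro x hx x' hx' hx'1
    obtain ⟨c, hcy, hc⟩ := (mem_AA (prj_out _)).mp hx'
    unfold AA
    congr 1
    rw [imCen_congr (y := (x' : PSL2).out) (y' := c) (by rw [hc]; exact prj_out _)]
    exact imCen_eq_of_comm (not_mem_center_of_ne_one hx (prj_out _))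
      (not_mem_center_of_ne_one hx'1 hc) hcy
  conj := by
    intro x hx g a ha
    unfold AA at ha ⊢
    rw [Subgroup.mem_subgroupOf] at ha ⊢
    have h1 := imCen_conj (n := (g : PSL2).out) ha
    rw [prj_out] at h1
    rw [imCen_congr (y := ((g * x * g⁻¹ : H) : PSL2).out)
      (y' := (g : PSL2).out * (x : PSL2).out * ((g : PSL2).out)⁻¹)
      (by rw [prj_out, map_mul, map_mul, map_inv, prj_out, prj_out]; rfl)]
    exact h1
  cyc := by
    intro x hx
    by_cases ht : tr2 (x : PSL2).out ^ 2 = 4
    · have hcard := hsmall x hx ht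
      have hprime : (Nat.card (AA H x)).Prime := by
        rcases hcard with h | h <;> rw [h] <;> norm_num
      have : Fact (Nat.card (AA H x)).Prime := ⟨hprime⟩
      exact isCyclic_of_prime_card rfl
    · have hcyc := (centralizer_cyclic_card _ ht).1
      have hcyc2 : IsCyclic (imCen (x : PSL2).out) :=
        isCyclic_of_surjective (prj.subgroupMap _) (prj.subgroupMap_surjective _)
      let f : AA H x →* imCen (x : PSL2).out :=
        { toFun := fun a => ⟨(a : H), Subgroup.mem_subgroupOf.mp a.2⟩
          map_one' := rfl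
          map_mul' := fun _ _ => rfl }
      exact isCyclic_of_injective f (fun a b hab => by
        apply Subtype.ext
        apply Subtype.ext
        exact congrArg (fun t : imCen (x : PSL2).out => (t : PSL2)) hab)
  inv := by
    intro x hx g hg hgA a ha
    have hxA : x ∈ AA H x := (mem_AA (prj_out _)).mpr ⟨_, rfl, prj_out _⟩
    by_cases ht : tr2 (x : PSL2).out ^ 2 = 4
    · have hcard := hsmall x hx ht
      have hgx : g * x * g⁻¹ ∈ AA H x := (Subgroup.mem_normalizer_iff.mp hg x).mp hxA
      have hne : g * x * g⁻¹ ≠ x := by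
        intro h
        apply hgA
        apply centralizer_le_AA (prj_out _) ht
        calc g * x = (g * x * g⁻¹) * g := by group
          _ = x * g := by rw [h]
      exact small_inv (AA H x) x g hxA hx hcard hgx hne a ha
    · have hkey := key_inv' (prj_out _) ht hg hgA (prj_out _)
      obtain ⟨c, hcy, hc⟩ := (mem_AA (prj_out _)).mp ha
      set y := (x : PSL2).out with hy
      set n := (g : PSL2).out with hn
      by_cases hcz : c ∈ Subgroup.center SL2
      · have ha1 : a = 1 := by
          apply Subtype.ext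
          rw [← hc, Subgroup.coe_one]
          exact prj_eq_one_iff.mpr hcz
        rw [ha1]; simp
      · have hyz := not_mem_center_of_ne_one hx (prj_out (x : PSL2))
        have h1 : (n * c * n⁻¹) * y⁻¹ = y⁻¹ * (n * c * n⁻¹) := by
          rw [← hkey]
          calc n * c * n⁻¹ * (n * y * n⁻¹) = n * (c * y) * n⁻¹ := by group
            _ = n * (y * c) * n⁻¹ := by rw [hcy]
            _ = n * y * n⁻¹ * (n * c * n⁻¹) := by group
        have h2 : (n * c * n⁻¹) * y = y * (n * c * n⁻¹) := by
          calc (n * c * n⁻¹) * y = y * (y⁻¹ * (n * c * n⁻¹)) * y := by group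
            _ = y * ((n * c * n⁻¹) * y⁻¹) * y := by rw [h1]
            _ = y * (n * c * n⁻¹) := by group
        have h3 : (n * c * n⁻¹) * c = c * (n * c * n⁻¹) :=
          comm_of_comm_noncentral hyz h2 hcy
        have htc := tr2_sq_ne_four_of_comm ht hcz hcy
        rcases eq_or_eq_inv_of_commute' c (n * c * n⁻¹) htc (tr2_conj n c) h3 with h4 | h4
        · exfalso
          apply hgA
          have h5 : n * c = c * n := by
            calc n * c = (n * c * n⁻¹) * n := by group
              _ = c * n := by rw [h4]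
          exact (mem_AA (prj_out _)).mpr ⟨n, comm_of_comm_noncentral hcz h5 hcy.symm, prj_out _⟩
        · apply Subtype.ext
          have : ((g * a * g⁻¹ : H) : PSL2) = prj (n * c * n⁻¹) := by
            rw [map_mul, map_mul, map_inv, hc, prj_out]; rfl
          rw [this, h4, map_inv, hc]; rfl
  idx := by
    intro x hx g hg g' hg' hgA hg'A
    have hxA : x ∈ AA H x := (mem_AA (prj_out _)).mpr ⟨_, rfl, prj_out _⟩
    by_cases ht : tr2 (x : PSL2).out ^ 2 = 4
    · have hcard := hsmall x hx ht
      have hne : ∀ k : H, k ∉ AA H x → k * x * k⁻¹ ≠ x := by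
        intro k hk h
        apply hk
        apply centralizer_le_AA (prj_out _) ht
        calc k * x = (k * x * k⁻¹) * k := by group
          _ = x * k := by rw [h]
      have h1 := small_inv (AA H x) x g hxA hx hcard
        ((Subgroup.mem_normalizer_iff.mp hg x).mp hxA) (hne g hgA) x hxA
      have h2 := small_inv (AA H x) x g' hxA hx hcard
        ((Subgroup.mem_normalizer_iff.mp hg' x).mp hxA) (hne g' hg'A) x hxA
      apply centralizer_le_AA (prj_out _) ht
      have h3 : (g * g') * x * (g * g')⁻¹ = x := by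
        calc (g * g') * x * (g * g')⁻¹ = g * (g' * x * g'⁻¹) * g⁻¹ := by group
          _ = g * x⁻¹ * g⁻¹ := by rw [h2]
          _ = (g * x * g⁻¹)⁻¹ := by group
          _ = x := by rw [h1, inv_inv]
      calc g * g' * x = ((g * g') * x * (g * g')⁻¹) * (g * g') := by group
        _ = x * (g * g') := by rw [h3]
    · have hk := key_inv' (prj_out _) ht hg hgA (prj_out _)
      have hk' := key_inv' (prj_out _) ht hg' hg'A (prj_out _)
      set y := (x : PSL2).out with hy
      set n := (g : PSL2).out with hn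
      set n' := (g' : PSL2).out with hn'
      refine (mem_AA (prj_out _)).mpr ⟨n * n', ?_, ?_⟩
      · have h1 : (n * n') * y * (n * n')⁻¹ = y := by
          calc (n * n') * y * (n * n')⁻¹ = n * (n' * y * n'⁻¹) * n⁻¹ := by group
            _ = n * y⁻¹ * n⁻¹ := by rw [hk']
            _ = (n * y * n⁻¹)⁻¹ := by group
            _ = y := by rw [hk, inv_inv]
        calc n * n' * y = ((n * n') * y * (n * n')⁻¹) * (n * n') := by group
          _ = y * (n * n') := by rw [h1]
      · rw [map_mul, prj_out, prj_out]; rfl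

/-- per-element divisibility of `|A x|` for semisimple `x` -/
theorem card_AA_dvd_of_ss [Fintype F] {x : H} (ht : tr2 (x : PSL2).out ^ 2 ≠ 4) :
    Nat.card (AA H x) ∣ (Fintype.card F + 1) / Nat.gcd 2 (Fintype.card F - 1) ∨
      Nat.card (AA H x) ∣ (Fintype.card F - 1) / Nat.gcd 2 (Fintype.card F - 1) := by
  have hcard := (centralizer_cyclic_card _ ht).2
  let f : AA H x →* imCen (x : PSL2).out :=
    { toFun := fun a => ⟨(a : H), Subgroup.mem_subgroupOf.mp a.2⟩
      map_one' := rfl
      map_mul' := fun _ _ => rfl }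
  have hf : Function.Injective f := fun a b hab => by
    apply Subtype.ext
    apply Subtype.ext
    exact congrArg (fun t : imCen (x : PSL2).out => (t : PSL2)) hab
  have hdvd : Nat.card (AA H x) ∣ Nat.card (imCen (x : PSL2).out) :=
    Subgroup.card_dvd_of_injective f hf
  have hmul := card_imCen_mul (x : PSL2).out
  rw [card_center_eq_gcd] at hmul
  have hdpos : 0 < Nat.gcd 2 (Fintype.card F - 1) := Nat.gcd_pos_of_pos_left _ (by norm_num)
  rcases hcard with hc | hc
  · right
    rw [hc] at hmul
    rw [Nat.div_eq_of_eq_mul_left hdpos hmul.symm]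
    exact hdvd
  · left
    rw [hc] at hmul
    rw [Nat.div_eq_of_eq_mul_left hdpos hmul.symm]
    exact hdvd

end Main

end Cfsg.Agent.Lib.Helper42
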