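import Mathlib
import Cfsg.Prelude.Def_GeometricClasses
import Cfsg.Agent.Lib.Helper99.AschDefs
import Cfsg.Agent.Lib.Helper5.AschODefs

/-!
# ASCHO (S5673, owner helper5), module [SETUP] (helper42): a minimal non-scalar normalised subgroup

`exists_isMinNrm_of_not_le`: if `H` is not scalar there is `N` with `IsMinNrm H N` (second half of helper93's
ASCH-[SETUP], with the hypothesis `¬ H ≤ scalars` in place of `NAI H`).
-/

set_option autoImplicit false

namespace Cfsg.Agent.Lib.Helper5.AschO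

open Cfsg Cfsg.Geo Cfsg.Agent.Lib.Helper99.Asch
open scoped MatrixGroups Matrix Kronecker

variable {n : ℕ} {F : Type*} [Field F] [Fintype F]

/-- ASCHO-[SETUP] -/
theorem exists_isMinNrm_of_not_le (H : Subgroup (GL (Fin n) F)) (hH : ¬ H ≤ scalars (Fin n) F) :
    ∃ N : Subgroup (GL (Fin n) F), IsMinNrm H N := by
  classical
  set C : Set (Subgroup (GL (Fin n) F)) :=
    {M | scalars (Fin n) F ≤ M ∧ M ≤ H ⊔ scalars (Fin n) F ∧ Nrm H M ∧ ¬ M ≤ scalars (Fin n) F} with hC
  have hne : C.Nonempty := by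
    refine ⟨H ⊔ scalars (Fin n) F, le_sup_right, le_refl _, ?_, ?_⟩
    · intro h hh x hx
      have hh' : h ∈ H ⊔ scalars (Fin n) F := (le_sup_left : H ≤ H ⊔ scalars (Fin n) F) hh
      exact Subgroup.mul_mem _ (Subgroup.mul_mem _ hh' hx) (Subgroup.inv_mem _ hh')
    · intro hle
      exact hH (le_trans le_sup_left hle)
  obtain ⟨N, hN, hmin⟩ := Set.exists_min_image C (fun M => Nat.card M) (Set.toFinite C) hne
  obtain ⟨h1, h2, h3, h4⟩ := hN
  refine ⟨N, ⟨h1, h4, h2, h3, ?_⟩⟩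
  intro M hZM hMN hnrm
  by_cases hMZ : M ≤ scalars (Fin n) F
  · exact Or.inl (le_antisymm hMZ hZM)
  · right
    have hMC : M ∈ C := ⟨hZM, le_trans hMN h2, hnrm, hMZ⟩
    exact Subgroup.eq_of_le_of_card_ge hMN (hmin M hMC)

end Cfsg.Agent.Lib.Helper5.AschO
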