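-- helper42: ASCH-[COMPS] abstract core: components of a perfect "chief factor modulo a central
-- subgroup" in a finite group (no quotient groups in the statement).
import Mathlib

set_option autoImplicit false

namespace Cfsg.Agent.Lib.Helper42.AschComps

open scoped Pointwise commutatorElement

variable {G : Type*} [Group G]

/-- `A` normalises `M` (one-sided form). -/
def Nrm' (A M : Subgroup G) : Prop := ∀ a ∈ A, ∀ x ∈ M, a * x * a⁻¹ ∈ M

theorem mem_conj_smul_iff (h x : G) (M : Subgroup G) :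
    x ∈ MulAut.conj h • M ↔ h⁻¹ * x * h ∈ M := by
  rw [Subgroup.mem_pointwise_smul_iff_inv_smul_mem, MulAut.smul_def, ← map_inv,
    MulAut.conj_apply, inv_inv]

theorem conj_mem_conj_smul_iff (h x : G) (M : Subgroup G) :
    h * x * h⁻¹ ∈ MulAut.conj h • M ↔ x ∈ M := by
  rw [mem_conj_smul_iff]
  have : h⁻¹ * (h * x * h⁻¹) * h = x := by group
  rw [this]

theorem conj_smul_conj_smul (a b : G) (M : Subgroup G) :
    MulAut.conj a • (MulAut.conj b • M) = MulAut.conj (a * b) • M := by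
  rw [map_mul, mul_smul]

theorem conj_one_smul (M : Subgroup G) : MulAut.conj (1 : G) • M = M := by
  rw [map_one, one_smul]

theorem nrm'_self (P : Subgroup G) : Nrm' P P :=
  fun a ha x hx => P.mul_mem (P.mul_mem ha hx) (P.inv_mem ha)

theorem nrm'_inf {P M₁ M₂ : Subgroup G} (h1 : Nrm' P M₁) (h2 : Nrm' P M₂) : Nrm' P (M₁ ⊓ M₂) :=
  fun a ha x hx => Subgroup.mem_inf.mpr
    ⟨h1 a ha x (Subgroup.mem_inf.mp hx).1, h2 a ha x (Subgroup.mem_inf.mp hx).2⟩

theorem nrm'_commutator {P M : Subgroup G} (h : Nrm' P M) : Nrm' P ⁅M, M⁆ := by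
  intro a ha x hx
  have hle : ⁅M, M⁆ ≤ (⁅M, M⁆).comap (MulAut.conj a).toMonoidHom := by
    rw [Subgroup.commutator_le]
    intro g₁ hg₁ g₂ hg₂
    rw [Subgroup.mem_comap, MulEquiv.coe_toMonoidHom, map_commutatorElement]
    exact Subgroup.commutator_mem_commutator (by simpa using h a ha g₁ hg₁)
      (by simpa using h a ha g₂ hg₂)
  have := hle hx
  simpa using this

theorem le_normalizer_of_nrm' {A M : Subgroup G} (h : Nrm' A M) :
    A ≤ Subgroup.normalizer (M : Set G) := by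
  intro g hg
  rw [Subgroup.mem_normalizer_iff]
  intro x
  constructor
  · exact fun hx => h g hg x hx
  · intro hx
    have := h g⁻¹ (A.inv_mem hg) _ hx
    simpa [mul_assoc] using this

theorem nrm'_of_le_normalizer {A M : Subgroup G} (h : A ≤ Subgroup.normalizer (M : Set G)) :
    Nrm' A M :=
  fun a ha x hx => (Subgroup.mem_normalizer_iff.mp (h ha) x).mp hx

section central

variable {Z H P : Subgroup G} (hZ : ∀ z ∈ Z, ∀ g : G, g * z = z * g)
include hZ

theorem conj_smul_le_iff (h : G) (M : Subgroup G) : MulAut.conj h • M ≤ Z ↔ M ≤ Z := by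
  constructor
  · intro hle x hx
    have hz : h * x * h⁻¹ ∈ Z := hle ((conj_mem_conj_smul_iff h x M).mpr hx)
    have h1 := hZ _ hz h⁻¹
    have h2 : x = h * x * h⁻¹ := by
      calc x = h⁻¹ * (h * x * h⁻¹) * h := by group
        _ = (h * x * h⁻¹) * h⁻¹ * h := by rw [h1]
        _ = h * x * h⁻¹ := by group
    rw [h2]; exact hz
  · intro hle y hy
    have hz : h⁻¹ * y * h ∈ Z := hle ((mem_conj_smul_iff h y M).mp hy)
    have h1 := hZ _ hz h
    have h2 : y = h⁻¹ * y * h := by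
      calc y = h * (h⁻¹ * y * h) * h⁻¹ := by group
        _ = (h⁻¹ * y * h) * h * h⁻¹ := by rw [h1]
        _ = h⁻¹ * y * h := by group
    rw [h2]; exact hz

theorem le_centralizer_of_le (M K : Subgroup G) (hK : K ≤ Z) :
    K ≤ Subgroup.centralizer (M : Set G) := by
  intro k hk
  rw [Subgroup.mem_centralizer_iff]
  intro m _
  exact hZ k (hK hk) m

/-- A perfect subgroup whose commutators with `M₂` are central commutes with `M₂`. -/
theorem commute_of_perfect {M₁ M₂ : Subgroup G} (hperf : ⁅M₁, M₁⁆ = M₁) (hc : ⁅M₁, M₂⁆ ≤ Z) :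
    ∀ x ∈ M₁, ∀ y ∈ M₂, x * y = y * x := by
  have h1 : ⁅⁅M₁, M₂⁆, M₁⁆ = ⊥ :=
    Subgroup.commutator_eq_bot_iff_le_centralizer.mpr (le_centralizer_of_le hZ M₁ _ hc)
  have h2 : ⁅⁅M₂, M₁⁆, M₁⁆ = ⊥ := by
    rw [Subgroup.commutator_comm M₂ M₁]; exact h1
  have h3 : ⁅⁅M₁, M₁⁆, M₂⁆ = ⊥ := Subgroup.commutator_commutator_eq_bot_of_rotate h1 h2
  rw [hperf, Subgroup.commutator_eq_bot_iff_le_centralizer] at h3
  intro x hx y hy
  have := h3 hx
  rw [Subgroup.mem_centralizer_iff] at this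
  exact (this y hy).symm

end central


/-- `M` is minimal among the `P`-normalised subgroups of `P` not contained in `Z`. -/
structure IsMinNS (Z P M : Subgroup G) : Prop where
  le : M ≤ P
  nrm : Nrm' P M
  not_le : ¬ M ≤ Z
  min : ∀ M' : Subgroup G, M' ≤ M → Nrm' P M' → ¬ M' ≤ Z → M' = M

theorem exists_isMinNS [Finite G] (Z P : Subgroup G) (hP : ¬ P ≤ Z) : ∃ M, IsMinNS Z P M := by
  let S : Set (Subgroup G) := {M | M ≤ P ∧ Nrm' P M ∧ ¬ M ≤ Z}
  have hS : S.Nonempty := ⟨P, le_refl P, nrm'_self P, hP⟩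
  obtain ⟨M, hM, hmin⟩ := (wellFounded_lt (α := Subgroup G)).has_min S hS
  refine ⟨M, hM.1, hM.2.1, hM.2.2, ?_⟩
  intro M' hle hn hz
  exact eq_of_le_of_not_lt hle (hmin M' ⟨hle.trans hM.1, hn, hz⟩)

section setup

variable {Z H P : Subgroup G} (hZ : ∀ z ∈ Z, ∀ g : G, g * z = z * g) (hnrm : Nrm' H P)

include hnrm in
theorem nrm'_conj_smul {h : G} (hh : h ∈ H) {M : Subgroup G} (hM : Nrm' P M) :
    Nrm' P (MulAut.conj h • M) := by
  intro a ha x hx
  rw [mem_conj_smul_iff] at hx ⊢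
  have ha' : h⁻¹ * a * h ∈ P := by
    have := hnrm h⁻¹ (H.inv_mem hh) a ha
    rwa [inv_inv] at this
  have := hM _ ha' _ hx
  have e : h⁻¹ * (a * x * a⁻¹) * h = h⁻¹ * a * h * (h⁻¹ * x * h) * (h⁻¹ * a * h)⁻¹ := by group
  rw [e]; exact this

include hnrm in
theorem conj_smul_le {h : G} (hh : h ∈ H) {M : Subgroup G} (hM : M ≤ P) :
    MulAut.conj h • M ≤ P := by
  intro y hy
  rw [mem_conj_smul_iff] at hy
  have := hnrm h hh _ (hM hy)
  have e : h * (h⁻¹ * y * h) * h⁻¹ = y := by group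
  rwa [e] at this

include hZ hnrm in
theorem IsMinNS.conj_smul {M : Subgroup G} (hM : IsMinNS Z P M) {h : G} (hh : h ∈ H) :
    IsMinNS Z P (MulAut.conj h • M) := by
  refine ⟨conj_smul_le hnrm hh hM.le, nrm'_conj_smul hnrm hh hM.nrm, ?_, ?_⟩
  · rw [conj_smul_le_iff hZ]; exact hM.not_le
  · intro M' hle hn hz
    have h1 : MulAut.conj h⁻¹ • M' ≤ M := by
      intro y hy
      rw [mem_conj_smul_iff, inv_inv] at hy
      have := (mem_conj_smul_iff h _ M).mp (hle hy)
      have e : h⁻¹ * (h * y * h⁻¹) * h = y := by group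
      rwa [e] at this
    have h2 : Nrm' P (MulAut.conj h⁻¹ • M') := nrm'_conj_smul hnrm (H.inv_mem hh) hn
    have h3 : ¬ MulAut.conj h⁻¹ • M' ≤ Z := by rw [conj_smul_le_iff hZ]; exact hz
    have h4 := hM.min _ h1 h2 h3
    rw [← h4, conj_smul_conj_smul, mul_inv_cancel, conj_one_smul]

/-- distinct minimal subgroups have central commutators -/
theorem commutator_le_of_ne {M₁ M₂ : Subgroup G} (h1 : IsMinNS Z P M₁) (h2 : IsMinNS Z P M₂)
    (hne : M₁ ≠ M₂) : ⁅M₁, M₂⁆ ≤ Z := by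
  have hinf : M₁ ⊓ M₂ ≤ Z := by
    by_contra hn
    have e1 := h1.min (M₁ ⊓ M₂) inf_le_left (nrm'_inf h1.nrm h2.nrm) hn
    have e2 := h2.min (M₁ ⊓ M₂) inf_le_right (nrm'_inf h1.nrm h2.nrm) hn
    exact hne (e1.symm.trans e2)
  refine le_trans ?_ hinf
  rw [Subgroup.commutator_le]
  intro g₁ hg₁ g₂ hg₂
  rw [commutatorElement_def, Subgroup.mem_inf]
  constructor
  · have := h1.nrm g₂ (h2.le hg₂) g₁⁻¹ (M₁.inv_mem hg₁)
    have e : g₁ * g₂ * g₁⁻¹ * g₂⁻¹ = g₁ * (g₂ * g₁⁻¹ * g₂⁻¹) := by group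
    rw [e]; exact M₁.mul_mem hg₁ this
  · have := h2.nrm g₁ (h1.le hg₁) g₂ hg₂
    exact M₂.mul_mem this (M₂.inv_mem hg₂)

end setup


theorem commutator_self_le (M : Subgroup G) : ⁅M, M⁆ ≤ M := by
  rw [Subgroup.commutator_le]
  intro g₁ hg₁ g₂ hg₂
  rw [commutatorElement_def]
  exact M.mul_mem (M.mul_mem (M.mul_mem hg₁ hg₂) (M.inv_mem hg₁)) (M.inv_mem hg₂)

theorem conj_smul_commutator (h : G) (M : Subgroup G) :
    ⁅MulAut.conj h • M, MulAut.conj h • M⁆ = MulAut.conj h • ⁅M, M⁆ := by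
  rw [Subgroup.pointwise_smul_def, Subgroup.pointwise_smul_def]
  exact (Subgroup.map_commutator M M _).symm

/-- if the members of a family pairwise have central commutators (including with themselves),
so does the join. -/
theorem commutator_iSup_le {ι : Sort*} (Z : Subgroup G) (hZ : ∀ z ∈ Z, ∀ g : G, g * z = z * g)
    (Q : ι → Subgroup G) (h : ∀ i j, ⁅Q i, Q j⁆ ≤ Z) : ⁅iSup Q, iSup Q⁆ ≤ Z := by
  have hZn : Z.Normal := ⟨fun z hz g => by rw [hZ z hz g]; simpa using hz⟩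
  let π := QuotientGroup.mk' Z
  have key : ∀ x y : G, ⁅x, y⁆ ∈ Z → π x * π y = π y * π x := by
    intro x y hxy
    have h1 : π ⁅x, y⁆ = 1 := (QuotientGroup.eq_one_iff _).mpr hxy
    rw [map_commutatorElement] at h1
    exact commutatorElement_eq_one_iff_mul_comm.mp h1
  have step1 : ∀ j, ∀ y ∈ Q j, iSup Q ≤ (Subgroup.centralizer ({π y} : Set (G ⧸ Z))).comap π := by
    intro j y hy
    apply iSup_le
    intro i x hx
    rw [Subgroup.mem_comap, Subgroup.mem_centralizer_iff]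
    intro w hw
    rw [Set.mem_singleton_iff] at hw
    subst hw
    exact (key x y (h i j (Subgroup.commutator_mem_commutator hx hy))).symm
  have step2 : ∀ x ∈ iSup Q, iSup Q ≤ (Subgroup.centralizer ({π x} : Set (G ⧸ Z))).comap π := by
    intro x hx
    apply iSup_le
    intro j y hy
    have h1 := step1 j y hy hx
    rw [Subgroup.mem_comap, Subgroup.mem_centralizer_iff] at h1 ⊢
    intro w hw
    rw [Set.mem_singleton_iff] at hw
    subst hw
    exact (h1 (π y) rfl).symm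
  rw [Subgroup.commutator_le]
  intro x hx y hy
  have h1 := step2 x hx hy
  rw [Subgroup.mem_comap, Subgroup.mem_centralizer_iff] at h1
  have h2 : π x * π y = π y * π x := h1 (π x) rfl
  have h3 : π ⁅x, y⁆ = 1 := by
    rw [map_commutatorElement]
    exact commutatorElement_eq_one_iff_mul_comm.mpr h2
  exact (QuotientGroup.eq_one_iff _).mp h3

/-- ASCH-[COMPS], abstract form. -/
theorem exists_comps [Finite G] (Z H P : Subgroup G) (hZ : ∀ z ∈ Z, ∀ g : G, g * z = z * g)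
    (hnrm : Nrm' H P) (hperf : ⁅P, P⁆ = P) (hnot : ¬ P ≤ Z)
    (hmin : ∀ M : Subgroup G, M ≤ P → Nrm' H M → M ≤ Z ∨ M = P) :
    ∃ (k : ℕ) (Q : Fin k → Subgroup G), 0 < k ∧
      (∀ i, Q i ≤ P) ∧ (∀ i, ⁅Q i, Q i⁆ = Q i) ∧ (∀ i, ¬ Q i ≤ Z) ∧
      (∀ i, ∀ M : Subgroup G, M ≤ Q i → Nrm' (Q i) M → M ≤ Z ∨ M = Q i) ∧
      (∀ i j, i ≠ j → ∀ x ∈ Q i, ∀ y ∈ Q j, x * y = y * x) ∧ iSup Q = P ∧
      (∀ h ∈ H, ∃ σ : Equiv.Perm (Fin k), ∀ i x, x ∈ Q i ↔ h * x * h⁻¹ ∈ Q (σ i)) ∧
      (∀ i j, ∃ h ∈ H, ∀ x, x ∈ Q i ↔ h * x * h⁻¹ ∈ Q j) := by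
  classical
  obtain ⟨Q0, hQ0⟩ := exists_isMinNS Z P hnot
  let C : Type _ := {M : Subgroup G // ∃ h ∈ H, M = MulAut.conj h • Q0}
  have hCmin : ∀ M : C, IsMinNS Z P M.1 := by
    rintro ⟨M, h, hh, rfl⟩
    exact hQ0.conj_smul hZ hnrm hh
  have hCfin : Finite C := Subtype.finite
  have hCne : Nonempty C := ⟨⟨Q0, 1, H.one_mem, (conj_one_smul Q0).symm⟩⟩
  let k := Nat.card C
  let e : C ≃ Fin k := Finite.equivFin C
  let Q : Fin k → Subgroup G := fun i => (e.symm i).1
  have hQmin : ∀ i, IsMinNS Z P (Q i) := fun i => hCmin (e.symm i)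
  have hQinj : ∀ i j, Q i = Q j → i = j := fun i j h => e.symm.injective (Subtype.ext h)
  have hk : 0 < k := Nat.card_pos
  have hconjC : ∀ h ∈ H, ∀ i, ∃ j, Q j = MulAut.conj h • Q i := by
    intro h hh i
    obtain ⟨a, ha, hMa⟩ := (e.symm i).2
    have hmem : ∃ b ∈ H, MulAut.conj h • Q i = MulAut.conj b • Q0 :=
      ⟨h * a, H.mul_mem hh ha, by
        show MulAut.conj h • (e.symm i).1 = _
        rw [hMa, conj_smul_conj_smul]⟩
    refine ⟨e ⟨MulAut.conj h • Q i, hmem⟩, ?_⟩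
    show (e.symm (e _)).1 = _
    rw [Equiv.symm_apply_apply]
  have htrans : ∀ i j, ∃ h ∈ H, Q j = MulAut.conj h • Q i := by
    intro i j
    obtain ⟨a, ha, hMa⟩ := (e.symm i).2
    obtain ⟨b, hb, hMb⟩ := (e.symm j).2
    refine ⟨b * a⁻¹, H.mul_mem hb (H.inv_mem ha), ?_⟩
    show (e.symm j).1 = MulAut.conj (b * a⁻¹) • (e.symm i).1
    rw [hMa, hMb, conj_smul_conj_smul, inv_mul_cancel_right]
  have hJle : iSup Q ≤ P := iSup_le fun i => (hQmin i).le
  have hJnrm : Nrm' H (iSup Q) := by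
    intro h hh x hx
    have hle' : iSup Q ≤ (iSup Q).comap (MulAut.conj h).toMonoidHom := by
      apply iSup_le
      intro i y hy
      obtain ⟨j, hj⟩ := hconjC h hh i
      rw [Subgroup.mem_comap]
      apply le_iSup Q j
      rw [hj]
      exact (conj_mem_conj_smul_iff h y (Q i)).mpr hy
    exact hle' hx
  have hJ : iSup Q = P := by
    rcases hmin _ hJle hJnrm with h | h
    · exfalso
      exact (hQmin ⟨0, hk⟩).not_le ((le_iSup Q _).trans h)
    · exact h
  -- perfectness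
  have hnc : ∀ i, ¬ ⁅Q i, Q i⁆ ≤ Z := by
    intro i hi
    have hall : ∀ a b, ⁅Q a, Q b⁆ ≤ Z := by
      intro a b
      by_cases hab : a = b
      · subst hab
        obtain ⟨h, _, hh⟩ := htrans i a
        rw [hh, conj_smul_commutator, conj_smul_le_iff hZ]
        exact hi
      · exact commutator_le_of_ne (hQmin a) (hQmin b) (fun h => hab (hQinj a b h))
    have h1 := commutator_iSup_le Z hZ Q hall
    rw [hJ, hperf] at h1
    exact hnot h1
  have hperfQ : ∀ i, ⁅Q i, Q i⁆ = Q i := fun i =>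
    (hQmin i).min _ (commutator_self_le _) (nrm'_commutator (hQmin i).nrm) (hnc i)
  have hcomm : ∀ i j, i ≠ j → ∀ x ∈ Q i, ∀ y ∈ Q j, x * y = y * x := fun i j hij =>
    commute_of_perfect hZ (hperfQ i)
      (commutator_le_of_ne (hQmin i) (hQmin j) (fun h => hij (hQinj i j h)))
  refine ⟨k, Q, hk, fun i => (hQmin i).le, hperfQ, fun i => (hQmin i).not_le, ?_, hcomm, hJ,
    ?_, ?_⟩
  · intro i M hle hM
    by_cases hz : M ≤ Z
    · exact Or.inl hz
    · right
      refine (hQmin i).min M hle ?_ hz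
      apply nrm'_of_le_normalizer
      rw [← hJ]
      apply iSup_le
      intro j
      by_cases hji : j = i
      · subst hji
        exact le_normalizer_of_nrm' hM
      · refine le_trans ?_ (Subgroup.centralizer_le_normalizer _)
        intro g hg
        rw [Subgroup.mem_centralizer_iff]
        intro m hm
        exact (hcomm j i hji g hg m (hle hm)).symm
  · intro h hh
    choose f hf using hconjC h hh
    have hfinj : Function.Injective f := by
      intro i j hij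
      apply hQinj
      have h1 : MulAut.conj h • Q i = MulAut.conj h • Q j := by rw [← hf i, ← hf j, hij]
      exact smul_left_cancel _ h1
    have hfbij : Function.Bijective f := Finite.injective_iff_bijective.mp hfinj
    refine ⟨Equiv.ofBijective f hfbij, ?_⟩
    intro i x
    rw [Equiv.ofBijective_apply, hf i]
    exact (conj_mem_conj_smul_iff h x (Q i)).symm
  · intro i j
    obtain ⟨h, hh, hj⟩ := htrans i j
    refine ⟨h, hh, fun x => ?_⟩
    rw [hj]
    exact (conj_mem_conj_smul_iff h x (Q i)).symm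

end Cfsg.Agent.Lib.Helper42.AschComps
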