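-- helper42: ASCH-[COMPS] (project ASCH, helper99): components of a perfect chief factor.
import Mathlib
import Cfsg.Prelude.Def_GeometricClasses
import Cfsg.Agent.Lib.Helper99.AschDefs
import Cfsg.Agent.Lib.Helper42.AschCompsAbs

set_option autoImplicit false

namespace Cfsg.Agent.Lib.Helper42.AschComps

open Cfsg Cfsg.Geo
open scoped MatrixGroups

/-- scalar matrices are central in `GL` -/
theorem scalars_central {ι : Type} [Fintype ι] [DecidableEq ι] {F : Type*} [Field F] :
    ∀ z ∈ scalars ι F, ∀ g : GL ι F, g * z = z * g := by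
  intro z hz g
  obtain ⟨c, hc⟩ := (mem_scalars_iff z).mp hz
  apply Units.ext
  rw [Units.val_mul, Units.val_mul, hc]
  simp

end Cfsg.Agent.Lib.Helper42.AschComps

namespace Cfsg.Agent.Lib.Helper99.Asch

open Cfsg Cfsg.Geo
open scoped MatrixGroups Matrix Kronecker

variable {n : ℕ} {F : Type*} [Field F] [Fintype F]

/-- ASCH-[COMPS] -/
theorem exists_compSys (H P : Subgroup (GL (Fin n) F)) (hP : PerfMin H P) :
    ∃ (k : ℕ) (Q : Fin k → Subgroup (GL (Fin n) F)), 0 < k ∧ CompSys H P Q := by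
  obtain ⟨k, Q, hk, h1, h2, h3, h4, h5, h6, h7, h8⟩ :=
    Cfsg.Agent.Lib.Helper42.AschComps.exists_comps (scalars (Fin n) F) H P
      Cfsg.Agent.Lib.Helper42.AschComps.scalars_central hP.nrm hP.perfect hP.not_le hP.minimal
  exact ⟨k, Q, hk, ⟨h1, h2, h3, h4, h5, h6, h7, h8⟩⟩

end Cfsg.Agent.Lib.Helper99.Asch
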