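import Mathlib
import Cfsg.Prelude.Def_GeometricClasses
import Cfsg.Agent.Lib.Helper99.AschDefs
import Cfsg.Agent.Lib.Helper5.AschODefs
import Cfsg.Agent.Lib.Helper25.AschC4Aux

/-!
# ASCHO (S5673, owner helper5), module [C4] (helper42): Kronecker products with `d ≠ e` give class 4

`geoO_of_kronecker_ne`: `H ≤ GL_d ⊗ GL_e` in the coordinates `idx`, `B`, the polar form of `Q` a tensor product
`f₁ ⊗ f₂` of symmetric forms in these coordinates, `d ≠ e`: `H` lies in a class-4 member (`d < e` directly,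
`d > e` after swapping the factors).
-/

set_option autoImplicit false

namespace Cfsg.Agent.Lib.Helper42.AschOC4

open Cfsg Cfsg.Geo
open scoped MatrixGroups Matrix Kronecker

variable {F : Type*} [Field F]

/-- swapping the two tensor factors of a Kronecker Gram form -/
theorem formOfGram_kronecker_swap {d e : ℕ} (G₁ : Matrix (Fin d) (Fin d) F)
    (G₂ : Matrix (Fin e) (Fin e) F) (x' y' : Fin e × Fin d → F) :
    formOfGram id (G₁ ⊗ₖ G₂) (x' ∘ Prod.swap) (y' ∘ Prod.swap) =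
      formOfGram id (G₂ ⊗ₖ G₁) x' y' := by
  unfold formOfGram
  refine Fintype.sum_equiv (Equiv.prodComm (Fin d) (Fin e)) _ _ (fun a => ?_)
  refine Fintype.sum_equiv (Equiv.prodComm (Fin d) (Fin e)) _ _ (fun b => ?_)
  simp [Matrix.kroneckerMap_apply, mul_comm]

end Cfsg.Agent.Lib.Helper42.AschOC4

namespace Cfsg.Agent.Lib.Helper5.AschO

open Cfsg Cfsg.Geo Cfsg.Agent.Lib.Helper99.Asch
open scoped MatrixGroups Matrix Kronecker

variable {n : ℕ} {F : Type*} [Field F] [Fintype F]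

open Cfsg.Agent.Lib.Helper25.AschC4 Cfsg.Agent.Lib.Helper42.AschOC4 in
/-- ASCHO-[C4] -/
theorem geoO_of_kronecker_ne {Q : (Fin n → F) → F} {H : Subgroup (GL (Fin n) F)} (hS : OSetup Q H)
    (d e : ℕ) (hde : d ≠ e) (hd : 2 ≤ d) (he : 2 ≤ e) (idx : Fin n ≃ Fin d × Fin e) (B : GL (Fin n) F)
    (hHk : ∀ h ∈ H, ∃ (a : GL (Fin d) F) (b : GL (Fin e) F),
      ((B * h * B⁻¹ : GL (Fin n) F) : Matrix (Fin n) (Fin n) F) =
      Matrix.reindex idx.symm idx.symm ((a : Matrix (Fin d) (Fin d) F) ⊗ₖ (b : Matrix (Fin e) (Fin e) F)))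
    (f₁ : (Fin d → F) → (Fin d → F) → F) (f₂ : (Fin e → F) → (Fin e → F) → F)
    (h₁ : IsSymmetricForm f₁) (h₂ : IsSymmetricForm f₂)
    (hT : IsTensorFormStructure id (QuadraticMap.polar Q) f₁ f₂ idx B⁻¹) : GeoO Q H := by
  -- `n = d e` is odd, so `3 ≤ d, e`
  have hn : n = d * e := by
    have := Fintype.card_congr idx
    simpa using this
  have hodd : Odd d ∧ Odd e := by
    have h := hS.odd_dim
    rw [hn] at h
    exact Nat.odd_mul.mp h
  have hd3 : 3 ≤ d := by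
    obtain ⟨k, hk⟩ := hodd.1
    omega
  have he3 : 3 ≤ e := by
    obtain ⟨k, hk⟩ := hodd.2
    omega
  rcases lt_or_gt_of_ne hde with hlt | hgt
  · refine GeoO.of_4 hS.le idx B⁻¹ f₁ f₂ hd3 hlt h₁ h₂ hT ?_
    intro h hh
    obtain ⟨a, b, hab⟩ := hHk h hh
    apply mem_conj_reindex idx B h
    refine ⟨a, b, ?_⟩
    rw [glReindex_val, hab]
    ext i j
    simp
  · have hT' : IsTensorFormStructure id (QuadraticMap.polar Q) f₂ f₁
        (idx.trans (Equiv.prodComm (Fin d) (Fin e))) B⁻¹ := by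
      obtain ⟨c, hc, hform⟩ := hT
      refine ⟨c, hc, ?_⟩
      intro x' y'
      have h := hform (x' ∘ Prod.swap) (y' ∘ Prod.swap)
      rw [formOfGram_kronecker_swap] at h
      exact h
    refine GeoO.of_4 hS.le (idx.trans (Equiv.prodComm _ _)) B⁻¹ f₂ f₁ he3 hgt h₂ h₁ hT' ?_
    intro h hh
    obtain ⟨a, b, hab⟩ := hHk h hh
    apply mem_conj_reindex (idx.trans (Equiv.prodComm _ _)) B h
    refine ⟨b, a, ?_⟩
    rw [glReindex_val, hab]
    ext i j
    simp [Matrix.kroneckerMap_apply, mul_comm]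

end Cfsg.Agent.Lib.Helper5.AschO
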