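/-
helper42: module PF13-[AXB2] of helper16's PF sec.13 project (board #5165, sheet
Lib/Helper16/PF13_MODULES.md wave 4): the axis bound for a Type II side.
-/
import Mathlib
import Cfsg.Agent.Lib.Helper16.PF13Defs
import Cfsg.Agent.Lib.Helper25.PF13AX
import Cfsg.Agent.Lib.Helper33.PFThirteenD

set_option autoImplicit false

namespace Cfsg.Agent.Lib.Helper42.PF13

open Cfsg Cfsg.Agent.Lib.Helper24.PFCyc Cfsg.Agent.Lib.Helper4.PF Cfsg.Agent.Lib.Helper16.PF13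
open scoped Pointwise

universe u

variable {G : Type u} [Group G] [Fintype G] {S W₁ U W₂ : Subgroup G} [Fintype S]
  {mu : WChar W₁ W₂ → (↥S → ℂ)} {dl : WChar W₁ W₂ → ℂ} {η : WChar W₁ W₂ → (G → ℂ)}

theorem axis_bound_typeII (h : PSide S W₁ U W₂ mu dl η) (hsolv : Group.IsSolvable ↥S)
    (hII : IsOfTypeII S) {P₁ : Subgroup G} (hP₁ : P₁ ≤ fittingHallOf S)
    (hU : U ≤ Subgroup.normalizer (P₁ : Set G)) (hcard : Nat.card P₁ = Nat.card W₂) :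
    4 * Nat.card U ≤ (Nat.card W₂ - 1) ^ 2 := by
  obtain ⟨-, -, hN⟩ := Cfsg.Agent.Lib.Helper33.PF13.typeII_data hsolv h.hP hII
  obtain ⟨g, hgN, hgS⟩ := SetLike.not_le_iff_exists.mp hN
  have hoddU : Odd (Nat.card U) :=
    Odd.of_dvd_nat h.hodd (Subgroup.card_subgroup_dvd_card U)
  have hp2 : Nat.card W₂ ≠ 2 := by
    intro h2
    have : Odd (Nat.card W₂) := Odd.of_dvd_nat h.hodd (Subgroup.card_subgroup_dvd_card W₂)
    rw [h2] at this
    exact absurd this (by decide)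
  have hUK : U ≤ ⁅S, S⁆ := h.hP.U_compl.2.1
  have hfpf : ∀ z ∈ U, z ≠ 1 → (∀ x ∈ P₁, z * x = x * z) →
      ∀ x ∈ P₁, (g * z * g⁻¹) * x = x * (g * z * g⁻¹) → x = 1 := by
    intro z hz hz1 hzc x hx hgx
    by_contra hx1
    have hzA : z ∈ litA S := h.hA_mem z (hUK hz) hz1 ⟨x, hP₁ hx, hx1, hzc x hx⟩
    have hgz : g * z * g⁻¹ ∈ U := (Subgroup.mem_normalizer_iff.mp hgN z).mp hz
    have hgz1 : g * z * g⁻¹ ≠ 1 := by
      intro h1
      apply hz1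
      have : z = g⁻¹ * (g * z * g⁻¹) * g := by group
      rw [this, h1]; group
    have hgzA : g * z * g⁻¹ ∈ litA S :=
      h.hA_mem _ (hUK hgz) hgz1 ⟨x, hP₁ hx, hx1, hgx⟩
    exact hgS (h.hTI g z (Set.mem_union_left _ hzA) hz1 (Set.mem_union_left _ hgzA))
  have hb := Cfsg.Agent.Lib.Helper25.PF13AX.axis_bound_odd U P₁ hU h.hp hp2 hcard hoddU g hgN hfpf
  have h2 : (Nat.card W₂ - 1) / 2 * 2 ≤ Nat.card W₂ - 1 := Nat.div_mul_le_self _ _
  calc 4 * Nat.card U ≤ 4 * ((Nat.card W₂ - 1) / 2 * ((Nat.card W₂ - 1) / 2)) :=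
        Nat.mul_le_mul_left _ hb
    _ = ((Nat.card W₂ - 1) / 2 * 2) ^ 2 := by ring
    _ ≤ (Nat.card W₂ - 1) ^ 2 := Nat.pow_le_pow_left h2 2

end Cfsg.Agent.Lib.Helper42.PF13
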