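import Mathlib
import Cfsg.Prelude.Def_GeometricClasses

set_option autoImplicit false
set_option linter.unusedSectionVars false

namespace Cfsg.Agent.Lib.Helper42.OeFrame

open Cfsg Cfsg.Geo
open scoped Matrix

variable {ι : Type} [Fintype ι] [DecidableEq ι] {F : Type*} [Field F]

/-- the polar form as a bundled bilinear form -/
noncomputable def polB {Q : (ι → F) → F} (hQ : IsNondegenerateQuadraticForm Q) :
    LinearMap.BilinForm F (ι → F) :=
  LinearMap.mk₂ F (QuadraticMap.polar Q) hQ.polar_bilinear.add_left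
    (fun c x v => by rw [hQ.polar_bilinear.smul_left, smul_eq_mul])
    hQ.polar_bilinear.add_right
    (fun c x v => by rw [hQ.polar_bilinear.smul_right, smul_eq_mul])

lemma polB_apply {Q : (ι → F) → F} (hQ : IsNondegenerateQuadraticForm Q) (u v : ι → F) :
    polB hQ u v = QuadraticMap.polar Q u v := rfl

lemma Q_add {Q : (ι → F) → F} (hQ : IsNondegenerateQuadraticForm Q) (u v : ι → F) :
    Q (u + v) = Q u + Q v + polB hQ u v := by
  rw [polB_apply, QuadraticMap.polar]; ring

lemma Q_zero {Q : (ι → F) → F} (hQ : IsNondegenerateQuadraticForm Q) : Q 0 = 0 := by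
  have := hQ.smul 0 0
  rw [zero_smul] at this
  rw [this]; ring

lemma polB_self {Q : (ι → F) → F} (hQ : IsNondegenerateQuadraticForm Q) (u : ι → F) :
    polB hQ u u = 2 * Q u := by
  have h1 := Q_add hQ u u
  have h2 := hQ.smul 2 u
  rw [two_smul] at h2
  rw [h2] at h1
  linear_combination -h1

/-- `Q` of a linear combination of pairwise orthogonal vectors -/
lemma Q_sum_orth {Q : (ι → F) → F} (hQ : IsNondegenerateQuadraticForm Q) {κ : Type*}
    (s : Finset κ) (w : κ → ι → F) (c : κ → F)
    (horth : ∀ i j, i ≠ j → QuadraticMap.polar Q (w i) (w j) = 0) :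
    Q (∑ i ∈ s, c i • w i) = ∑ i ∈ s, c i ^ 2 * Q (w i) := by
  classical
  induction s using Finset.induction_on with
  | empty => simp [Q_zero hQ]
  | insert j s hj ih =>
    rw [Finset.sum_insert hj, Finset.sum_insert hj, Q_add hQ, ih, hQ.smul]
    have : polB hQ (c j • w j) (∑ i ∈ s, c i • w i) = 0 := by
      rw [map_sum]
      apply Finset.sum_eq_zero
      intro i hi
      have hji : j ≠ i := fun h => hj (h ▸ hi)
      rw [map_smul, map_smul, LinearMap.smul_apply, polB_apply, horth j i hji]
      simp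
    rw [this, add_zero]

/-- graph construction: with an orthogonal basis of constant `Q`-value indexed by `κ ⊕ κ` and a linear
map `A` with `∑ (A c)_i² = - ∑ c_i²`, the whole space is of plus type -/
lemma plus_of_graph {Q : (ι → F) → F} (hQ : IsNondegenerateQuadraticForm Q)
    {κ : Type} [Fintype κ] [DecidableEq κ] (b : Module.Basis (κ ⊕ κ) F (ι → F)) (a : F)
    (hQb : ∀ i, Q (b i) = a)
    (horth : ∀ i j, i ≠ j → QuadraticMap.polar Q (b i) (b j) = 0)
    (A : (κ → F) →ₗ[F] (κ → F)) (hA : ∀ c, ∑ i, (A c i) ^ 2 = - ∑ i, (c i) ^ 2) :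
    IsPlusTypeOn Q ⊤ := by
  classical
  -- the graph map
  let g : (κ → F) →ₗ[F] (ι → F) :=
    Fintype.linearCombination F (fun i => b (Sum.inl i)) +
      (Fintype.linearCombination F (fun i => b (Sum.inr i))).comp A
  have hg : ∀ c, g c = ∑ i : κ ⊕ κ, (Sum.elim c (A c) i) • b i := by
    intro c
    rw [Fintype.sum_sum_type]
    simp [g, Fintype.linearCombination_apply]
  have hinj : Function.Injective g := by
    rw [← LinearMap.ker_eq_bot, LinearMap.ker_eq_bot']
    intro c hc
    rw [hg] at hc
    have := (Fintype.linearIndependent_iff.1 b.linearIndependent) _ hc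
    funext i
    simpa using this (Sum.inl i)
  refine ⟨LinearMap.range g, le_top, ?_, ?_⟩
  · rintro _ ⟨c, rfl⟩
    rw [hg, Q_sum_orth hQ _ _ _ horth]
    simp only [hQb]
    rw [← Finset.sum_mul, Fintype.sum_sum_type]
    simp only [Sum.elim_inl, Sum.elim_inr]
    rw [hA c]; ring
  · rw [LinearMap.finrank_range_of_inj hinj, finrank_top, Module.finrank_fintype_fun_eq_card,
      Module.finrank_eq_card_basis b]
    simp; ring

end Cfsg.Agent.Lib.Helper42.OeFrame
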