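import Mathlib
import Cfsg.Prelude.Def_GeometricClasses
import Cfsg.Agent.Lib.Helper42.OeFrame1

set_option autoImplicit false
set_option linter.unusedSectionVars false

namespace Cfsg.Agent.Lib.Helper42.OeOdd

open Cfsg Cfsg.Geo Cfsg.Agent.Lib.Helper42.OeFrame
open scoped Matrix

variable {ι : Type} [Fintype ι] [DecidableEq ι] {F : Type*} [Field F]

/-- elements of a finite supremum are sums of components -/
lemma exists_sum_of_mem_iSup {s : ℕ} (E : Fin s → Submodule F (ι → F)) {w : ι → F}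
    (hw : w ∈ iSup E) : ∃ f : Fin s → ι → F, (∀ j, f j ∈ E j) ∧ w = ∑ j, f j := by
  classical
  induction hw using Submodule.iSup_induction' with
  | mem j x hx =>
    refine ⟨fun l => if l = j then x else 0, fun l => ?_, ?_⟩
    · by_cases h : l = j
      · subst h; simpa using hx
      · simp [h]
    · simp
  | zero => exact ⟨fun _ => 0, fun j => (E j).zero_mem, by simp⟩
  | add x y _ _ hx hy =>
    obtain ⟨f, hf, rfl⟩ := hx
    obtain ⟨g, hg, rfl⟩ := hy
    exact ⟨fun j => f j + g j, fun j => (E j).add_mem (hf j) (hg j), by rw [Finset.sum_add_distrib]⟩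

/-- the supremum of pairwise orthogonal non-degenerate subspaces is non-degenerate -/
lemma nondegenerateOn_iSup {Q : (ι → F) → F} (hQ : IsNondegenerateQuadraticForm Q) {s : ℕ}
    (E : Fin s → Submodule F (ι → F))
    (hnd : ∀ j, IsNondegenerateOn (QuadraticMap.polar Q) (E j))
    (horth : ∀ j l, j ≠ l → AreOrthogonalFor (QuadraticMap.polar Q) (E j) (E l)) :
    IsNondegenerateOn (QuadraticMap.polar Q) (iSup E) := by
  classical
  intro w hw hw0
  obtain ⟨f, hf, rfl⟩ := exists_sum_of_mem_iSup E hw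
  have hex : ∃ j, f j ≠ 0 := by
    by_contra h
    push Not at h
    apply hw0
    exact Finset.sum_eq_zero (fun j _ => h j)
  obtain ⟨j, hj⟩ := hex
  obtain ⟨⟨x, hx, hx1⟩, ⟨y, hy, hy1⟩⟩ := hnd j (f j) (hf j) hj
  refine ⟨⟨x, le_iSup E j hx, ?_⟩, ⟨y, le_iSup E j hy, ?_⟩⟩
  · rw [← polB_apply hQ, map_sum, Finset.sum_eq_single j]
    · exact hx1
    · intro l _ hlj
      exact horth j l (Ne.symm hlj) x hx (f l) (hf l)
    · intro h; exact absurd (Finset.mem_univ j) h
  · rw [← polB_apply hQ, map_sum, LinearMap.sum_apply, Finset.sum_eq_single j]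
    · exact hy1
    · intro l _ hlj
      exact horth l j hlj (f l) (hf l) y hy
    · intro h; exact absurd (Finset.mem_univ j) h

/-- a supremum of subspaces orthogonal to `W` is orthogonal to `W` -/
lemma areOrthogonalFor_iSup_left {Q : (ι → F) → F} (hQ : IsNondegenerateQuadraticForm Q) {s : ℕ}
    (E : Fin s → Submodule F (ι → F)) (W : Submodule F (ι → F))
    (horth : ∀ j, AreOrthogonalFor (QuadraticMap.polar Q) (E j) W) :
    AreOrthogonalFor (QuadraticMap.polar Q) (iSup E) W := by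
  intro u hu v hv
  obtain ⟨f, hf, rfl⟩ := exists_sum_of_mem_iSup E hu
  rw [← polB_apply hQ, map_sum, LinearMap.sum_apply]
  exact Finset.sum_eq_zero (fun j _ => horth j (f j) (hf j) v hv)

/-- ASCHOE-[T-ODD] in `_of` form: [T-EVEN] and [T-CANCEL] as hypotheses. -/
theorem isPlusTypeOn_block_of_odd_of {Q : (ι → F) → F} (hQ : IsNondegenerateQuadraticForm Q)
    (hEven : ∀ {t : ℕ} (m : ℕ) (D : Fin t → Submodule F (ι → F)),
      (∀ i, Module.finrank F (D i) = m) →
      (∀ i, IsNondegenerateOn (QuadraticMap.polar Q) (D i)) →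
      (∀ i j, i ≠ j → AreOrthogonalFor (QuadraticMap.polar Q) (D i) (D j)) →
      (∀ i j, AreIsometricFor Q (D i) (D j)) → Even t → Even m → IsPlusTypeOn Q (iSup D))
    (hCancel : ∀ (W₁ W₂ : Submodule F (ι → F)), IsNondegenerateOn (QuadraticMap.polar Q) W₁ →
      IsNondegenerateOn (QuadraticMap.polar Q) W₂ →
      AreOrthogonalFor (QuadraticMap.polar Q) W₁ W₂ → W₁ ⊔ W₂ = ⊤ →
      IsPlusTypeOn Q W₁ → IsPlusTypeOn Q ⊤ → IsPlusTypeOn Q W₂)
    {t : ℕ} (m : ℕ) (D : Fin t → Submodule F (ι → F)) (hD : IsOrthogonalMDecomposition Q m D)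
    (ht : Odd t) (hm : Even m) (hp : IsPlusTypeOn Q ⊤) (i : Fin t) : IsPlusTypeOn Q (D i) := by
  obtain ⟨s, rfl⟩ : ∃ s, t = s + 1 := by
    rcases ht with ⟨r, hr⟩; exact ⟨2 * r, hr⟩
  have hs : Even s := by
    rcases ht with ⟨r, hr⟩; exact ⟨r, by omega⟩
  set D' : Fin s → Submodule F (ι → F) := fun j => D (i.succAbove j) with hD'
  have hne : ∀ j l, j ≠ l → i.succAbove j ≠ i.succAbove l :=
    fun j l hjl h => hjl (Fin.succAbove_right_injective h)
  have hE : IsPlusTypeOn Q (iSup D') :=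
    hEven m D' (fun j => hD.decomp.decomp.finrank_eq _) (fun j => hD.decomp.nondegenerate _)
      (fun j l hjl => hD.decomp.orthogonal _ _ (hne j l hjl)) (fun j l => hD.isometric _ _) hs hm
  have h1 : IsNondegenerateOn (QuadraticMap.polar Q) (iSup D') :=
    nondegenerateOn_iSup hQ D' (fun j => hD.decomp.nondegenerate _)
      (fun j l hjl => hD.decomp.orthogonal _ _ (hne j l hjl))
  have h3 : AreOrthogonalFor (QuadraticMap.polar Q) (iSup D') (D i) :=
    areOrthogonalFor_iSup_left hQ D' (D i)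
      (fun j => hD.decomp.orthogonal _ _ (Fin.succAbove_ne i j))
  have h4 : iSup D' ⊔ D i = ⊤ := by
    rw [eq_top_iff, ← hD.decomp.decomp.iSup_eq_top]
    apply iSup_le
    intro l
    rcases Fin.eq_self_or_eq_succAbove i l with h | ⟨j, h⟩
    · rw [h]; exact le_sup_right
    · rw [h]; exact le_trans (le_iSup D' j) le_sup_left
  exact hCancel (iSup D') (D i) h1 (hD.decomp.nondegenerate i) h3 h4 hE hp

end Cfsg.Agent.Lib.Helper42.OeOdd
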