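import Mathlib
import Cfsg.Prelude.Def_GeometricClasses
import Cfsg.Agent.Lib.Helper99.AschDefs
import Cfsg.Agent.Lib.Helper55.Oe.Defs
import Cfsg.Agent.Lib.Helper52.OeTEven
import Cfsg.Agent.Lib.Helper14.OeTCancel
import Cfsg.Agent.Lib.Helper42.OeTOddOf

set_option autoImplicit false

namespace Cfsg.Agent.Lib.Helper55.Oe

open Cfsg Cfsg.Geo Cfsg.Agent.Lib.Helper99.Asch
open scoped MatrixGroups Matrix Kronecker

variable {n : ℕ} {F : Type*} [Field F] [Fintype F]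

/-- ASCHOE-[T-ODD] (exact sheet statement), from [T-EVEN] (helper52) and [T-CANCEL] (helper14). -/
theorem isPlusTypeOn_block_of_odd {Q : (Fin n → F) → F} (hQ : IsNondegenerateQuadraticForm Q)
    {t : ℕ} (m : ℕ) (D : Fin t → Submodule F (Fin n → F)) (hD : IsOrthogonalMDecomposition Q m D)
    (ht : Odd t) (hm : Even m) (hp : IsPlusTypeOn Q ⊤) (i : Fin t) : IsPlusTypeOn Q (D i) :=
  Cfsg.Agent.Lib.Helper42.OeOdd.isPlusTypeOn_block_of_odd_of hQ
    (fun m D hfr hnd horth hiso ht hm => isPlusTypeOn_iSup_of_even hQ m D hfr hnd horth hiso ht hm)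
    (fun W₁ W₂ h1 h2 horth hsup hp1 hp => isPlusTypeOn_of_orthogonal_plus hQ W₁ W₂ h1 h2 horth hsup hp1 hp)
    m D hD ht hm hp i

end Cfsg.Agent.Lib.Helper55.Oe
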