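/-
helper42: modules REEM-[P12] [P23] [P22] [P33] of helper20's project REEM (S2113, board #5648,
sheet Lib/Helper20/ReeM/REEM_MODULES.md): four of the six pairing lemmas (finite-field arithmetic
in characteristic 3).
-/
import Mathlib
import Cfsg.Agent.Lib.Helper20.ReeM.Defs

set_option autoImplicit false
set_option linter.unusedVariables false

namespace Cfsg.Agent.Lib.Helper42.ReeM

open Cfsg.Agent.Lib.Helper20.ReeM

section Basic

variable {F : Type*} [Field F] {A : Type*} [CommGroup A] {f : F → F → A}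

theorem biAdd_zero_left (h : BiAdd f) (u : F) : f 0 u = 1 := by
  have := h.1 0 0 u
  rw [add_zero] at this
  exact left_eq_mul.mp this

theorem biAdd_zero_right (h : BiAdd f) (t : F) : f t 0 = 1 := by
  have := h.2 t 0 0
  rw [add_zero] at this
  exact left_eq_mul.mp this

theorem biAdd_neg_left (h : BiAdd f) (t u : F) : f (-t) u = (f t u)⁻¹ := by
  have := h.1 t (-t) u
  rw [add_neg_cancel, biAdd_zero_left h] at this
  exact eq_inv_of_mul_eq_one_right this.symm

theorem biAdd_neg_right (h : BiAdd f) (t u : F) : f t (-u) = (f t u)⁻¹ := by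
  have := h.2 t u (-u)
  rw [add_neg_cancel, biAdd_zero_right h] at this
  exact eq_inv_of_mul_eq_one_right this.symm

theorem biAdd_pow_three [CharP F 3] (h : BiAdd f) (t u : F) : (f t u) ^ 3 = 1 := by
  have h3 : t + t + t = 0 := by
    have : (3 : F) = 0 := by exact_mod_cast CharP.cast_eq_zero F 3
    linear_combination t * this
  have := h.1 (t + t) t u
  rw [h.1 t t u, h3, biAdd_zero_left h] at this
  rw [pow_succ, pow_two]
  exact this.symm

theorem eq_one_of_inv_eq [CharP F 3] (h : BiAdd f) {t u : F} (h2 : (f t u)⁻¹ = f t u) :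
    f t u = 1 := by
  have h3 := biAdd_pow_three h t u
  have h4 : f t u * f t u = 1 := by
    nth_rewrite 1 [← h2]
    exact inv_mul_cancel _
  calc f t u = (f t u) ^ 3 * (f t u * f t u)⁻¹ := by group
    _ = 1 := by rw [h3, h4]; simp

omit [CommGroup A] in
/-- invariance under the generator gives invariance under every non-zero `w` -/
theorem inv_all (a : F) (hgen : ∀ u : F, u ≠ 0 → ∃ j : ℕ, a ^ j = u) (i j : ℕ)
    (hinv : ∀ t u, f (a ^ i * t) (a ^ j * u) = f t u) :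
    ∀ w : F, w ≠ 0 → ∀ t u, f (w ^ i * t) (w ^ j * u) = f t u := by
  have hk : ∀ k : ℕ, ∀ t u, f ((a ^ i) ^ k * t) ((a ^ j) ^ k * u) = f t u := by
    intro k
    induction k with
    | zero => intro t u; simp
    | succ k ih =>
      intro t u
      rw [pow_succ', pow_succ', mul_assoc, mul_assoc, hinv, ih]
  intro w hw t u
  obtain ⟨k, rfl⟩ := hgen w hw
  rw [← pow_mul, ← pow_mul, mul_comm k i, mul_comm k j, pow_mul, pow_mul]
  exact hk k t u

end Basic

section Pair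

variable {F : Type*} [Field F] [Fintype F] [CharP F 3] {m : ℕ} {A : Type*} [CommGroup A]

theorem odd_n (m : ℕ) : Odd (3 * 3 ^ m) := Odd.mul (by decide) (Odd.pow (by decide))

/-- [P12] -/
theorem pair12 (hm : 1 ≤ m) (hF : Fintype.card F = 3 ^ (2 * m + 1)) (a : F)
    (hgen : ∀ u : F, u ≠ 0 → ∃ j : ℕ, a ^ j = u) : PairStmt F A a 1 (1 + 3 * 3 ^ m) := by
  intro f hbi hinv t u
  have hall := inv_all a hgen 1 (1 + 3 * 3 ^ m) hinv (-1) (neg_ne_zero.mpr one_ne_zero) t u
  have he : Even (1 + 3 * 3 ^ m) := Odd.add_odd (by decide) (odd_n m)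
  rw [pow_one, Even.neg_one_pow he, one_mul, neg_one_mul, biAdd_neg_left hbi] at hall
  exact eq_one_of_inv_eq hbi hall

/-- [P23] -/
theorem pair23 (hm : 1 ≤ m) (hF : Fintype.card F = 3 ^ (2 * m + 1)) (a : F)
    (hgen : ∀ u : F, u ≠ 0 → ∃ j : ℕ, a ^ j = u) :
    PairStmt F A a (1 + 3 * 3 ^ m) (2 + 3 * 3 ^ m) := by
  intro f hbi hinv t u
  have hall := inv_all a hgen (1 + 3 * 3 ^ m) (2 + 3 * 3 ^ m) hinv (-1)
    (neg_ne_zero.mpr one_ne_zero) t u
  have he : Even (1 + 3 * 3 ^ m) := Odd.add_odd (by decide) (odd_n m)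
  have ho : Odd (2 + 3 * 3 ^ m) := Even.add_odd (by decide) (odd_n m)
  rw [Even.neg_one_pow he, Odd.neg_one_pow ho, one_mul, neg_one_mul, biAdd_neg_right hbi] at hall
  exact eq_one_of_inv_eq hbi hall

omit [Fintype F] in
theorem gen_ne_zero (a : F) (hgen : ∀ u : F, u ≠ 0 → ∃ j : ℕ, a ^ j = u) : a ≠ 0 := by
  rintro rfl
  obtain ⟨j, hj⟩ := hgen (-1) (neg_ne_zero.mpr one_ne_zero)
  rcases Nat.eq_zero_or_pos j with rfl | hj0
  · rw [pow_zero] at hj
    have h2 : (2 : F) = 0 := by linear_combination hj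
    have h3 : (3 : F) = 0 := by exact_mod_cast CharP.cast_eq_zero F 3
    have : (1 : F) = 0 := by linear_combination h3 - h2
    exact one_ne_zero this
  · rw [zero_pow hj0.ne'] at hj
    exact (neg_ne_zero.mpr one_ne_zero) hj.symm

omit [CharP F 3] in
theorem pow_nn (hF : Fintype.card F = 3 ^ (2 * m + 1)) (r : F) :
    r ^ ((3 * 3 ^ m) * (3 * 3 ^ m)) = r ^ 3 := by
  have : (3 * 3 ^ m) * (3 * 3 ^ m) = Fintype.card F * 3 := by rw [hF]; ring
  rw [this, pow_mul, FiniteField.pow_card]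

/-- [P33] -/
theorem pair33 (hm : 1 ≤ m) (hF : Fintype.card F = 3 ^ (2 * m + 1)) (a : F)
    (hgen : ∀ u : F, u ≠ 0 → ∃ j : ℕ, a ^ j = u) (h11 : PairStmt F A a 1 1) :
    PairStmt F A a (2 + 3 * 3 ^ m) (2 + 3 * 3 ^ m) := by
  intro f hbi hinv
  apply h11 f hbi
  intro t u
  rw [pow_one]
  have hall := inv_all a hgen (2 + 3 * 3 ^ m) (2 + 3 * 3 ^ m) hinv
  have ha : a ≠ 0 := gen_ne_zero a hgen
  have h1 := pow_nn hF a
  generalize hn : 3 * 3 ^ m = n at *
  have hn2 : 2 ≤ n := by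
    have : 1 ≤ 3 ^ m := Nat.one_le_pow _ _ (by norm_num)
    omega
  have hw : ((a ^ (n - 2))⁻¹) ^ (2 + n) = a := by
    have h2 : (n - 2) * (2 + n) + 4 = n * n := by
      obtain ⟨k, rfl⟩ := Nat.exists_eq_add_of_le hn2
      simp only [Nat.add_sub_cancel_left]
      ring
    have h3 : a ^ ((n - 2) * (2 + n)) * a ^ 4 = a ^ 3 := by rw [← pow_add, h2, h1]
    rw [inv_pow, ← pow_mul]
    have h4 : a ^ ((n - 2) * (2 + n)) * a = 1 := by
      have : a ^ ((n - 2) * (2 + n)) * a * a ^ 3 = 1 * a ^ 3 :=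
        calc a ^ ((n - 2) * (2 + n)) * a * a ^ 3 = a ^ ((n - 2) * (2 + n)) * a ^ 4 := by ring
          _ = a ^ 3 := h3
          _ = 1 * a ^ 3 := (one_mul _).symm
      exact mul_right_cancel₀ (pow_ne_zero 3 ha) this
    exact inv_eq_of_mul_eq_one_right h4
  have := hall ((a ^ (n - 2))⁻¹) (inv_ne_zero (pow_ne_zero _ ha)) t u
  rwa [hw] at this

theorem card_mod_four (hF : Fintype.card F = 3 ^ (2 * m + 1)) : Fintype.card F % 4 = 3 := by
  have h9 : 9 ^ m % 4 = 1 := by rw [Nat.pow_mod]; simp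
  have : 3 ^ (2 * m + 1) = 9 ^ m * 3 := by rw [pow_succ, pow_mul]; norm_num
  rw [hF, this, Nat.mul_mod, h9]

/-- every non-zero element is a square or minus a square -/
theorem sq_or_neg_sq (hF : Fintype.card F = 3 ^ (2 * m + 1)) {w : F} (hw : w ≠ 0) :
    ∃ r : F, r ≠ 0 ∧ (w = r ^ 2 ∨ w = -r ^ 2) := by
  have hch : ringChar F ≠ 2 := by rw [ringChar.eq F 3]; norm_num
  have hneg1 : (-1 : F) ^ (Fintype.card F / 2) = -1 := by
    rcases FiniteField.pow_dichotomy hch (neg_ne_zero.mpr (one_ne_zero (α := F))) with h | h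
    · exfalso
      have := (FiniteField.isSquare_iff hch (neg_ne_zero.mpr (one_ne_zero (α := F)))).mpr h
      exact (FiniteField.isSquare_neg_one_iff.mp this) (card_mod_four hF)
    · exact h
  have key : ∀ v : F, v ≠ 0 → v ^ (Fintype.card F / 2) = 1 → ∃ r : F, r ≠ 0 ∧ v = r ^ 2 := by
    intro v hv h
    obtain ⟨r, hr⟩ := (FiniteField.isSquare_iff hch hv).mpr h
    refine ⟨r, ?_, by rw [hr, sq]⟩
    rintro rfl
    rw [mul_zero] at hr
    exact hv hr
  rcases FiniteField.pow_dichotomy hch hw with h | h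
  · obtain ⟨r, hr, e⟩ := key w hw h
    exact ⟨r, hr, Or.inl e⟩
  · have h' : (-w) ^ (Fintype.card F / 2) = 1 := by
      rw [neg_pow, hneg1, h]; ring
    obtain ⟨r, hr, e⟩ := key (-w) (neg_ne_zero.mpr hw) h'
    exact ⟨r, hr, Or.inr (by rw [← e, neg_neg])⟩

/-- [P22] -/
theorem pair22 (hm : 1 ≤ m) (hF : Fintype.card F = 3 ^ (2 * m + 1)) (a : F)
    (hgen : ∀ u : F, u ≠ 0 → ∃ j : ℕ, a ^ j = u) (h11 : PairStmt F A a 1 1) :
    PairStmt F A a (1 + 3 * 3 ^ m) (1 + 3 * 3 ^ m) := by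
  intro f hbi hinv
  apply h11 f hbi
  intro t u
  rw [pow_one]
  have hall := inv_all a hgen (1 + 3 * 3 ^ m) (1 + 3 * 3 ^ m) hinv
  have ha : a ≠ 0 := gen_ne_zero a hgen
  have hsq : ∀ r : F, r ≠ 0 → ∀ t u, f (r ^ 2 * t) (r ^ 2 * u) = f t u := by
    intro r hr t u
    have h1 := pow_nn hF r
    have hall' := hall (r ^ (3 * 3 ^ m - 1)) (pow_ne_zero _ hr) t u
    generalize hn : 3 * 3 ^ m = n at *
    have hn1 : 1 ≤ n := by
      have : 1 ≤ 3 ^ m := Nat.one_le_pow _ _ (by norm_num)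
      omega
    have hw : (r ^ (n - 1)) ^ (1 + n) = r ^ 2 := by
      have h2 : (n - 1) * (1 + n) + 1 = n * n := by
        obtain ⟨k, rfl⟩ := Nat.exists_eq_add_of_le hn1
        simp only [Nat.add_sub_cancel_left]
        ring
      have h3 : (r ^ (n - 1)) ^ (1 + n) * r = r ^ 2 * r := by
        rw [← pow_mul, ← pow_succ, h2, h1]; ring
      exact mul_right_cancel₀ hr h3
    rwa [hw] at hall'
  obtain ⟨r, hr, e | e⟩ := sq_or_neg_sq hF ha
  · rw [e]; exact hsq r hr t u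
  · rw [e, neg_mul, neg_mul, biAdd_neg_left hbi, biAdd_neg_right hbi, inv_inv]
    exact hsq r hr t u

end Pair

end Cfsg.Agent.Lib.Helper42.ReeM
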