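import Mathlib
import Cfsg.Prelude.Def_GeometricClasses
import Cfsg.Agent.Lib.Helper99.AschDefs
import Cfsg.Agent.Lib.Helper23.AschSpDefs
import Cfsg.Agent.Lib.Helper37.Asch.FormKit
import Cfsg.Agent.Lib.Helper37.Asch.FormKit2

/-!
# ASCHSP (S5662, owner helper23), module [C8Q] (helper42): a fixed quadratic form gives class 8

`sgeo_of_fixes_quadratic`: `P ≤ H ≤ isoGL f` absolutely irreducible, normalised by `H`, fixing a non-degenerate
quadratic form `Q`.  Then `polar Q = c f` (uniqueness of invariant forms, helper37's `gram_proportional`), `|F|` is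
even, `Q₁ = c⁻¹ Q` polarises to `f` and every `h ∈ H` fixes `Q₁` (the defect `v ↦ Q₁ (h v) − Q₁ v` is additive,
`P`-invariant, with `D (a v) = a² D v`, so its kernel is a `P`-invariant subspace: everything, as `n ≥ 2`).
-/

set_option autoImplicit false

namespace Cfsg.Agent.Lib.Helper23.AschSp

open Cfsg Cfsg.Geo Cfsg.Agent.Lib.Helper99.Asch
open scoped MatrixGroups Matrix Kronecker

variable {n m : ℕ} {F : Type*} [Field F] [Fintype F] {f : (Fin n → F) → (Fin n → F) → F}

open Cfsg.Agent.Lib.Helper37.Asch in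
/-- ASCHSP-[C8Q] -/
theorem sgeo_of_fixes_quadratic (hf : IsSymplecticForm f) (hn : 2 ≤ n) (H P : Subgroup (GL (Fin n) F)) (hH : H ≤ isoGL f)
    (hP : ActsAbsolutelyIrreducibly (matrixSet P)) (hPH : P ≤ H) (hnrm : Nrm H P)
    (Q : (Fin n → F) → F) (hQ : IsNondegenerateQuadraticForm Q)
    (hfix : FixesQuadForm (matrixSet P) Q) : SGeo m f H := by
  classical
  -- a non-zero vector
  have hv0 : ∃ v : Fin n → F, v ≠ 0 := by
    refine ⟨Pi.single ⟨0, by omega⟩ 1, ?_⟩
    intro h
    have := congrFun h ⟨0, by omega⟩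
    simp at this
  have hmap : ∀ A : Matrix (Fin n) (Fin n) F, A.map (RingEquiv.refl F) = A := fun A => by
    ext i j; simp
  have hsf := isSesq_of_bilinear hf.bilinear
  have hsb := isSesq_of_bilinear hQ.polar_bilinear
  have hfixf : FixesForm (matrixSet P) f := by
    rintro s ⟨x, hx, rfl⟩ u v
    exact mem_isoGL.mp (hH (hPH hx)) u v
  have hfixb : FixesForm (matrixSet P) (QuadraticMap.polar Q) := fixesForm_polar hfix
  obtain ⟨c, hc⟩ := gram_proportional (RingEquiv.refl F) P hP.2 (gram f)
    (gram (QuadraticMap.polar Q)) (hsf.isUnit_gram hf.nondegenerate)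
    (fun x hx => hsf.gram_of_fixes (hfixf _ ⟨x, hx, rfl⟩))
    (fun x hx => hsb.gram_of_fixes (hfixb _ ⟨x, hx, rfl⟩))
  have hbf : ∀ u v, QuadraticMap.polar Q u v = c * f u v := by
    intro u v
    rw [hsb.eq_gram, hsf.eq_gram, hc, Matrix.smul_mulVec, dotProduct_smul, smul_eq_mul]
  have hc0 : c ≠ 0 := by
    rintro rfl
    obtain ⟨v, hv⟩ := hv0
    obtain ⟨⟨x, hx⟩, _⟩ := hQ.nondegenerate v hv
    apply hx
    rw [hbf, zero_mul]
  -- `|F|` is even
  have heven : ¬ Odd (Fintype.card F) := by
    intro hodd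
    have h2 : (2 : F) ≠ 0 := by
      intro h20
      have h3 : ringChar F = 2 :=
        CharP.ringChar_of_prime_eq_zero Nat.prime_two (by exact_mod_cast h20)
      have h4 := FiniteField.even_card_iff_char_two.mp h3
      rcases hodd with ⟨k, hk⟩
      omega
    obtain ⟨v, hv⟩ := hv0
    obtain ⟨⟨x, hx⟩, _⟩ := hQ.nondegenerate v hv
    apply hx
    have e1 := hbf x v
    have e2 := hbf v x
    rw [hf.skew v x] at e2
    have e3 : QuadraticMap.polar Q x v = QuadraticMap.polar Q v x := QuadraticMap.polar_comm Q x v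
    have h4 : (2 : F) * QuadraticMap.polar Q x v = 0 := by
      linear_combination e1 + (e3.trans e2)
    exact (mul_eq_zero.mp h4).resolve_left h2
  -- the normalised quadratic form
  set Q₁ : (Fin n → F) → F := fun v => c⁻¹ * Q v with hQ₁def
  have hpolar₁ : ∀ u v, QuadraticMap.polar Q₁ u v = f u v := by
    intro u v
    have h1 : QuadraticMap.polar Q₁ u v = c⁻¹ * QuadraticMap.polar Q u v := by
      unfold QuadraticMap.polar
      simp only [hQ₁def]
      ring
    rw [h1, hbf, ← mul_assoc, inv_mul_cancel₀ hc0, one_mul]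
  have hpolar_eq : QuadraticMap.polar Q₁ = f := by
    funext u v
    exact hpolar₁ u v
  have hQ₁ : IsNondegenerateQuadraticForm Q₁ := by
    refine ⟨?_, ?_, ?_⟩
    · intro a v
      simp only [hQ₁def]
      rw [hQ.smul]
      ring
    · rw [hpolar_eq]; exact hf.bilinear
    · rw [hpolar_eq]; exact hf.nondegenerate
  have hfix₁ : ∀ x ∈ P, ∀ v, Q₁ ((x : Matrix (Fin n) (Fin n) F) *ᵥ v) = Q₁ v := by
    intro x hx v
    simp only [hQ₁def]
    rw [hfix _ ⟨x, hx, rfl⟩ v]
  refine SGeo.of_c8 ⟨Q₁, heven, hQ₁, hpolar₁, rfl⟩ (le_inf ?_ hH)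
  intro h hh
  refine ⟨1, fun v => ?_⟩
  rw [Units.val_one, one_mul]
  -- the defect
  set D : (Fin n → F) → F := fun v => Q₁ ((h : Matrix (Fin n) (Fin n) F) *ᵥ v) - Q₁ v with hDdef
  have hDadd : ∀ u v, D (u + v) = D u + D v := by
    intro u v
    have h1 := hpolar₁ ((h : Matrix (Fin n) (Fin n) F) *ᵥ u) ((h : Matrix (Fin n) (Fin n) F) *ᵥ v)
    have h2 := hpolar₁ u v
    rw [mem_isoGL.mp (hH hh) u v] at h1
    unfold QuadraticMap.polar at h1 h2
    simp only [hDdef]
    rw [Matrix.mulVec_add]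
    linear_combination h1 - h2
  have hDsmul : ∀ (a : F) v, D (a • v) = a ^ 2 * D v := by
    intro a v
    simp only [hDdef]
    rw [Matrix.mulVec_smul, hQ₁.smul, hQ₁.smul]
    ring
  have hD0 : D 0 = 0 := by
    have := hDadd 0 0
    rw [add_zero] at this
    linear_combination -this
  have hDP : ∀ x ∈ P, ∀ v, D ((x : Matrix (Fin n) (Fin n) F) *ᵥ v) = D v := by
    intro x hx v
    simp only [hDdef]
    have h1 : (h : Matrix (Fin n) (Fin n) F) *ᵥ ((x : Matrix (Fin n) (Fin n) F) *ᵥ v) =
        ((h * x * h⁻¹ : GL (Fin n) F) : Matrix (Fin n) (Fin n) F) *ᵥ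
          ((h : Matrix (Fin n) (Fin n) F) *ᵥ v) := by
      rw [Matrix.mulVec_mulVec, Matrix.mulVec_mulVec, ← Units.val_mul, ← Units.val_mul]
      congr 2
      group
    rw [h1, hfix₁ _ (hnrm h hh x hx), hfix₁ x hx]
  let W : Submodule F (Fin n → F) :=
    { carrier := {v | D v = 0}
      add_mem' := by
        intro u v hu hv
        show D (u + v) = 0
        rw [hDadd, hu, hv, add_zero]
      zero_mem' := hD0
      smul_mem' := by
        intro a v hv
        show D (a • v) = 0
        rw [hDsmul, hv, mul_zero] }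
  have hWinv : ∀ s ∈ matrixSet P, W.map (Matrix.toLin' s) ≤ W := by
    rintro s ⟨x, hx, rfl⟩ _ ⟨v, hv, rfl⟩
    show D (Matrix.toLin' (x : Matrix (Fin n) (Fin n) F) v) = 0
    rw [Matrix.toLin'_apply, hDP x hx]
    exact hv
  rcases hP.1 W hWinv with hW | hW
  · -- `D` injective: impossible for `n ≥ 2`
    exfalso
    have hDsub : ∀ u v, D (u - v) = D u - D v := by
      intro u v
      have := hDadd (u - v) v
      rw [sub_add_cancel] at this
      linear_combination -this
    have hinj : Function.Injective D := by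
      intro u v huv
      have h1 : u - v ∈ W := by
        show D (u - v) = 0
        rw [hDsub, huv, sub_self]
      rw [hW, Submodule.mem_bot] at h1
      exact sub_eq_zero.mp h1
    have hcard := Fintype.card_le_of_injective D hinj
    rw [Fintype.card_fun, Fintype.card_fin] at hcard
    have hq : 1 < Fintype.card F := Fintype.one_lt_card
    have h3 : Fintype.card F ^ 1 < Fintype.card F ^ n := Nat.pow_lt_pow_right hq (by omega)
    rw [pow_one] at h3
    omega
  · have h1 : v ∈ W := by rw [hW]; exact Submodule.mem_top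
    have h2 : D v = 0 := h1
    simp only [hDdef] at h2
    exact sub_eq_zero.mp h2

end Cfsg.Agent.Lib.Helper23.AschSp
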