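import Mathlib
import Cfsg.Prelude.Def_GeometricClasses
import Cfsg.Agent.Lib.Helper99.AschDefs
import Cfsg.Agent.Lib.Helper23.AschSpDefs
import Cfsg.Agent.Lib.Helper13.FormKitRatForm

/-!
# ASCHSP (S5662, owner helper23), module [C5-FORM] (helper42): the form on a subfield structure

`exists_formRational`: `S ≤ isoGL f` absolutely irreducible with `B S B⁻¹` over `F₀`: a non-zero multiple of `f`
takes values in `F₀` on the `F₀`-structure given by `B⁻¹`.  Direct application of helper13's
FORMKIT-[RATFORM] (`exists_formRationalStructure_bilinear`).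
-/

set_option autoImplicit false

namespace Cfsg.Agent.Lib.Helper23.AschSp

open Cfsg Cfsg.Geo Cfsg.Agent.Lib.Helper99.Asch
open scoped MatrixGroups Matrix Kronecker

variable {n m : ℕ} {F : Type*} [Field F] [Fintype F] {f : (Fin n → F) → (Fin n → F) → F}

/-- ASCHSP-[C5-FORM] -/
theorem exists_formRational (hf : IsSymplecticForm f) (S : Subgroup (GL (Fin n) F))
    (hS : ActsAbsolutelyIrreducibly (matrixSet S)) (hSf : S ≤ isoGL f) (F₀ : Subfield F) (B : GL (Fin n) F)
    (hB : ∀ s ∈ matrixSet S, ∀ i j,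
      ((B : Matrix (Fin n) (Fin n) F) * s * ((B⁻¹ : GL (Fin n) F) : Matrix (Fin n) (Fin n) F)) i j ∈ F₀) :
    ∃ ζ : F, ζ ≠ 0 ∧ IsFormRationalStructure f F₀ ζ B⁻¹ := by
  have hfix : FixesForm (matrixSet S) f := by
    rintro s ⟨x, hx, rfl⟩ u v
    exact mem_isoGL.mp (hSf hx) u v
  refine Cfsg.Agent.Lib.Helper13.FormKit.exists_formRationalStructure_bilinear hf.bilinear
    hf.nondegenerate S hS hfix F₀ B ?_
  intro x hx i j
  have h := hB (x : Matrix (Fin n) (Fin n) F) ⟨x, hx, rfl⟩ i j
  rw [Units.val_mul, Units.val_mul]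
  exact h

end Cfsg.Agent.Lib.Helper23.AschSp
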