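import Mathlib
import Cfsg.Agent.Lib.Helper32.SLMD.Defs2
import Cfsg.Agent.Lib.Helper79.Schur

/-!
# SLMD (S2332, owner helper32), module [G-SCHUR2T] (helper42): the two-term Schur relation

`G = P ∪ P w P`, `P` normalizes `ν(N)`, `ρ` irreducible of degree `D`, `c = dim C_V(ν N)`:
`D (|P| |N|² c + (|G| − |P|) T) = |G| (|N| c)²` with `T = Σ_{x,y} χ(w ν(x) w⁻¹ ν(y))`.
-/

set_option autoImplicit false
set_option linter.unusedSectionVars false
set_option linter.unusedVariables false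

namespace Cfsg.Agent.Lib.Helper32.SLMD

open Matrix Cfsg.Agent.Lib.Helper41 Cfsg.Agent.Lib.Helper39 Module
open scoped LinearAlgebra.Projectivization

section generic

variable {G : Type*} [Group G] {N : Type*} [Group N] [Fintype N] {H : Type*} [Group H]
  {V : Type*} [AddCommGroup V] [Module ℂ V] [FiniteDimensional ℂ V]

namespace GSchur2T

open Cfsg.Agent.Lib.Helper79 in
/-- `Σ_a χ(a x a⁻¹ y) = |G| χ(x) χ(y) / D` for an irreducible representation on any space -/
theorem sum_conj_mul [Fintype G] (ρ : Representation ℂ G V) [ρ.IsIrreducible] (x y : G) :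
    ∑ a : G, ρ.character (a * x * a⁻¹ * y) =
      (Fintype.card G : ℂ) * ρ.character x * ρ.character y / (finrank ℂ V : ℂ) := by
  have hn : (Module.finrank ℂ V : ℂ) ≠ 0 := by
    exact_mod_cast finrank_ne_zero_of_irreducible ρ
  have h1 : LinearMap.trace ℂ _ (classSumOp ρ x * ρ y) =
      ∑ a : G, ρ.character (a * x * a⁻¹ * y) := by
    unfold classSumOp Representation.character
    rw [Finset.sum_mul, map_sum]
    apply Finset.sum_congr rfl
    intro a _
    rw [← map_mul]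
  rw [← h1, classSumOp_eq_smul, smul_mul_assoc, map_smul, Module.End.mul_eq_comp,
    LinearMap.id_comp, smul_eq_mul]
  unfold Representation.character
  field_simp

/-- the sum of `χ` over `ν(N)` -/
theorem sum_char_eq (ρ : Representation ℂ G V) (ν : N →* G) :
    ∑ n : N, ρ.character (ν n) =
      (Fintype.card N : ℂ) * (finrank ℂ ↥(eigenSub ρ ν 1) : ℂ) := by
  have h := sum_twist_character ρ ν (1 : N →* ℂˣ)
  simpa using h

end GSchur2T

open GSchur2T in
/-- [G-SCHUR2T] -/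
theorem schur_two_term [Fintype G] (ρ : Representation ℂ G V) (hρ : ρ.IsIrreducible) (ν : N →* G)
    (hν : Function.Injective ν) (P : Subgroup G) (w : G)
    (hP : ∀ p ∈ P, ∀ n : N, ∃ n' : N, p * ν n * p⁻¹ = ν n')
    (hdc : ∀ g : G, g ∈ P ∨ ∃ p₁ ∈ P, ∃ p₂ ∈ P, g = p₁ * w * p₂) :
    (finrank ℂ V : ℂ) * ((Nat.card P : ℂ) * (Fintype.card N : ℂ) ^ 2 *
          (finrank ℂ ↥(eigenSub ρ ν 1) : ℂ)
        + ((Fintype.card G : ℂ) - (Nat.card P : ℂ)) *
          ∑ x : N, ∑ y : N, ρ.character (w * ν x * w⁻¹ * ν y))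
      = (Fintype.card G : ℂ) *
          ((Fintype.card N : ℂ) * (finrank ℂ ↥(eigenSub ρ ν 1) : ℂ)) ^ 2 := by
  classical
  have := hρ
  have hn : (Module.finrank ℂ V : ℂ) ≠ 0 := by
    exact_mod_cast Cfsg.Agent.Lib.Helper79.finrank_ne_zero_of_irreducible ρ
  set c : ℂ := (finrank ℂ ↥(eigenSub ρ ν 1) : ℂ) with hc
  set T : ℂ := ∑ x : N, ∑ y : N, ρ.character (w * ν x * w⁻¹ * ν y) with hT
  have hS : ∑ n : N, ρ.character (ν n) = (Fintype.card N : ℂ) * c := sum_char_eq ρ ν
  choose! σ hσ using hP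
  have hσinj : ∀ p ∈ P, Function.Injective (σ p) := by
    intro p hp n n' hnn
    apply hν
    have h1 := hσ p hp n
    have h2 := hσ p hp n'
    rw [hnn] at h1
    have h3 : p * ν n * p⁻¹ = p * ν n' * p⁻¹ := h1.trans h2.symm
    have h4 : ν n = p⁻¹ * (p * ν n * p⁻¹) * p := by group
    rw [h4, h3]; group
  have hσbij : ∀ p ∈ P, Function.Bijective (σ p) := fun p hp =>
    Finite.injective_iff_bijective.mp (hσinj p hp)
  -- the inner double sum
  let Fg : G → ℂ := fun g => ∑ n : N, ∑ n' : N, ρ.character (g * ν n * g⁻¹ * ν n')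
  -- value on `P`
  have hFP : ∀ g ∈ P, Fg g = (Fintype.card N : ℂ) * ((Fintype.card N : ℂ) * c) := by
    intro p hp
    show ∑ n : N, ∑ n' : N, ρ.character (p * ν n * p⁻¹ * ν n') = _
    have h1 : ∀ n : N, ∑ n' : N, ρ.character (p * ν n * p⁻¹ * ν n') =
        (Fintype.card N : ℂ) * c := by
      intro n
      rw [← hS]
      have h2 : ∀ n' : N, ρ.character (p * ν n * p⁻¹ * ν n') =
          ρ.character (ν ((Equiv.mulLeft (σ p n)) n')) := by
        intro n'
        rw [hσ p hp n, ← map_mul]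
        rfl
      simp_rw [h2]
      exact Equiv.sum_comp (Equiv.mulLeft (σ p n)) (fun m => ρ.character (ν m))
    simp_rw [h1]
    rw [Finset.sum_const, Finset.card_univ, nsmul_eq_mul]
  -- value outside `P`
  have hFw : ∀ g : G, g ∉ P → Fg g = T := by
    intro g hg
    rcases hdc g with h | ⟨p₁, hp₁, p₂, hp₂, rfl⟩
    · exact absurd h hg
    · show ∑ n : N, ∑ n' : N,
        ρ.character (p₁ * w * p₂ * ν n * (p₁ * w * p₂)⁻¹ * ν n') = _
      have h1 : ∀ n n' : N, ρ.character (p₁ * w * p₂ * ν n * (p₁ * w * p₂)⁻¹ * ν n') =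
          ρ.character (w * ν (σ p₂ n) * w⁻¹ * ν (σ p₁⁻¹ n')) := by
        intro n n'
        have e : p₁ * w * p₂ * ν n * (p₁ * w * p₂)⁻¹ * ν n' =
            p₁ * (w * (p₂ * ν n * p₂⁻¹) * w⁻¹ * (p₁⁻¹ * ν n' * p₁⁻¹⁻¹)) * p₁⁻¹ := by group
        rw [e, hσ p₂ hp₂ n, hσ p₁⁻¹ (inv_mem hp₁) n', ρ.char_conj]
      simp_rw [h1]
      let e₂ : N ≃ N := Equiv.ofBijective (σ p₂) (hσbij p₂ hp₂)
      let e₁ : N ≃ N := Equiv.ofBijective (σ p₁⁻¹) (hσbij p₁⁻¹ (inv_mem hp₁))
      have h3 : ∀ x : N, ∑ n' : N, ρ.character (w * ν x * w⁻¹ * ν (σ p₁⁻¹ n')) =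
          ∑ y : N, ρ.character (w * ν x * w⁻¹ * ν y) := fun x =>
        Equiv.sum_comp e₁ (fun y => ρ.character (w * ν x * w⁻¹ * ν y))
      simp_rw [h3]
      exact Equiv.sum_comp e₂ (fun x => ∑ y : N, ρ.character (w * ν x * w⁻¹ * ν y))
  -- total by Schur
  have htotal : ∑ g : G, Fg g =
      (Fintype.card G : ℂ) * ((Fintype.card N : ℂ) * c) ^ 2 / (finrank ℂ V : ℂ) := by
    show ∑ g : G, ∑ n : N, ∑ n' : N, ρ.character (g * ν n * g⁻¹ * ν n') = _
    have hswap : ∑ g : G, ∑ n : N, ∑ n' : N, ρ.character (g * ν n * g⁻¹ * ν n') =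
        ∑ n : N, ∑ n' : N, ∑ g : G, ρ.character (g * ν n * g⁻¹ * ν n') := by
      rw [Finset.sum_comm]
      apply Finset.sum_congr rfl
      intro n _
      rw [Finset.sum_comm]
    rw [hswap]
    simp_rw [sum_conj_mul ρ]
    have h4 : ∀ n n' : N, (Fintype.card G : ℂ) * ρ.character (ν n) * ρ.character (ν n') /
        (finrank ℂ V : ℂ) = ((Fintype.card G : ℂ) / (finrank ℂ V : ℂ)) *
          (ρ.character (ν n) * ρ.character (ν n')) := by
      intro n n'; ring
    simp_rw [h4, ← Finset.mul_sum, ← Finset.sum_mul, hS]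
    ring
  -- total by the double coset decomposition
  have hsplit : ∑ g : G, Fg g =
      (Nat.card P : ℂ) * ((Fintype.card N : ℂ) * ((Fintype.card N : ℂ) * c)) +
        ((Fintype.card G : ℂ) - (Nat.card P : ℂ)) * T := by
    rw [← Finset.sum_filter_add_sum_filter_not Finset.univ (fun g => g ∈ P)]
    have h5 : ∑ g ∈ Finset.univ.filter (fun g => g ∈ P), Fg g =
        (Nat.card P : ℂ) * ((Fintype.card N : ℂ) * ((Fintype.card N : ℂ) * c)) := by
      rw [Finset.sum_congr rfl (fun g hg => hFP g (Finset.mem_filter.mp hg).2),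
        Finset.sum_const, nsmul_eq_mul, Nat.card_eq_fintype_card, Fintype.card_subtype]
    have h6 : ∑ g ∈ Finset.univ.filter (fun g => ¬ g ∈ P), Fg g =
        ((Fintype.card G : ℂ) - (Nat.card P : ℂ)) * T := by
      rw [Finset.sum_congr rfl (fun g hg => hFw g (Finset.mem_filter.mp hg).2),
        Finset.sum_const, nsmul_eq_mul]
      congr 1
      have h7 := Finset.card_filter_add_card_filter_not (s := (Finset.univ : Finset G))
        (fun g => g ∈ P)
      rw [Finset.card_univ] at h7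
      rw [Nat.card_eq_fintype_card, Fintype.card_subtype, ← h7]
      push_cast
      ring
    rw [h5, h6]
  rw [hsplit] at htotal
  have h8 : (Nat.card P : ℂ) * (Fintype.card N : ℂ) ^ 2 * c +
      ((Fintype.card G : ℂ) - (Nat.card P : ℂ)) * T =
      (Fintype.card G : ℂ) * ((Fintype.card N : ℂ) * c) ^ 2 / (finrank ℂ V : ℂ) := by
    rw [← htotal]; ring
  rw [h8]
  field_simp

end generic

end Cfsg.Agent.Lib.Helper32.SLMD
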