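import Mathlib
import Cfsg.Agent.Lib.Helper32.SLMD.Defs2
import Cfsg.Agent.Lib.Helper36.SlmdNTau

/-!
# SLMD (S2332, owner helper32), module [N-MULT] (helper42): uniform multiplicity of the `Q`-characters

`χ` is constant `= τ` on `Q ∖ 1` ([N-TAU], helper36), hence every non-trivial character of `Q` has the same
multiplicity `m`, `τ = c − m` and `D + m = c + q^{k+1} m`.  Under `M1`: `m = 1`.
(The [G-CONST] counting is redone here in the sub-namespace `NMult`, to be independent of its landing.)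
-/

set_option autoImplicit false
set_option linter.unusedSectionVars false
set_option linter.unusedVariables false

namespace Cfsg.Agent.Lib.Helper32.SLMD

open Matrix Cfsg.Agent.Lib.Helper41 Cfsg.Agent.Lib.Helper39 Module
open scoped LinearAlgebra.Projectivization

namespace NMult

section generic

variable {G : Type*} [Group G] {N : Type*} [Group N] [Fintype N]
  {V : Type*} [AddCommGroup V] [Module ℂ V] [FiniteDimensional ℂ V]

theorem sum_inv_eq_zero (lam : N →* ℂˣ) (hlam : lam ≠ 1) :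
    ∑ n : N, (((lam n)⁻¹ : ℂˣ) : ℂ) = 0 := by
  have h1 : ((Units.coeHom ℂ).comp lam) ≠ 1 := by
    intro h
    apply hlam
    ext n
    have := DFunLike.congr_fun h n
    simpa using this
  have h2 := sum_hom_units_eq_zero ((Units.coeHom ℂ).comp lam) h1
  rw [← Equiv.sum_comp (Equiv.inv N)] at h2
  rw [← h2]
  apply Finset.sum_congr rfl
  intro n _
  simp

theorem char_split (ρ : Representation ℂ G V) (ν : N →* G) (τ : ℂ)
    (hτ : ∀ n : N, n ≠ 1 → ρ.character (ν n) = τ) [DecidableEq N] (n : N) :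
    ρ.character (ν n) = τ + (if n = 1 then ((finrank ℂ V : ℂ) - τ) else 0) := by
  by_cases hn : n = 1
  · subst hn
    rw [if_pos rfl, map_one, Representation.char_one]
    ring
  · rw [hτ n hn, if_neg hn, add_zero]

theorem const_mult_aux (ρ : Representation ℂ G V) (ν : N →* G) (τ : ℂ)
    (hτ : ∀ n : N, n ≠ 1 → ρ.character (ν n) = τ) (lam : N →* ℂˣ) (hlam : lam ≠ 1) :
    (Fintype.card N : ℂ) * (finrank ℂ ↥(eigenSub ρ ν lam) : ℂ) = (finrank ℂ V : ℂ) - τ := by
  classical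
  rw [← sum_twist_character ρ ν lam]
  have h1 : ∀ n : N, (((lam n)⁻¹ : ℂˣ) : ℂ) * ρ.character (ν n) =
      τ * (((lam n)⁻¹ : ℂˣ) : ℂ) +
        (if n = 1 then (((lam n)⁻¹ : ℂˣ) : ℂ) * ((finrank ℂ V : ℂ) - τ) else 0) := by
    intro n
    rw [char_split ρ ν τ hτ n]
    split_ifs <;> ring
  rw [Finset.sum_congr rfl (fun n _ => h1 n), Finset.sum_add_distrib, ← Finset.mul_sum,
    sum_inv_eq_zero lam hlam, Finset.sum_ite_eq' Finset.univ (1 : N)]
  simp

theorem const_fix_aux (ρ : Representation ℂ G V) (ν : N →* G) (τ : ℂ)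
    (hτ : ∀ n : N, n ≠ 1 → ρ.character (ν n) = τ) :
    (Fintype.card N : ℂ) * (finrank ℂ ↥(eigenSub ρ ν 1) : ℂ) =
      (finrank ℂ V : ℂ) + ((Fintype.card N : ℂ) - 1) * τ := by
  classical
  have h0 := sum_twist_character ρ ν (1 : N →* ℂˣ)
  simp only [MonoidHom.one_apply, inv_one, Units.val_one, one_mul] at h0
  rw [← h0, Finset.sum_congr rfl (fun n _ => char_split ρ ν τ hτ n), Finset.sum_add_distrib,
    Finset.sum_const, Finset.card_univ, nsmul_eq_mul, Finset.sum_ite_eq' Finset.univ (1 : N)]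
  simp only [Finset.mem_univ, if_true]
  ring

end generic

variable {F : Type*} [Field F] [Fintype F] [DecidableEq F] {k : ℕ}

theorem card_Q : Fintype.card (Multiplicative (F × (Fin k → F))) = Fintype.card F ^ (k + 1) := by
  rw [Fintype.card_multiplicative, Fintype.card_prod, Fintype.card_fun, Fintype.card_fin, pow_succ,
    mul_comm]

/-- a non-trivial character of `Q` -/
theorem exists_char_ne_one :
    ∃ lam : Multiplicative (F × (Fin k → F)) →* ℂˣ, lam ≠ 1 := by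
  have ha : (Multiplicative.ofAdd ((1 : F), (0 : Fin k → F))) ≠ 1 := by
    intro h
    have h1 := congrArg (fun x : Multiplicative (F × (Fin k → F)) => x.toAdd.1) h
    simp at h1
  obtain ⟨φ, hφ⟩ := CommGroup.exists_apply_ne_one_of_hasEnoughRootsOfUnity
    (Multiplicative (F × (Fin k → F))) ℂ ha
  refine ⟨φ, fun h => hφ ?_⟩
  rw [h]; rfl

variable {V : Type*} [AddCommGroup V] [Module ℂ V] [FiniteDimensional ℂ V]

/-- `χ` is constant on `Q ∖ 1` -/
theorem char_qHom [NeZero k] (ρ : Representation ℂ (GG F k) V)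
    (n : Multiplicative (F × (Fin k → F))) (hn : n ≠ 1) :
    ρ.character ((qHom : _ →* GG F k) n) = ρ.character (x12 (1 : F) : GG F k) := by
  have h : n.toAdd.1 ≠ 0 ∨ n.toAdd.2 ≠ 0 := by
    by_contra hcon
    push Not at hcon
    apply hn
    have : n.toAdd = 0 := Prod.ext hcon.1 hcon.2
    exact this
  obtain ⟨g, hg⟩ := exists_conj_qEl n.toAdd.1 n.toAdd.2 h
  rw [qHom_apply, ← hg, ρ.char_conj]

theorem char_qEl [NeZero k] (ρ : Representation ℂ (GG F k) V) (s : F) (a : Fin k → F)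
    (h : s ≠ 0 ∨ a ≠ 0) :
    ρ.character (qEl s a : GG F k) = ρ.character (x12 (1 : F) : GG F k) := by
  obtain ⟨g, hg⟩ := exists_conj_qEl s a h
  rw [← hg, ρ.char_conj]

end NMult

variable {F : Type*} [Field F] [Fintype F] [DecidableEq F] {k : ℕ}

section gg

variable {V : Type*} [AddCommGroup V] [Module ℂ V] [FiniteDimensional ℂ V]

open NMult in
/-- [N-MULT] -/
theorem mult_uniform [NeZero k] (ρ : Representation ℂ (GG F k) V) :
    ∃ m : ℕ, (∀ lam : Multiplicative (F × (Fin k → F)) →* ℂˣ, lam ≠ 1 →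
        finrank ℂ ↥(eigenSub ρ (qHom : _ →* GG F k) lam) = m) ∧
      (∀ (s : F) (a : Fin k → F), (s ≠ 0 ∨ a ≠ 0) →
        ρ.character (qEl s a) = (cQ ρ : ℂ) - (m : ℂ)) ∧
      finrank ℂ V + m = cQ ρ + Fintype.card F ^ (k + 1) * m := by
  set τ : ℂ := ρ.character (x12 (1 : F) : GG F k) with hτdef
  have hτ : ∀ n : Multiplicative (F × (Fin k → F)), n ≠ 1 →
      ρ.character ((qHom : _ →* GG F k) n) = τ := fun n hn => char_qHom ρ n hn
  obtain ⟨lam₀, hlam₀⟩ := exists_char_ne_one (F := F) (k := k)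
  set m : ℕ := finrank ℂ ↥(eigenSub ρ (qHom : _ →* GG F k) lam₀) with hm
  have hcard : (Fintype.card (Multiplicative (F × (Fin k → F))) : ℂ) =
      ((Fintype.card F ^ (k + 1) : ℕ) : ℂ) := by rw [card_Q]
  have hNne : ((Fintype.card F ^ (k + 1) : ℕ) : ℂ) ≠ 0 := by
    have : 0 < Fintype.card F ^ (k + 1) := pow_pos Fintype.card_pos _
    exact_mod_cast this.ne'
  have h0 := const_mult_aux ρ (qHom : _ →* GG F k) τ hτ lam₀ hlam₀
  rw [hcard] at h0
  have hfix := const_fix_aux ρ (qHom : _ →* GG F k) τ hτ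
  rw [hcard] at hfix
  change ((Fintype.card F ^ (k + 1) : ℕ) : ℂ) * (cQ ρ : ℂ) = _ at hfix
  -- `τ = D - N m`
  have hτeq : τ = (finrank ℂ V : ℂ) - ((Fintype.card F ^ (k + 1) : ℕ) : ℂ) * (m : ℂ) := by
    rw [h0]; ring
  -- `D + m = c + N m` in `ℂ`
  have hD : (finrank ℂ V : ℂ) + (m : ℂ) =
      (cQ ρ : ℂ) + ((Fintype.card F ^ (k + 1) : ℕ) : ℂ) * (m : ℂ) := by
    have h1 : ((Fintype.card F ^ (k + 1) : ℕ) : ℂ) * ((finrank ℂ V : ℂ) + (m : ℂ)) =
        ((Fintype.card F ^ (k + 1) : ℕ) : ℂ) *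
          ((cQ ρ : ℂ) + ((Fintype.card F ^ (k + 1) : ℕ) : ℂ) * (m : ℂ)) := by
      rw [mul_add _ (cQ ρ : ℂ), hfix, hτeq]; ring
    exact mul_left_cancel₀ hNne h1
  refine ⟨m, ?_, ?_, ?_⟩
  · intro lam hlam
    have h1 := const_mult_aux ρ (qHom : _ →* GG F k) τ hτ lam hlam
    rw [hcard, ← h0] at h1
    have h2 := mul_left_cancel₀ hNne h1
    exact_mod_cast h2
  · intro s a h
    rw [char_qEl ρ s a h, ← hτdef, hτeq]
    linear_combination hD
  · exact_mod_cast hD

open NMult in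
/-- [N-MULT] -/
theorem m1_char [NeZero k] (ρ : Representation ℂ (GG F k) V) (hM : M1 ρ) (s : F) (a : Fin k → F)
    (h : s ≠ 0 ∨ a ≠ 0) : ρ.character (qEl s a) = (cQ ρ : ℂ) - 1 := by
  obtain ⟨m, hm1, hm2, _⟩ := mult_uniform ρ
  obtain ⟨lam₀, hlam₀⟩ := exists_char_ne_one (F := F) (k := k)
  have h1 : m = 1 := by rw [← hm1 lam₀ hlam₀]; exact hM lam₀ hlam₀
  rw [hm2 s a h, h1]; simp

open NMult in
/-- [N-MULT] -/
theorem m1_dim [NeZero k] (ρ : Representation ℂ (GG F k) V) (hM : M1 ρ) :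
    finrank ℂ V + 1 = cQ ρ + Fintype.card F ^ (k + 1) := by
  obtain ⟨m, hm1, _, hm3⟩ := mult_uniform ρ
  obtain ⟨lam₀, hlam₀⟩ := exists_char_ne_one (F := F) (k := k)
  have h1 : m = 1 := by rw [← hm1 lam₀ hlam₀]; exact hM lam₀ hlam₀
  rw [h1, mul_one] at hm3
  exact hm3

end gg

end Cfsg.Agent.Lib.Helper32.SLMD
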