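import Mathlib
import Cfsg.Prelude.Def_Local
import Cfsg.Prelude.Def_Involutions
import Cfsg.Prelude.Def_Transfer
import Cfsg.Agent.S1285
import Cfsg.Agent.S0223
import Cfsg.Agent.S0076

/-!
# S1936 (helper22's project), module [SIGM] (helper42, hedge): section B5–B7 of the sheet

From a solvable `A`-signalizer functor `θ` (`A = Ω₁(T)`, `T` an abelian Sylow 2-subgroup, `|A| ≥ 8`) whose
values are `q`-groups, equivariant, with `C(a) = θ(a) · (C(a) ∩ N(T))` for `a ∈ A#`, in a simple group: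
a strongly embedded subgroup `M0` containing `N(T)`, all `C(a)` and all `θ(a)` (`a ∈ A#`).
-/

set_option autoImplicit false
set_option linter.unusedSectionVars false

namespace Cfsg.Agent.Lib.Helper42.S1936Sigm

open Cfsg

variable {G : Type*} [Group G] [Finite G]

/-- an involution of a subgroup `M ⊇ T` is `M`-conjugate into the Sylow 2-subgroup `T` -/
theorem exists_conj_mem_sylow {T : Sylow 2 G} {M : Subgroup G} (hTM : (T : Subgroup G) ≤ M) {t : G}
    (ht : t ∈ M) (ht2 : orderOf t = 2) : ∃ m ∈ M, m * t * m⁻¹ ∈ T := by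
  classical
  set t' : M := ⟨t, ht⟩ with ht'
  have hord : orderOf t' = 2 := by
    rw [← ht2]; exact Subgroup.orderOf_mk t ht
  have hp : IsPGroup 2 (Subgroup.zpowers t') := by
    apply IsPGroup.of_card (n := 1)
    rw [Nat.card_zpowers, hord]; norm_num
  obtain ⟨Q, hQ⟩ := hp.exists_le_sylow
  obtain ⟨m, hm⟩ := MulAction.exists_smul_eq M Q (T.subtype hTM)
  refine ⟨m, m.2, ?_⟩
  have h1 : t' ∈ (Q : Subgroup M) := hQ (Subgroup.mem_zpowers t')
  have h2 : m * t' * m⁻¹ ∈ ((m • Q : Sylow 2 M) : Subgroup M) := by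
    rw [Sylow.coe_subgroup_smul, Subgroup.mem_smul_pointwise_iff_exists]
    exact ⟨t', h1, by simp [MulAut.smul_def]⟩
  rw [hm, Sylow.coe_subtype, Subgroup.mem_subgroupOf] at h2
  have h3 : ((m * t' * m⁻¹ : M) : G) = m * t * (m : G)⁻¹ := by simp [ht']
  rw [h3] at h2
  exact h2

theorem conj_mem_centralizer {a x m : G} (hx : x ∈ Subgroup.centralizer ({a} : Set G)) :
    m * x * m⁻¹ ∈ Subgroup.centralizer ({m * a * m⁻¹} : Set G) := by
  rw [Subgroup.mem_centralizer_iff] at hx ⊢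
  intro h hh
  rw [Set.mem_singleton_iff] at hh
  subst hh
  have := hx a (Set.mem_singleton a)
  calc m * a * m⁻¹ * (m * x * m⁻¹) = m * (a * x) * m⁻¹ := by group
    _ = m * (x * a) * m⁻¹ := by rw [this]
    _ = m * x * m⁻¹ * (m * a * m⁻¹) := by group

/-- the core: any proper subgroup containing `N(T)` and the `θ(a)` is strongly embedded -/
theorem stronglyEmbedded_core (T : Sylow 2 G) (hT : ∀ x ∈ T, ∀ y ∈ T, x * y = y * x)
    (A : Subgroup G) (hA : ∀ x, x ∈ A ↔ x ∈ T ∧ x ^ 2 = 1) (hTeven : Even (Nat.card (T : Subgroup G)))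
    (θ : G → Subgroup G)
    (hstar : ∀ a ∈ A, a ≠ 1 → ∀ x ∈ Subgroup.centralizer ({a} : Set G),
      ∃ y ∈ θ a, ∃ n ∈ Subgroup.normalizer ((T : Subgroup G) : Set G), x = y * n)
    (M0 : Subgroup G) (hne : M0 ≠ ⊤)
    (hNT : Subgroup.normalizer ((T : Subgroup G) : Set G) ≤ M0)
    (hθM : ∀ a ∈ A, a ≠ 1 → θ a ≤ M0) :
    IsStronglyEmbedded M0 ∧ (∀ a ∈ A, a ≠ 1 → Subgroup.centralizer ({a} : Set G) ≤ M0) := by
  classical
  have hTM : (T : Subgroup G) ≤ M0 := le_trans Subgroup.le_normalizer hNT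
  have hC : ∀ a ∈ A, a ≠ 1 → Subgroup.centralizer ({a} : Set G) ≤ M0 := by
    intro a ha ha1 x hx
    obtain ⟨y, hy, n, hn, rfl⟩ := hstar a ha ha1 x hx
    exact M0.mul_mem (hθM a ha ha1 hy) (hNT hn)
  refine ⟨?_, hC⟩
  have heven : Even (Nat.card M0) := by
    have h1 : Nat.card (T : Subgroup G) ∣ Nat.card M0 := Subgroup.card_dvd_of_le hTM
    exact (even_iff_two_dvd.2 (dvd_trans (even_iff_two_dvd.1 hTeven) h1))
  -- involutions of `M0` are `M0`-conjugate into `A#`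
  have hinv : ∀ t ∈ M0, orderOf t = 2 → ∃ m ∈ M0, m * t * m⁻¹ ∈ A ∧ m * t * m⁻¹ ≠ 1 := by
    intro t ht ht2
    obtain ⟨m, hm, hmT⟩ := exists_conj_mem_sylow hTM ht ht2
    have ho : orderOf (m * t * m⁻¹) = 2 := by
      rw [← ht2]
      have := orderOf_injective (MulAut.conj m).toMonoidHom (MulAut.conj m).injective t
      simpa [MulAut.conj_apply] using this
    refine ⟨m, hm, (hA _).2 ⟨hmT, ?_⟩, ?_⟩
    · rw [← ho]; exact pow_orderOf_eq_one _
    · intro h1; rw [h1, orderOf_one] at ho; omega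
  rw [Cfsg.Agent.S0223.result M0 hne heven]
  constructor
  · intro t ht ht2 x hx
    obtain ⟨m, hm, hmA, hm1⟩ := hinv t ht ht2
    have h1 := hC _ hmA hm1 (conj_mem_centralizer (m := m) hx)
    have : x = m⁻¹ * (m * x * m⁻¹) * m := by group
    rw [this]
    exact M0.mul_mem (M0.mul_mem (M0.inv_mem hm) h1) hm
  · intro t ht s hs ht2 hs2 hconj
    obtain ⟨m₁, hm₁, ha, ha1⟩ := hinv t ht ht2
    obtain ⟨m₂, hm₂, hb, hb1⟩ := hinv s hs hs2
    obtain ⟨c, hc⟩ := isConj_iff.1 hconj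
    set a := m₁ * t * m₁⁻¹ with hadef
    set b := m₂ * s * m₂⁻¹ with hbdef
    have haT : a ∈ T := ((hA a).1 ha).1
    have hbT : b ∈ T := ((hA b).1 hb).1
    have hsing : ∀ (z : G), z ∈ T → ∀ x ∈ T, (fun y => x * y * x⁻¹) '' ({z} : Set G) = {z} := by
      intro z hz x hx
      rw [Set.image_singleton]
      congr 1
      rw [hT x hx z hz]; group
    have hg : (fun y => (m₂ * c * m₁⁻¹) * y * (m₂ * c * m₁⁻¹)⁻¹) '' ({a} : Set G) = {b} := by
      rw [Set.image_singleton]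
      congr 1
      rw [hadef, hbdef, ← hc]; group
    obtain ⟨n, hn, hnab⟩ := Cfsg.Agent.S0076.result T {a} {b}
      (by intro z hz; rw [Set.mem_singleton_iff] at hz; rw [hz]; exact haT)
      (by intro z hz; rw [Set.mem_singleton_iff] at hz; rw [hz]; exact hbT)
      (hsing a haT) (hsing b hbT) _ hg
    rw [Set.image_singleton, Set.singleton_eq_singleton_iff] at hnab
    refine ⟨m₂⁻¹ * n * m₁, M0.mul_mem (M0.mul_mem (M0.inv_mem hm₂) (hNT hn)) hm₁, ?_⟩
    have h1 : (m₂⁻¹ * n * m₁) * t * (m₂⁻¹ * n * m₁)⁻¹ = m₂⁻¹ * (n * a * n⁻¹) * m₂ := by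
      rw [hadef]; group
    rw [h1, hnab, hbdef]; group

end Cfsg.Agent.Lib.Helper42.S1936Sigm
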