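import Mathlib
import Cfsg.Agent.Lib.Helper42.S1936SigmCore

set_option autoImplicit false
set_option linter.unusedSectionVars false

namespace Cfsg.Agent.Lib.Helper42.S1936Sigm

open Cfsg

variable {G : Type*} [Group G] [Finite G]

/-- `N(T) ≤ N(Ω₁(T))` -/
theorem normalizer_le_normalizer_omega (T : Subgroup G) (A : Subgroup G)
    (hA : ∀ x, x ∈ A ↔ x ∈ T ∧ x ^ 2 = 1) :
    Subgroup.normalizer (T : Set G) ≤ Subgroup.normalizer (A : Set G) := by
  intro g hg
  rw [Subgroup.mem_normalizer_iff] at hg ⊢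
  intro h
  rw [hA, hA, ← hg h]
  have : (g * h * g⁻¹) ^ 2 = g * h ^ 2 * g⁻¹ := by rw [conj_pow]
  rw [this]
  constructor
  · rintro ⟨h1, h2⟩; exact ⟨h1, by rw [h2]; group⟩
  · rintro ⟨h1, h2⟩
    refine ⟨h1, ?_⟩
    have : h ^ 2 = g⁻¹ * (g * h ^ 2 * g⁻¹) * g := by group
    rw [this, h2]; group

/-- `N(A)` normalises the closure `W` of an equivariant functor -/
theorem normalizer_le_normalizer_closure (A : Subgroup G) (θ : G → Subgroup G)
    (hequiv : ∀ g a : G, θ (g * a * g⁻¹) = (θ a).map (MulAut.conj g).toMonoidHom) :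
    Subgroup.normalizer (A : Set G) ≤ Subgroup.normalizer (signalizerClosure A θ : Set G) := by
  have key : ∀ g ∈ Subgroup.normalizer (A : Set G), ∀ h ∈ signalizerClosure A θ,
      g * h * g⁻¹ ∈ signalizerClosure A θ := by
    intro g hg h hh
    have h1 : (signalizerClosure A θ).map (MulAut.conj g).toMonoidHom ≤ signalizerClosure A θ := by
      rw [signalizerClosure, Subgroup.map_iSup]
      apply iSup_le
      rintro ⟨a, haA, ha1⟩
      rw [← hequiv g a]
      have hmem : g * a * g⁻¹ ∈ A := (Subgroup.mem_normalizer_iff.1 hg a).1 haA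
      have hne : g * a * g⁻¹ ≠ 1 := by
        intro h1
        apply ha1
        have : a = g⁻¹ * (g * a * g⁻¹) * g := by group
        rw [this, h1]; group
      exact le_iSup (fun a : {a : G // a ∈ A ∧ a ≠ 1} => θ (a : G)) ⟨g * a * g⁻¹, hmem, hne⟩
    apply h1
    exact ⟨h, hh, by simp [MulAut.conj_apply]⟩
  intro g hg
  rw [Subgroup.mem_normalizer_iff]
  intro h
  constructor
  · exact key g hg h
  · intro hh
    have := key g⁻¹ (Subgroup.inv_mem _ hg) _ hh
    have e : g⁻¹ * (g * h * g⁻¹) * g⁻¹⁻¹ = h := by group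
    rwa [e] at this

/-- S1936-[SIGM] (sheet §B5–B7) in `_of` form. -/
theorem exists_stronglyEmbedded_of_signalizer [IsSimpleGroup G]
    (hG : ¬ ∀ x y : G, x * y = y * x)
    (T : Sylow 2 G) (hT : ∀ x ∈ T, ∀ y ∈ T, x * y = y * x)
    (A : Subgroup G) (hA : ∀ x, x ∈ A ↔ x ∈ T ∧ x ^ 2 = 1) (hA8 : 8 ≤ Nat.card A)
    (θ : G → Subgroup G) (q : ℕ) [Fact q.Prime]
    (hθ : IsSolvableSignalizerFunctor 2 A θ)
    (hq : ∀ a ∈ A, a ≠ 1 → IsPGroup q (θ a))
    (hequiv : ∀ g a : G, θ (g * a * g⁻¹) = (θ a).map (MulAut.conj g).toMonoidHom)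
    (hstar : ∀ a ∈ A, a ≠ 1 → ∀ x ∈ Subgroup.centralizer ({a} : Set G),
      ∃ y ∈ θ a, ∃ n ∈ Subgroup.normalizer ((T : Subgroup G) : Set G), x = y * n) :
    ∃ M0 : Subgroup G, IsStronglyEmbedded M0 ∧
      Subgroup.normalizer ((T : Subgroup G) : Set G) ≤ M0 ∧
      (∀ a ∈ A, a ≠ 1 → Subgroup.centralizer ({a} : Set G) ≤ M0) ∧
      (∀ a ∈ A, a ≠ 1 → θ a ≤ M0) := by
  classical
  have hAT : A ≤ (T : Subgroup G) := fun x hx => ((hA x).1 hx).1
  -- `A` is elementary abelian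
  have hA2 : IsElementaryAbelian 2 A :=
    ⟨⟨⟨fun a b => Subtype.ext (hT a (hAT a.2) b (hAT b.2))⟩⟩, fun a ha => ((hA a).1 ha).2⟩
  obtain ⟨-, X, -, hXodd, hXθ⟩ := Cfsg.Agent.S1285.result 2 A hA2 (by norm_num; exact hA8) θ hθ q hq
  set W := signalizerClosure A θ with hW
  have hWX : W ≤ X := by
    rw [hW, signalizerClosure]
    apply iSup_le
    rintro ⟨a, haA, ha1⟩
    rw [← hXθ a haA ha1]
    exact inf_le_left
  have hWodd : ¬ 2 ∣ Nat.card W := fun h => hXodd (dvd_trans h (Subgroup.card_dvd_of_le hWX))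
  -- `|T|` is even
  have hTeven : Even (Nat.card (T : Subgroup G)) := by
    obtain ⟨n, hn⟩ := IsPGroup.iff_card.1 T.isPGroup'
    have h8 : 8 ≤ Nat.card (T : Subgroup G) :=
      le_trans hA8 (Nat.le_of_dvd Nat.card_pos (Subgroup.card_dvd_of_le hAT))
    rw [hn] at h8 ⊢
    rcases Nat.eq_zero_or_pos n with h0 | h0
    · rw [h0] at h8; omega
    · exact (Nat.even_pow.2 ⟨even_two, h0.ne'⟩)
  have hGeven : 2 ∣ Nat.card G :=
    dvd_trans (even_iff_two_dvd.1 hTeven) (Subgroup.card_subgroup_dvd_card _)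
  have hWtop : W ≠ ⊤ := by
    intro h
    apply hWodd
    rw [h, Subgroup.card_top]; exact hGeven
  have hNTA := normalizer_le_normalizer_omega (T : Subgroup G) A hA
  have hNAW := normalizer_le_normalizer_closure A θ hequiv
  have hθW : ∀ a ∈ A, a ≠ 1 → θ a ≤ W := fun a ha ha1 =>
    le_iSup (fun a : {a : G // a ∈ A ∧ a ≠ 1} => θ (a : G)) ⟨a, ha, ha1⟩
  by_cases hWbot : W = ⊥
  · -- `M0 = N(A)`
    have hne : Subgroup.normalizer (A : Set G) ≠ ⊤ := by
      intro h
      have hn : A.Normal := Subgroup.normalizer_eq_top_iff.1 h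
      rcases hn.eq_bot_or_eq_top with h0 | h0
      · rw [h0, Subgroup.card_bot] at hA8; omega
      · apply hG
        intro x y
        have hx : x ∈ A := by rw [h0]; trivial
        have hy : y ∈ A := by rw [h0]; trivial
        exact hT x (hAT hx) y (hAT hy)
    have hθM : ∀ a ∈ A, a ≠ 1 → θ a ≤ Subgroup.normalizer (A : Set G) := by
      intro a ha ha1
      refine le_trans (hθW a ha ha1) ?_
      rw [hWbot]; exact bot_le
    obtain ⟨h1, h2⟩ := stronglyEmbedded_core T hT A hA hTeven θ hstar _ hne hNTA hθM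
    exact ⟨_, h1, hNTA, h2, hθM⟩
  · -- `M0 = N(W)`
    have hne : Subgroup.normalizer (W : Set G) ≠ ⊤ := by
      intro h
      have hn : W.Normal := Subgroup.normalizer_eq_top_iff.1 h
      rcases hn.eq_bot_or_eq_top with h0 | h0
      · exact hWbot h0
      · exact hWtop h0
    have hNT : Subgroup.normalizer ((T : Subgroup G) : Set G) ≤ Subgroup.normalizer (W : Set G) :=
      le_trans hNTA hNAW
    have hθM : ∀ a ∈ A, a ≠ 1 → θ a ≤ Subgroup.normalizer (W : Set G) :=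
      fun a ha ha1 => le_trans (hθW a ha ha1) Subgroup.le_normalizer
    obtain ⟨h1, h2⟩ := stronglyEmbedded_core T hT A hA hTeven θ hstar _ hne hNT hθM
    exact ⟨_, h1, hNT, h2, hθM⟩

end Cfsg.Agent.Lib.Helper42.S1936Sigm
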