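import Mathlib
import Cfsg.Agent.Lib.Helper22.S1936Defs
import Cfsg.Agent.Lib.Helper25.S1936Theta
import Cfsg.Agent.Lib.Helper42.S1936Sigm

/-!
# S1936 (helper22's skeleton): SIGM-[SE0] exact, SIGM-[M0] in `_of` form (hedges by helper42)
-/

set_option autoImplicit false
set_option linter.unusedSectionVars false
universe u
open Cfsg.Agent.Lib.Helper22.S1936

namespace Cfsg.Agent.Lib.Helper42.S1936

open Cfsg Cfsg.Agent.Lib.Helper42.S1936Sigm

variable {G : Type u} [Group G] [Finite G] {p : ℕ} [Fact p.Prime]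

/-- Sylow 2-subgroups of a `MinCE` are abelian -/
theorem sylow_two_comm (hG : MinCE p G) (T : Sylow 2 G) :
    ∀ x ∈ (T : Subgroup G), ∀ y ∈ (T : Subgroup G), x * y = y * x := by
  obtain ⟨n, hn⟩ := IsPGroup.iff_card.1 T.isPGroup'
  have hp : p.Prime := Fact.out
  have hcop : (Nat.card ↥(T : Subgroup G)).Coprime p := by
    rw [hn]
    apply Nat.Coprime.pow_left
    rw [Nat.coprime_comm, Nat.Prime.coprime_iff_not_dvd hp]
    intro h
    have := Nat.le_of_dvd (by norm_num) h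
    have := hG.hp5
    omega
  obtain ⟨hc, -⟩ := hG.hp (T : Subgroup G) hcop
  intro x hx y hy
  have := hc.is_comm.comm ⟨x, hx⟩ ⟨y, hy⟩
  exact congrArg Subtype.val this

/-- Sylow 2-subgroups of a `MinCE` have even order -/
theorem sylow_two_even (hG : MinCE p G) (T : Sylow 2 G) : Even (Nat.card ↥(T : Subgroup G)) := by
  rw [even_iff_two_dvd]
  have h2 : 2 ∣ Nat.card G := even_iff_two_dvd.1 hG.even
  rw [Sylow.card_eq_multiplicity]
  have : 0 < (Nat.card G).factorization 2 :=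
    Nat.Prime.factorization_pos_of_dvd Nat.prime_two Nat.card_pos.ne' h2
  exact dvd_pow_self 2 this.ne'

/-- SIGM-[SE0] (B7), EXACT skeleton statement. -/
theorem stronglyEmbedded_of (hG : MinCE p G) (T : Sylow 2 G) (M : Subgroup G) (hM : M ≠ ⊤)
    (hN : Subgroup.normalizer ((T : Subgroup G) : Set G) ≤ M)
    (hC : ∀ a ∈ (T : Subgroup G), orderOf a = 2 → Subgroup.centralizer ({a} : Set G) ≤ M) :
    Cfsg.IsStronglyEmbedded M := by
  have hT := sylow_two_comm hG T
  have hA : ∀ x, x ∈ omega1 (T : Subgroup G) ↔ x ∈ T ∧ x ^ 2 = 1 := fun x => mem_omega1 _ hT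
  have hord : ∀ a ∈ omega1 (T : Subgroup G), a ≠ 1 → orderOf a = 2 := by
    intro a ha ha1
    exact orderOf_eq_prime ((hA a).1 ha).2 ha1
  refine (stronglyEmbedded_core T hT (omega1 (T : Subgroup G)) hA (sylow_two_even hG T)
    (fun a => Subgroup.centralizer ({a} : Set G)) ?_ M hM hN ?_).1
  · intro a _ _ x hx
    exact ⟨x, hx, 1, Subgroup.one_mem _, by simp⟩
  · intro a ha ha1
    exact hC a ((hA a).1 ha).1 (hord a ha ha1)

/-- SIGM-[M0] (B5–B7) in `_of` form: hypotheses are the skeleton statements [RK], [FUN], [STAR] for this `T`. -/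
theorem exists_stronglyEmbedded_of (hG : MinCE p G) (T : Sylow 2 G)
    (hRK : 8 ≤ Nat.card ↥(omega1 (T : Subgroup G)))
    (hFUN : Cfsg.IsSolvableSignalizerFunctor 2 (omega1 (T : Subgroup G)) (theta p))
    (hSTAR : ∀ {a : G}, a ∈ (T : Subgroup G) → orderOf a = 2 →
      ∀ c ∈ Subgroup.centralizer ({a} : Set G),
        ∃ r ∈ theta p a, ∃ n ∈ Subgroup.centralizer ({a} : Set G) ⊓
          Subgroup.normalizer ((T : Subgroup G) : Set G), c = r * n) :
    ∃ M : Subgroup G, Cfsg.IsStronglyEmbedded M ∧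
      Subgroup.normalizer ((T : Subgroup G) : Set G) ≤ M ∧
      ∀ a ∈ (T : Subgroup G), orderOf a = 2 → Subgroup.centralizer ({a} : Set G) ≤ M := by
  have hT := sylow_two_comm hG T
  have hA : ∀ x, x ∈ omega1 (T : Subgroup G) ↔ x ∈ T ∧ x ^ 2 = 1 := fun x => mem_omega1 _ hT
  have hord : ∀ a ∈ omega1 (T : Subgroup G), a ≠ 1 → orderOf a = 2 := by
    intro a ha ha1
    exact orderOf_eq_prime ((hA a).1 ha).2 ha1
  have := hG.simple
  have hnc : ¬ ∀ x y : G, x * y = y * x := by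
    intro h
    apply hG.nonsolv
    let _ : CommGroup G := { ‹Group G› with mul_comm := h }
    infer_instance
  obtain ⟨M, hM, hNT, hCM, -⟩ := exists_stronglyEmbedded_of_signalizer hnc T hT
    (omega1 (T : Subgroup G)) hA hRK (theta p) p hFUN
    (fun a _ _ => Cfsg.Agent.Lib.Helper25.S1936.theta_isPGroup a)
    (fun g a => Cfsg.Agent.Lib.Helper25.S1936.theta_conj g a)
    (fun a ha ha1 x hx => by
      obtain ⟨r, hr, n, hn, rfl⟩ := hSTAR ((hA a).1 ha).1 (hord a ha ha1) x hx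
      exact ⟨r, hr, n, hn.2, rfl⟩)
  refine ⟨M, hM, hNT, fun a haT ha2 => ?_⟩
  have ha1 : a ≠ 1 := by
    intro h; rw [h, orderOf_one] at ha2; omega
  have hasq : a ^ 2 = 1 := by rw [← ha2]; exact pow_orderOf_eq_one a
  exact hCM a ((hA a).2 ⟨haT, hasq⟩) ha1

end Cfsg.Agent.Lib.Helper42.S1936
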