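/-
helper42: module SUZ2-[T-SHYP] of helper85's project SUZ2 part 2 (S3797; board #6054, sheet
Lib/Helper85/Suz2/SUZ2_SHEET.md): the conjugation action of a solvable `N ≤ N_G(H)` on a 2-subgroup
`H`, transitive on the involutions of `H`, gives `SHyp ↥H (conjY H N)`.
-/
import Cfsg.Agent.Lib.Helper85.Suz2ThDefs

set_option autoImplicit false

namespace Cfsg.Agent.Lib.Helper42.Suz2

open Cfsg Cfsg.Agent.Lib.Helper19.Suz Cfsg.Agent.Lib.Helper85.Suz2

universe u

variable {G : Type u} [Group G]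

/-- conjugation by the elements of `N ≤ N_G(H)` as a homomorphism `N →* MulAut H` -/
def conjHom (H N : Subgroup G) (hN : N ≤ Subgroup.normalizer (H : Set G)) : ↥N →* MulAut ↥H where
  toFun n :=
    { toFun := fun x => ⟨(n : G) * x * (n : G)⁻¹,
        (Subgroup.mem_normalizer_iff.mp (hN n.2) x).mp x.2⟩
      invFun := fun x => ⟨(n : G)⁻¹ * x * (n : G),
        by
          have := (Subgroup.mem_normalizer_iff.mp (Subgroup.inv_mem _ (hN n.2)) x).mp x.2
          simpa using this⟩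
      left_inv := fun x => by
        apply Subtype.ext
        simp [mul_assoc]
      right_inv := fun x => by
        apply Subtype.ext
        simp [mul_assoc]
      map_mul' := fun x y => by
        apply Subtype.ext
        simp [mul_assoc] }
  map_one' := by
    ext x
    simp
  map_mul' a b := by
    ext x
    simp [mul_assoc]

theorem conjHom_apply (H N : Subgroup G) (hN : N ≤ Subgroup.normalizer (H : Set G)) (n : ↥N)
    (x : ↥H) : ((conjHom H N hN n x : ↥H) : G) = (n : G) * x * (n : G)⁻¹ := rfl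

theorem conjY_eq_range (H N : Subgroup G) (hN : N ≤ Subgroup.normalizer (H : Set G)) :
    conjY H N = (conjHom H N hN).range := by
  ext β
  rw [mem_conjY, MonoidHom.mem_range]
  constructor
  · rintro ⟨n, hn, h⟩
    refine ⟨⟨n, hn⟩, ?_⟩
    ext x
    rw [conjHom_apply, h]
  · rintro ⟨n, rfl⟩
    exact ⟨n, n.2, fun x => rfl⟩

/-- [T-SHYP] -/
theorem shyp_conjY [Finite G] (H N : Subgroup G) (hN : N ≤ Subgroup.normalizer (H : Set G))
    (hsol : Group.IsSolvable N) (hH : IsPGroup 2 H)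
    (htrans : ∀ x ∈ H, ∀ y ∈ H, x ≠ 1 → x * x = 1 → y ≠ 1 → y * y = 1 →
      ∃ n ∈ N, n * x * n⁻¹ = y)
    (htwo : ∃ x ∈ H, ∃ y ∈ H, x ≠ y ∧ x ≠ 1 ∧ x * x = 1 ∧ y ≠ 1 ∧ y * y = 1) :
    SHyp ↥H (conjY H N) := by
  refine ⟨inferInstance, hH, ?_, ?_, ?_⟩
  · rw [conjY_eq_range H N hN]
    exact Group.isSolvable_of_surjective (conjHom H N hN).rangeRestrict_surjective
  · intro x y hx1 hx2 hy1 hy2
    obtain ⟨n, hn, hnxy⟩ := htrans x x.2 y y.2 (fun h => hx1 (Subtype.ext h))
      (by exact_mod_cast congrArg Subtype.val hx2) (fun h => hy1 (Subtype.ext h))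
      (by exact_mod_cast congrArg Subtype.val hy2)
    refine ⟨conjHom H N hN ⟨n, hn⟩, ?_, ?_⟩
    · rw [conjY_eq_range H N hN]
      exact ⟨_, rfl⟩
    · apply Subtype.ext
      rw [conjHom_apply]
      exact hnxy
  · obtain ⟨x, hx, y, hy, hxy, hx1, hx2, hy1, hy2⟩ := htwo
    refine ⟨⟨x, hx⟩, ⟨y, hy⟩, ?_, ?_, ?_, ?_, ?_⟩
    · intro h; exact hxy (congrArg Subtype.val h)
    · intro h; exact hx1 (congrArg Subtype.val h)
    · exact Subtype.ext hx2
    · intro h; exact hy1 (congrArg Subtype.val h)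
    · exact Subtype.ext hy2

end Cfsg.Agent.Lib.Helper42.Suz2
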