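import Mathlib
import Cfsg.Prelude.Def_Amalgam
import Cfsg.Agent.Lib.Helper68.AmalBDefs
import Cfsg.Agent.Lib.Helper68.AmalBTools
import Cfsg.Agent.Lib.Helper19.AmalBP2a
import Cfsg.Agent.Lib.Helper19.AmalBP2c
import Cfsg.Agent.Lib.Helper19.AmalBEvenI
import Cfsg.Agent.Lib.Helper7.AmalBP3

set_option autoImplicit false

namespace Cfsg.Agent.Lib.Helper68.AmalB.H42

open Cfsg Cfsg.Agent.Lib.Helper12.Amal Cfsg.Agent.Lib.Helper68.AmalD Cfsg.Agent.Lib.Helper68.AmalW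

variable {G : Type*} [Group G] {P₁ P₂ : Subgroup G}

/-- **GSB-[BE-III]** in `_of` form: hypotheses = the statement of [P3] `Za_le_Qb` and the conclusion of
[BE-I] `even_comm` for this walk. -/
theorem even_exists_s_of (hB : BaseB P₁ P₂)
    (hQb : ∀ {x y : CosetVertex P₁ P₂}, (cosetGraph P₁ P₂).Adj x y → IsB y → Zv x ≤ Qv y)
    {b : ℕ} (hb : 4 ≤ b) (hmin : MinB P₁ P₂ b)
    {p : ℕ → CosetVertex P₁ P₂} (hp : IsWalk b p) (h0 : ¬ IsB (p 0)) (hb' : ¬ IsB (p b))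
    (hcomm : ¬ Zv (p b) ≤ Qv (p 0) ∧ Zv (p 1) = Zv (p (b - 1))) :
    ∃ μ s : CosetVertex P₁ P₂, (cosetGraph P₁ P₂).Adj (p 0) μ ∧ μ ≠ p 1 ∧
      (cosetGraph P₁ P₂).Adj μ s ∧ s ≠ p 0 ∧ ¬ Zv s ≤ Qv (p (b - 1)) := by
  classical
  have hW := hB.W
  obtain ⟨hnot, hZ1⟩ := hcomm
  have h01 : (cosetGraph P₁ P₂).Adj (p 0) (p 1) := hp 0 (by omega)
  have hbb : (cosetGraph P₁ P₂).Adj (p (b - 1)) (p b) := by
    have := hp (b - 1) (by omega)
    rwa [Nat.sub_add_cancel (by omega)] at this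
  have hB1 : IsB (p 1) := by
    by_contra h; exact h0 ((hB.adj_type _ _ h01).2 h)
  have hBb1 : IsB (p (b - 1)) := by
    by_contra h; exact hb' ((hB.adj_type _ _ hbb.symm).2 h)
  obtain ⟨t', ht'Z, ht'Q⟩ : ∃ t', t' ∈ Zv (p b) ∧ t' ∉ Qv (p 0) := by
    by_contra h
    push Not at h
    exact hnot (fun t ht => h t ht)
  have hd1 : (cosetGraph P₁ P₂).dist (p b) (p 1) < b := by
    rw [SimpleGraph.dist_comm]
    have := dist_walk_le hW hp (i := 1) (j := b) (by omega) le_rfl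
    omega
  have ht'Q1 : t' ∈ Qv (p 1) := hmin.le hd1 ht'Z
  have ht'T : t' ∈ Gv (p 0) ⊓ Gv (p 1) := Q_le_T' hW h01 ht'Q1
  obtain ⟨μ, hμ, hμ1⟩ := exists_adj_ne hW (p 0) (p 1)
  have hBμ : IsB μ := by
    by_contra h; exact h0 ((hB.adj_type _ _ hμ).2 h)
  have hmove : t' • μ ≠ μ := hW.move (p 0) (p 1) μ h01 hμ hμ1.symm t' ht'T ht'Q
  have ht'0 : t' • p 0 = p 0 := MulAction.mem_stabilizer_iff.1 ht'T.1
  have hμ' : (cosetGraph P₁ P₂).Adj (p 0) (t' • μ) := by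
    have := hW.smul_adj t' _ _ hμ
    rwa [ht'0] at this
  have hclaim : ¬ Vv μ ≤ Qv (p (b - 1)) := by
    intro hV
    have hconj : ∀ v ∈ Vv μ, t' * v * t'⁻¹ ∈ Vv μ := by
      intro v hv
      have hv' : v⁻¹ ∈ Gv (p b) ⊓ Gv (p (b - 1)) := by
        have := Q_le_T hW hbb (hV ((Vv μ).inv_mem hv))
        exact ⟨this.2, this.1⟩
      have h1 := Za_comm_le hB hbb.symm hBb1 hv' ht'Z
      have h2 : v⁻¹ * t' * v⁻¹⁻¹ * t'⁻¹ ∈ Vv μ := by
        apply Z_le_Vv hμ.symm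
        apply Zb_le hB h01 hB1
        rw [hZ1]; exact h1
      have := (Vv μ).mul_mem hv h2
      have e : v * (v⁻¹ * t' * v⁻¹⁻¹ * t'⁻¹) = t' * v * t'⁻¹ := by group
      rwa [e] at this
    have hfinQ : Finite ↥(Qv (p (b - 1))) := by
      have := hW.fin (p (b - 1))
      exact Finite.of_injective (Subgroup.inclusion (Q_le_G hW _)) (Subgroup.inclusion_injective _)
    have hfinV : Finite ↥(Vv μ) :=
      Finite.of_injective (Subgroup.inclusion hV) (Subgroup.inclusion_injective _)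
    have hVeq : Vv (t' • μ) = Vv μ := by
      rw [Vv_smul hW]
      apply Subgroup.eq_of_le_of_card_ge
      · rintro _ ⟨v, hv, rfl⟩
        simpa [MulAut.conj_apply] using hconj v hv
      · rw [Subgroup.card_map_of_injective (MulAut.conj t').injective]
    have hnorm : ∀ ν : CosetVertex P₁ P₂, Gv ν ≤ Subgroup.normalizer ((Vv ν : Subgroup G) : Set G) := by
      intro ν
      apply le_normalizer_of_forall
      intro g hg v hv
      have hgν : g • ν = ν := MulAction.mem_stabilizer_iff.1 hg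
      have := Vv_smul hW g ν
      rw [hgν] at this
      rw [this]
      exact conj_mem_map g hv
    have hnμ := hnorm μ
    have hnμ' : Gv (t' • μ) ≤ Subgroup.normalizer ((Vv μ : Subgroup G) : Set G) := by
      have := hnorm (t' • μ)
      rwa [hVeq] at this
    have hgen := hW.gen_two (p 0) μ (t' • μ) hμ hμ' (Ne.symm hmove)
    have hn0 : Gv (p 0) ≤ Subgroup.normalizer ((Vv μ : Subgroup G) : Set G) := by
      rw [hgen]
      exact sup_le (inf_le_right.trans hnμ) (inf_le_right.trans hnμ')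
    have hVQ : Vv μ ≤ Qv μ := Vv_le (fun x hx => hQb hx.symm hBμ)
    have hVT : Vv μ ≤ Gv (p 0) ⊓ Gv μ := hVQ.trans (Q_le_T' hW hμ)
    have hbot := hW.core (p 0) μ hμ (Vv μ) hVT hn0 hnμ
    apply hB.ne_bot (p 0)
    rw [eq_bot_iff, ← hbot]
    exact Z_le_Vv hμ.symm
  have hex : ∃ s, (cosetGraph P₁ P₂).Adj μ s ∧ ¬ Zv s ≤ Qv (p (b - 1)) := by
    by_contra h
    push Not at h
    exact hclaim (Vv_le (fun x hx => h x hx))
  obtain ⟨s, hs, hsZ⟩ := hex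
  refine ⟨μ, s, hμ, hμ1, hs, ?_, hsZ⟩
  rintro rfl
  apply hsZ
  apply hmin.le
  have := dist_walk_le hW hp (i := 0) (j := b - 1) (by omega) (by omega)
  omega

/-- **GSB-[BE-III]** exact sheet statement (in the sub-namespace `H42`; from helper19's [BE-I] and helper7's [P3]). -/
theorem even_exists_s (hB : BaseB P₁ P₂) {b : ℕ} (hb : 4 ≤ b) (hmin : MinB P₁ P₂ b)
    {p : ℕ → CosetVertex P₁ P₂} (hp : IsWalk b p) (h0 : ¬ IsB (p 0)) (hb' : ¬ IsB (p b))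
    (hc : ¬ Zv (p 0) ≤ Qv (p b)) :
    ∃ μ s : CosetVertex P₁ P₂, (cosetGraph P₁ P₂).Adj (p 0) μ ∧ μ ≠ p 1 ∧
      (cosetGraph P₁ P₂).Adj μ s ∧ s ≠ p 0 ∧ ¬ Zv s ≤ Qv (p (b - 1)) :=
  even_exists_s_of hB (fun h hy => H7.Za_le_Qb hB h hy) hb hmin hp h0 hb'
    (even_comm hB (by omega) hmin hp h0 hb' hc)

end Cfsg.Agent.Lib.Helper68.AmalB.H42
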