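import Mathlib
import Cfsg.Prelude.Def_Amalgam
import Cfsg.Agent.Lib.Helper68.AmalBDefs
import Cfsg.Agent.Lib.Helper68.AmalBTools
import Cfsg.Agent.Lib.Helper12.AmalVTQuot

set_option autoImplicit false

namespace Cfsg.Agent.Lib.Helper68.AmalB.H42

open Cfsg Cfsg.Agent.Lib.Helper12.Amal Cfsg.Agent.Lib.Helper68.AmalD Cfsg.Agent.Lib.Helper68.AmalW

variable {G : Type*} [Group G] {P₁ P₂ : Subgroup G}

/-- **GSB-[THREE]** a normal subgroup of `G_x` not in `Q_x` contains a `3`-element (hedge by helper42) -/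
theorem exists_three_of_normal (hW : BaseW P₁ P₂) {x : CosetVertex P₁ P₂} {N : Subgroup G}
    (hN : N ≤ Gv x) (hnorm : Gv x ≤ Subgroup.normalizer (N : Set G)) (hNQ : ¬ N ≤ Qv x) :
    ∃ d ∈ N, d ∉ Qv x ∧ d * d * d = 1 := by
  classical
  have hfin : Finite ↥(Gv x) := hW.fin x
  have hfinN : Finite ↥N := Finite.of_injective (Subgroup.inclusion hN) (Subgroup.inclusion_injective hN)
  have hQle : Qv x ≤ Gv x := Q_le_G hW x
  have hfinQ : Finite ↥(Qv x) :=
    Finite.of_injective (Subgroup.inclusion hQle) (Subgroup.inclusion_injective hQle)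
  obtain ⟨k, hk⟩ := IsPGroup.iff_card.1 (hW.Q_two x)
  have hcard : Nat.card ↥(Gv x) = 6 * 2 ^ k := by rw [hW.card_G x, hk]
  have hdvd : Nat.card ↥N ∣ 6 * 2 ^ k := by
    rw [← hcard]; exact Subgroup.card_dvd_of_le hN
  by_cases h3 : 3 ∣ Nat.card ↥N
  · have : Fact (Nat.Prime 3) := ⟨Nat.prime_three⟩
    obtain ⟨d, hd⟩ := exists_prime_orderOf_dvd_card' 3 h3
    refine ⟨d, d.2, ?_, ?_⟩
    · intro hdQ
      -- an element of order 3 in a 2-group
      obtain ⟨j, hj⟩ := (hW.Q_two x) ⟨d, hdQ⟩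
      have h1 : ((d : G)) ^ 2 ^ j = 1 := by
        have := congrArg Subtype.val hj
        simpa using this
      have h2 : orderOf (d : G) = 3 := by rw [Subgroup.orderOf_coe]; exact hd
      have h3' : 3 ∣ 2 ^ j := by rw [← h2]; exact orderOf_dvd_of_pow_eq_one h1
      have := (Nat.Prime.dvd_of_dvd_pow Nat.prime_three h3')
      omega
    · have h2 : orderOf (d : G) = 3 := by rw [Subgroup.orderOf_coe]; exact hd
      have := pow_orderOf_eq_one (d : G)
      rw [h2] at this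
      rw [← this, pow_succ, pow_two]
  · exfalso
    apply hNQ
    have hcop : (Nat.card ↥N).Coprime 3 := by
      rw [Nat.coprime_comm]; exact (Nat.Prime.coprime_iff_not_dvd Nat.prime_three).2 h3
    have h2 : Nat.card ↥N ∣ 2 ^ (k + 1) := by
      have : 6 * 2 ^ k = 3 * 2 ^ (k + 1) := by ring
      rw [this] at hdvd
      exact hcop.dvd_of_dvd_mul_left hdvd
    obtain ⟨j, -, hj⟩ := (Nat.dvd_prime_pow Nat.prime_two).1 h2
    have hp : IsPGroup 2 ↥N := IsPGroup.of_card hj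
    exact Cfsg.Agent.Lib.Helper12.Amal.VTQ.le_Qof hN hnorm hp

end Cfsg.Agent.Lib.Helper68.AmalB.H42
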