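/-
helper42: module S1329-[FIXDER] of helper55's project S1329 (board #5743, sheet
Lib/Helper55/S1329_SHEET.md): if `A` acts coprimely on `Y` with `⁅Y, A⁆ = Y` then `C_Y(A) ≤ Y'`
(norm map on the abelianization of `Y`).
-/
import Mathlib

set_option autoImplicit false

namespace Cfsg.Agent.Lib.Helper42.CFG

theorem fixed_le_derived {G : Type*} [Group G] [Finite G] (A Y : Subgroup G)
    (hAY : A ≤ Subgroup.normalizer (Y : Set G))
    (hcop : (Nat.card A).Coprime (Nat.card Y)) (hYA : ⁅Y, A⁆ = Y) :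
    Y ⊓ Subgroup.centralizer (A : Set G) ≤ ⁅Y, Y⁆ := by
  classical
  have : Fintype A := Fintype.ofFinite A
  -- conjugation by `a ∈ A` on `Y`
  let c : A → (Y →* Y) := fun a =>
    { toFun := fun y => ⟨(a : G) * y * (a : G)⁻¹,
        (Subgroup.mem_normalizer_iff.mp (hAY a.2) y).mp y.2⟩
      map_one' := by ext; simp
      map_mul' := fun y z => by ext; simp [mul_assoc] }
  have hc : ∀ (a : A) (y : Y), ((c a y : Y) : G) = (a : G) * y * (a : G)⁻¹ := fun _ _ => rfl
  -- the norm map to the abelianization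
  let ν : Y →* Abelianization Y := ∏ a : A, (Abelianization.of).comp (c a)
  have hν : ∀ y : Y, ν y = ∏ a : A, Abelianization.of (c a y) := by
    intro y
    simp only [ν, MonoidHom.finsetProd_apply, MonoidHom.comp_apply]
  have hinv : ∀ (a₀ : A) (y : Y), ν (c a₀ y) = ν y := by
    intro a₀ y
    rw [hν, hν]
    refine Fintype.prod_equiv (Equiv.mulRight a₀) _ _ (fun a => ?_)
    congr 1
    apply Subtype.ext
    rw [hc, hc, hc]
    simp [mul_assoc]
  -- `ν` kills the commutators
  have hker : ⁅Y, A⁆ ≤ Subgroup.map Y.subtype ν.ker := by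
    rw [Subgroup.commutator_le]
    intro g₁ h₁ g₂ h₂
    refine ⟨(⟨g₁, h₁⟩ : Y) * c ⟨g₂, h₂⟩ (⟨g₁, h₁⟩ : Y)⁻¹, ?_, ?_⟩
    · rw [SetLike.mem_coe, MonoidHom.mem_ker, map_mul, hinv, ← map_mul, mul_inv_cancel, map_one]
    · rw [Subgroup.coe_subtype, Subgroup.coe_mul, hc, commutatorElement_def]
      simp [mul_assoc]
  rw [hYA] at hker
  intro x hx
  obtain ⟨hxY, hxA⟩ := hx
  obtain ⟨x', hx'ker, hx'⟩ := hker hxY
  rw [Subgroup.coe_subtype] at hx'
  rw [SetLike.mem_coe, MonoidHom.mem_ker, hν] at hx'ker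
  have hfix : ∀ a : A, c a x' = x' := by
    intro a
    apply Subtype.ext
    rw [hc, hx']
    have := (Subgroup.mem_centralizer_iff.mp hxA) (a : G) a.2
    rw [this, mul_inv_cancel_right]
  have hpowA : (Abelianization.of x') ^ Nat.card A = 1 := by
    rw [← hx'ker, Finset.prod_congr rfl (fun a _ => by rw [hfix a]), Finset.prod_const,
      Finset.card_univ, Nat.card_eq_fintype_card]
  have hd1 : orderOf (Abelianization.of x') ∣ Nat.card A := orderOf_dvd_of_pow_eq_one hpowA
  have hd2 : orderOf (Abelianization.of x') ∣ Nat.card Y :=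
    (orderOf_map_dvd _ x').trans (orderOf_dvd_natCard x')
  have h1 : orderOf (Abelianization.of x') = 1 :=
    Nat.eq_one_of_dvd_one (hcop ▸ Nat.dvd_gcd hd1 hd2)
  rw [orderOf_eq_one_iff, ← MonoidHom.mem_ker, Abelianization.ker_of] at h1
  have := Subgroup.mem_map_of_mem Y.subtype h1
  rw [commutator_def, Subgroup.map_commutator, ← MonoidHom.range_eq_map,
    Subgroup.range_subtype, Subgroup.coe_subtype, hx'] at this
  exact this

end Cfsg.Agent.Lib.Helper42.CFG
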