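/-
helper42: module S1329-[TRANSFER] of helper55's project S1329 (board #5743, sheet
Lib/Helper55/S1329_SHEET.md): a central element of `Y` lying in a Sylow subgroup `R` and in the
derived subgroup of `Y` lies in the derived subgroup of `R` (transfer into `R / R'`).
-/
import Mathlib

set_option autoImplicit false

namespace Cfsg.Agent.Lib.Helper42.CFG

/-- an element whose order is prime to `k` is a power of its `k`-th power -/
theorem exists_pow_pow_eq_of_coprime {Y : Type*} [Group Y] (n : Y) (k : ℕ)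
    (h : (orderOf n).Coprime k) : ∃ j : ℕ, (n ^ k) ^ j = n := by
  rcases Nat.lt_or_ge 1 (orderOf n) with h1 | h1
  · obtain ⟨j, -, hj⟩ := Nat.exists_mul_mod_eq_one_of_coprime h.symm h1
    refine ⟨j, ?_⟩
    rw [← pow_mul, ← pow_mod_orderOf, hj, pow_one]
  · rcases Nat.eq_zero_or_pos (orderOf n) with h0 | h0
    · -- `orderOf n = 0`, so `k = 1`
      rw [h0, Nat.coprime_zero_left] at h
      exact ⟨1, by rw [h, pow_one, pow_one]⟩
    · have : orderOf n = 1 := le_antisymm h1 h0
      rw [orderOf_eq_one_iff] at this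
      exact ⟨0, by rw [this, pow_zero]⟩

theorem mem_commutator_sylow_of_central {Y : Type*} [Group Y] [Finite Y] (r : ℕ) [Fact r.Prime]
    (R : Sylow r Y) (n : Y) (hn : n ∈ Subgroup.center Y) (hnR : n ∈ (R : Subgroup Y))
    (hn' : n ∈ commutator Y) : n ∈ ⁅(R : Subgroup Y), (R : Subgroup Y)⁆ := by
  have key : ∀ (k : ℕ) (g₀ : Y), g₀⁻¹ * n ^ k * g₀ ∈ (R : Subgroup Y) →
      g₀⁻¹ * n ^ k * g₀ = n ^ k := by
    intro k g₀ _
    have h1 : n ^ k ∈ Subgroup.center Y := Subgroup.pow_mem _ hn k
    rw [Subgroup.mem_center_iff] at h1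
    rw [mul_assoc, ← h1 g₀, ← mul_assoc, inv_mul_cancel, one_mul]
  have hV := MonoidHom.transfer_eq_pow
    (Abelianization.of : (R : Subgroup Y) →* Abelianization (R : Subgroup Y)) n key
  have hker : n ∈ (MonoidHom.transfer
      (Abelianization.of : (R : Subgroup Y) →* Abelianization (R : Subgroup Y))).ker :=
    Abelianization.commutator_subset_ker _ hn'
  rw [MonoidHom.mem_ker, hV, ← MonoidHom.mem_ker, Abelianization.ker_of] at hker
  have h2 : n ^ (R : Subgroup Y).index ∈ ⁅(R : Subgroup Y), (R : Subgroup Y)⁆ := by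
    have := Subgroup.mem_map_of_mem (R : Subgroup Y).subtype hker
    rw [commutator_def, Subgroup.map_commutator, ← MonoidHom.range_eq_map,
      Subgroup.range_subtype] at this
    exact this
  have hcop : (orderOf n).Coprime (R : Subgroup Y).index := by
    obtain ⟨k, hk⟩ := (IsPGroup.iff_orderOf.mp R.2) ⟨n, hnR⟩
    rw [Subgroup.orderOf_mk] at hk
    rw [hk]
    exact Nat.Coprime.pow_left k
      ((Nat.Prime.coprime_iff_not_dvd (Fact.out : r.Prime)).mpr R.not_dvd_index)
  obtain ⟨j, hj⟩ := exists_pow_pow_eq_of_coprime n _ hcop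
  rw [← hj]
  exact Subgroup.pow_mem _ h2 j

end Cfsg.Agent.Lib.Helper42.CFG
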