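/-
helper42: module DSQW-[MC-MEM] of helper84's project DSQW (S5248, board #4896): the four-groups
`⟨z, w⟩` and the quaternion groups `⟨c, w⟩` inside a group with `MC` data - their elements outside
`⟨x⟩` are conjugate to `w`, and their images under inner automorphisms.
-/
import Mathlib
import Cfsg.Agent.Lib.Helper84.DSQW.MCBasic

set_option autoImplicit false

namespace Cfsg.Agent.Lib.Helper84.DSQW

open Cfsg Cfsg.FusionSystem Cfsg.Agent.Lib.Helper20.QD

variable {X : Type*} [Group X] {x y : X} {n η δ : ℕ}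

namespace MC

/-- the elements of `⟨x^d, x^i y⟩` when the square of `x^i y` lies in `⟨x^d⟩` -/
theorem mem_closure_form (h : MC x y n η δ) (d i : ZMod (2 ^ n))
    (hsq : ∃ t, ((η : ZMod (2 ^ n)) * i + (δ : ZMod (2 ^ n))) * hf n = t * d) (u : X)
    (hu : u ∈ Subgroup.closure {pw x n d, pw x n i * y}) :
    ∃ t, u = pw x n (t * d) ∨ u = pw x n (i + t * d) * y := by
  obtain ⟨t0, ht0⟩ := hsq
  have hkey : i + ee n η * i + (δ : ZMod (2 ^ n)) * hf n = t0 * d := by
    rw [← ht0]; unfold ee; ring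
  induction hu using Subgroup.closure_induction with
  | mem v hv =>
    rcases hv with rfl | hv
    · exact ⟨1, Or.inl (by rw [one_mul])⟩
    · rw [Set.mem_singleton_iff] at hv
      subst hv
      exact ⟨0, Or.inr (by rw [zero_mul, add_zero])⟩
  | one => exact ⟨0, Or.inl (by rw [zero_mul, pw_zero h])⟩
  | mul a b _ _ ha hb =>
    obtain ⟨s, rfl | rfl⟩ := ha <;> obtain ⟨t, rfl | rfl⟩ := hb
    · exact ⟨s + t, Or.inl (by rw [← pw_add h]; congr 1; ring)⟩
    · exact ⟨s + t, Or.inr (by rw [pw_mul_pwy h]; congr 2; ring)⟩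
    · exact ⟨s + ee n η * t, Or.inr (by rw [pwy_mul_pw h]; congr 2; ring)⟩
    · refine ⟨t0 + s + ee n η * t, Or.inl ?_⟩
      rw [pwy_mul_pwy h]
      congr 1
      linear_combination hkey
  | inv a _ ha =>
    obtain ⟨s, rfl | rfl⟩ := ha
    · exact ⟨-s, Or.inl (by rw [← pw_neg h]; congr 1; ring)⟩
    · refine ⟨-t0 - ee n η * s, Or.inr ?_⟩
      rw [pwy_inv h]
      congr 2
      linear_combination -hkey

theorem mul_hf_cases (h : MC x y n η δ) (t : ZMod (2 ^ n)) : t * hf n = 0 ∨ t * hf n = hf n := by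
  have h2 := two_mul_hf (one_le_n h)
  rcases even_or_odd t with ⟨j, rfl⟩ | ⟨j, rfl⟩
  · left; linear_combination j * h2
  · right; linear_combination j * h2

/-- `(2 - η h) q = h` -/
theorem two_sub_mul_qt (h : MC x y n η δ) :
    (2 - (η : ZMod (2 ^ n)) * hf n) * qt n = hf n := by
  have h1 := two_mul_qt h.hn
  rcases eta_cases h with rfl | rfl
  · simp only [Nat.cast_zero, zero_mul, sub_zero]; exact h1
  · have h3 := hf_mul_qt (h.hsd rfl).2
    simp only [Nat.cast_one, one_mul]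
    linear_combination h1 - h3

/-- there is `k` with `(2 - η h) k = q` -/
theorem exists_two_sub_mul_eq_qt (h : MC x y n η δ) (hn : 3 ≤ n) :
    ∃ k : ZMod (2 ^ n), (2 - (η : ZMod (2 ^ n)) * hf n) * k = qt n := by
  obtain ⟨j, hj⟩ := qt_even hn
  rcases eta_cases h with rfl | rfl
  · exact ⟨j, by simp only [Nat.cast_zero, zero_mul, sub_zero]; exact hj.symm⟩
  · refine ⟨(1 + qt n) * j, ?_⟩
    have h3 := two_sub_hf_mul hn
    simp only [Nat.cast_one, one_mul]
    linear_combination j * h3 - hj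

theorem isConj_of_mem_four (h : MC x y n η δ) (w : X) (hw : w ∉ Subgroup.zpowers x) (hw2 : w * w = 1)
    (u : X) (hu : u ∈ Subgroup.closure {x ^ 2 ^ (n - 1), w}) (hux : u ∉ Subgroup.zpowers x) :
    IsConj u w := by
  obtain ⟨i, rfl⟩ := (not_mem_iff h w).1 hw
  rw [pwy_sq h, pw_eq_one_iff h] at hw2
  rw [← pw_hf h] at hu
  obtain ⟨t, rfl | rfl⟩ := mem_closure_form h (hf n) i ⟨0, by rw [hw2, zero_mul]⟩ u hu
  · exact absurd (pw_mem _) hux
  · rcases mul_hf_cases h t with ht | ht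
    · rw [ht, add_zero]
    · rw [ht]
      apply IsConj.symm
      rw [isConj_iff]
      refine ⟨pw x n (qt n), ?_⟩
      rw [conj_pw_pwy h, two_sub_mul_qt h]

theorem isConj_of_mem_quat (h : MC x y n η δ) (hn : 3 ≤ n) (w : X) (hw : w ∉ Subgroup.zpowers x)
    (hw2 : w * w = x ^ 2 ^ (n - 1))
    (u : X) (hu : u ∈ Subgroup.closure {x ^ 2 ^ (n - 2), w}) (hux : u ∉ Subgroup.zpowers x) :
    IsConj u w := by
  obtain ⟨i, rfl⟩ := (not_mem_iff h w).1 hw
  rw [pwy_sq h, ← pw_hf h] at hw2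
  have hw3 := pw_injective h hw2
  rw [← pw_qt h] at hu
  obtain ⟨t, rfl | rfl⟩ := mem_closure_form h (qt n) i
    ⟨2, by rw [hw3, two_mul_qt h.hn]⟩ u hu
  · exact absurd (pw_mem _) hux
  · obtain ⟨k, hk⟩ := exists_two_sub_mul_eq_qt h hn
    apply IsConj.symm
    rw [isConj_iff]
    refine ⟨pw x n (t * k), ?_⟩
    rw [conj_pw_pwy h]
    congr 2
    linear_combination t * hk

theorem conj_z (h : MC x y n η δ) (g : X) :
    g * x ^ 2 ^ (n - 1) * g⁻¹ = x ^ 2 ^ (n - 1) := by
  rw [← pw_hf h, z_central h g, mul_inv_cancel_right]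

theorem map_conj_four (h : MC x y n η δ) (w : X) (g : X) :
    (Subgroup.closure {x ^ 2 ^ (n - 1), w}).map (MulAut.conj g).toMonoidHom =
      Subgroup.closure {x ^ 2 ^ (n - 1), g * w * g⁻¹} := by
  rw [MonoidHom.map_closure, Set.image_pair]
  have h1 : (MulAut.conj g).toMonoidHom (x ^ 2 ^ (n - 1)) = x ^ 2 ^ (n - 1) := by
    show g * x ^ 2 ^ (n - 1) * g⁻¹ = _
    exact conj_z h g
  rw [h1]
  rfl

theorem conj_c (h : MC x y n η δ) (g : X) :
    g * x ^ 2 ^ (n - 2) * g⁻¹ = x ^ 2 ^ (n - 2) ∨ g * x ^ 2 ^ (n - 2) * g⁻¹ = (x ^ 2 ^ (n - 2))⁻¹ := by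
  rw [← pw_qt h]
  rcases normal_form h g with ⟨k, rfl⟩ | ⟨k, rfl⟩
  · left
    rw [← pw_add h, add_comm, pw_add h, mul_inv_cancel_right]
  · right
    rw [conj_pwy_pw h, ← pw_neg h]
    congr 1
    rcases eta_cases h with rfl | rfl
    · unfold ee; simp
    · have h3 := hf_mul_qt (h.hsd rfl).2
      unfold ee
      simp only [Nat.cast_one, one_mul]
      linear_combination h3

theorem closure_inv_pair (a b : X) :
    Subgroup.closure ({a⁻¹, b} : Set X) = Subgroup.closure {a, b} := by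
  apply le_antisymm
  · rw [Subgroup.closure_le]
    rintro v (rfl | hv)
    · exact Subgroup.inv_mem _ (Subgroup.subset_closure (Set.mem_insert _ _))
    · exact Subgroup.subset_closure (Set.mem_insert_of_mem _ hv)
  · rw [Subgroup.closure_le]
    rintro v (rfl | hv)
    · have := Subgroup.inv_mem _
        (Subgroup.subset_closure (Set.mem_insert v⁻¹ ({b} : Set X)))
      rwa [inv_inv] at this
    · exact Subgroup.subset_closure (Set.mem_insert_of_mem _ hv)

theorem map_conj_quat (h : MC x y n η δ) (w : X) (g : X) :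
    (Subgroup.closure {x ^ 2 ^ (n - 2), w}).map (MulAut.conj g).toMonoidHom =
      Subgroup.closure {x ^ 2 ^ (n - 2), g * w * g⁻¹} := by
  rw [MonoidHom.map_closure, Set.image_pair]
  have h0 : (MulAut.conj g).toMonoidHom w = g * w * g⁻¹ := rfl
  have h1 : (MulAut.conj g).toMonoidHom (x ^ 2 ^ (n - 2)) = g * x ^ 2 ^ (n - 2) * g⁻¹ := rfl
  rw [h0, h1]
  rcases conj_c h g with hc | hc
  · rw [hc]
  · rw [hc, closure_inv_pair]

end MC

end Cfsg.Agent.Lib.Helper84.DSQW
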