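/-
helper42: module DSQW-[MC-TRANS] of helper84's project DSQW (S5248, board #4896): the four-group
`⟨z, w⟩` has an automorphism with `w ↦ z`, the quaternion group `⟨c, w⟩` of order 8 has an
automorphism with `w ↦ c`. Both are built from the universal properties of `DihedralGroup 2` and
`QuaternionGroup 2` (generic part: `dihHom`, `quatHom`).
-/
import Mathlib
import Cfsg.Agent.Lib.Helper84.DSQW.MCBasic

set_option autoImplicit false

namespace Cfsg.Agent.Lib.Helper42.DSQWTrans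

section generic

variable {G : Type*} [Group G]

theorem zpw_add {m : ℕ} [NeZero m] (c : G) (hc : c ^ m = 1) (i j : ZMod m) :
    c ^ (i + j).val = c ^ i.val * c ^ j.val := by
  rw [ZMod.val_add, ← pow_eq_pow_mod _ hc, pow_add]

theorem zpw_zero {m : ℕ} [NeZero m] (c : G) : c ^ (0 : ZMod m).val = 1 := by
  rw [ZMod.val_zero, pow_zero]

theorem zpw_neg {m : ℕ} [NeZero m] (c : G) (hc : c ^ m = 1) (i : ZMod m) :
    c ^ (-i).val = (c ^ i.val)⁻¹ := by
  rw [eq_inv_iff_mul_eq_one, ← zpw_add c hc, neg_add_cancel, zpw_zero]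

theorem zpw_sub {m : ℕ} [NeZero m] (c : G) (hc : c ^ m = 1) (i j : ZMod m) :
    c ^ (i - j).val = c ^ i.val * (c ^ j.val)⁻¹ := by
  rw [sub_eq_add_neg, zpw_add c hc, zpw_neg c hc]

theorem zpw_natCast {m : ℕ} [NeZero m] (c : G) (hc : c ^ m = 1) (k : ℕ) :
    c ^ ((k : ZMod m)).val = c ^ k := by
  rw [ZMod.val_natCast, ← pow_eq_pow_mod _ hc]

theorem conj_pow_inv (c w : G) (hconj : w * c * w⁻¹ = c⁻¹) (k : ℕ) :
    w * c ^ k * w⁻¹ = (c ^ k)⁻¹ := by
  rw [← conj_pow, hconj, inv_pow]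

theorem pow_mul_of_conj (c w : G) (hconj : w * c * w⁻¹ = c⁻¹) (k : ℕ) :
    c ^ k * w = w * (c ^ k)⁻¹ := by
  have h := conj_pow_inv c w hconj k
  calc c ^ k * w = (w * c ^ k * w⁻¹)⁻¹ * w := by rw [h, inv_inv]
    _ = w * (c ^ k)⁻¹ := by group

theorem pow_comm_pow (c : G) (k l : ℕ) : c ^ k * c ^ l = c ^ l * c ^ k :=
  ((Commute.refl c).pow_pow k l).eq

theorem inv_pow_comm_pow (c : G) (k l : ℕ) : (c ^ k)⁻¹ * c ^ l = c ^ l * (c ^ k)⁻¹ :=
  (((Commute.refl c).pow_pow k l).inv_left).eq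

/-- the universal property of the generalised quaternion groups -/
noncomputable def quatHom (k : ℕ) [NeZero k] (c w : G) (hc : c ^ (2 * k) = 1) (hsq : w * w = c ^ k)
    (hconj : w * c * w⁻¹ = c⁻¹) : QuaternionGroup k →* G :=
  MonoidHom.mk' (fun q => match q with
    | QuaternionGroup.a i => c ^ i.val
    | QuaternionGroup.xa i => w * c ^ i.val) (by
    rintro (i | i) (j | j)
    · show c ^ (i + j).val = c ^ i.val * c ^ j.val
      exact zpw_add c hc i j
    · show w * c ^ (j - i).val = c ^ i.val * (w * c ^ j.val)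
      rw [zpw_sub c hc, ← mul_assoc (c ^ i.val), pow_mul_of_conj c w hconj, mul_assoc,
        inv_pow_comm_pow]
    · show w * c ^ (i + j).val = w * c ^ i.val * c ^ j.val
      rw [zpw_add c hc, mul_assoc]
    · show c ^ ((k : ZMod (2 * k)) + j - i).val = w * c ^ i.val * (w * c ^ j.val)
      rw [zpw_sub c hc, zpw_add c hc, zpw_natCast c hc]
      symm
      calc w * c ^ i.val * (w * c ^ j.val) = w * (c ^ i.val * w) * c ^ j.val := by group
        _ = w * (w * (c ^ i.val)⁻¹) * c ^ j.val := by rw [pow_mul_of_conj c w hconj]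
        _ = (w * w) * ((c ^ i.val)⁻¹ * c ^ j.val) := by group
        _ = c ^ k * c ^ j.val * (c ^ i.val)⁻¹ := by rw [hsq, inv_pow_comm_pow, mul_assoc])

theorem quatHom_a (k : ℕ) [NeZero k] (c w : G) (hc : c ^ (2 * k) = 1) (hsq : w * w = c ^ k)
    (hconj : w * c * w⁻¹ = c⁻¹) (i : ZMod (2 * k)) :
    quatHom k c w hc hsq hconj (QuaternionGroup.a i) = c ^ i.val := rfl

theorem quatHom_xa (k : ℕ) [NeZero k] (c w : G) (hc : c ^ (2 * k) = 1) (hsq : w * w = c ^ k)
    (hconj : w * c * w⁻¹ = c⁻¹) (i : ZMod (2 * k)) :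
    quatHom k c w hc hsq hconj (QuaternionGroup.xa i) = w * c ^ i.val := rfl

theorem quatHom_injective (k : ℕ) [NeZero k] (c w : G) (hc : c ^ (2 * k) = 1)
    (hsq : w * w = c ^ k) (hconj : w * c * w⁻¹ = c⁻¹) (ho : orderOf c = 2 * k)
    (hw : w ∉ Subgroup.zpowers c) : Function.Injective (quatHom k c w hc hsq hconj) := by
  rw [injective_iff_map_eq_one]
  rintro (i | i) hq
  · rw [quatHom_a] at hq
    have h1 : orderOf c ∣ i.val := orderOf_dvd_of_pow_eq_one hq
    rw [ho] at h1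
    have h2 : i.val < 2 * k := ZMod.val_lt i
    have h3 : i.val = 0 := Nat.eq_zero_of_dvd_of_lt h1 h2
    have h4 : i = 0 := by
      rw [← ZMod.natCast_zmod_val i, h3, Nat.cast_zero]
    rw [h4]; rfl
  · rw [quatHom_xa] at hq
    exfalso
    apply hw
    have : w = (c ^ i.val)⁻¹ := eq_inv_of_mul_eq_one_left hq
    rw [this]
    exact Subgroup.inv_mem _ (Subgroup.pow_mem _ (Subgroup.mem_zpowers c) _)

theorem quatHom_range (k : ℕ) [NeZero k] (c w : G) (hc : c ^ (2 * k) = 1)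
    (hsq : w * w = c ^ k) (hconj : w * c * w⁻¹ = c⁻¹) (hk : 2 * k ≠ 1) :
    (quatHom k c w hc hsq hconj).range = Subgroup.closure {c, w} := by
  apply le_antisymm
  · rintro _ ⟨q, rfl⟩
    have hcm : c ∈ Subgroup.closure ({c, w} : Set G) :=
      Subgroup.subset_closure (Set.mem_insert _ _)
    have hwm : w ∈ Subgroup.closure ({c, w} : Set G) :=
      Subgroup.subset_closure (Set.mem_insert_of_mem _ rfl)
    rcases q with i | i
    · rw [quatHom_a]; exact Subgroup.pow_mem _ hcm _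
    · rw [quatHom_xa]; exact Subgroup.mul_mem _ hwm (Subgroup.pow_mem _ hcm _)
  · rw [Subgroup.closure_le]
    rintro v (rfl | hv)
    · refine ⟨QuaternionGroup.a 1, ?_⟩
      rw [quatHom_a, ZMod.val_one'' hk, pow_one]
    · rw [Set.mem_singleton_iff] at hv
      subst hv
      refine ⟨QuaternionGroup.xa 0, ?_⟩
      rw [quatHom_xa, ZMod.val_zero, pow_zero, mul_one]

/-- the universal property of the dihedral groups -/
noncomputable def dihHom (k : ℕ) [NeZero k] (c w : G) (hc : c ^ k = 1) (hsq : w * w = 1)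
    (hconj : w * c * w⁻¹ = c⁻¹) : DihedralGroup k →* G :=
  MonoidHom.mk' (fun q => match q with
    | DihedralGroup.r i => c ^ i.val
    | DihedralGroup.sr i => w * c ^ i.val) (by
    rintro (i | i) (j | j)
    · show c ^ (i + j).val = c ^ i.val * c ^ j.val
      exact zpw_add c hc i j
    · show w * c ^ (j - i).val = c ^ i.val * (w * c ^ j.val)
      rw [zpw_sub c hc, ← mul_assoc (c ^ i.val), pow_mul_of_conj c w hconj, mul_assoc,
        inv_pow_comm_pow]
    · show w * c ^ (i + j).val = w * c ^ i.val * c ^ j.val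
      rw [zpw_add c hc, mul_assoc]
    · show c ^ (j - i).val = w * c ^ i.val * (w * c ^ j.val)
      rw [zpw_sub c hc]
      symm
      calc w * c ^ i.val * (w * c ^ j.val) = w * (c ^ i.val * w) * c ^ j.val := by group
        _ = w * (w * (c ^ i.val)⁻¹) * c ^ j.val := by rw [pow_mul_of_conj c w hconj]
        _ = (w * w) * ((c ^ i.val)⁻¹ * c ^ j.val) := by group
        _ = c ^ j.val * (c ^ i.val)⁻¹ := by rw [hsq, one_mul, inv_pow_comm_pow])

theorem dihHom_r (k : ℕ) [NeZero k] (c w : G) (hc : c ^ k = 1) (hsq : w * w = 1)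
    (hconj : w * c * w⁻¹ = c⁻¹) (i : ZMod k) :
    dihHom k c w hc hsq hconj (DihedralGroup.r i) = c ^ i.val := rfl

theorem dihHom_sr (k : ℕ) [NeZero k] (c w : G) (hc : c ^ k = 1) (hsq : w * w = 1)
    (hconj : w * c * w⁻¹ = c⁻¹) (i : ZMod k) :
    dihHom k c w hc hsq hconj (DihedralGroup.sr i) = w * c ^ i.val := rfl

theorem dihHom_injective (k : ℕ) [NeZero k] (c w : G) (hc : c ^ k = 1) (hsq : w * w = 1)
    (hconj : w * c * w⁻¹ = c⁻¹) (ho : orderOf c = k)
    (hw : w ∉ Subgroup.zpowers c) : Function.Injective (dihHom k c w hc hsq hconj) := by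
  rw [injective_iff_map_eq_one]
  rintro (i | i) hq
  · rw [dihHom_r] at hq
    have h1 : orderOf c ∣ i.val := orderOf_dvd_of_pow_eq_one hq
    rw [ho] at h1
    have h2 : i.val < k := ZMod.val_lt i
    have h3 : i.val = 0 := Nat.eq_zero_of_dvd_of_lt h1 h2
    have h4 : i = 0 := by
      rw [← ZMod.natCast_zmod_val i, h3, Nat.cast_zero]
    rw [h4]; rfl
  · rw [dihHom_sr] at hq
    exfalso
    apply hw
    have : w = (c ^ i.val)⁻¹ := eq_inv_of_mul_eq_one_left hq
    rw [this]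
    exact Subgroup.inv_mem _ (Subgroup.pow_mem _ (Subgroup.mem_zpowers c) _)

theorem dihHom_range (k : ℕ) [NeZero k] (c w : G) (hc : c ^ k = 1) (hsq : w * w = 1)
    (hconj : w * c * w⁻¹ = c⁻¹) (hk : k ≠ 1) :
    (dihHom k c w hc hsq hconj).range = Subgroup.closure {c, w} := by
  apply le_antisymm
  · rintro _ ⟨q, rfl⟩
    have hcm : c ∈ Subgroup.closure ({c, w} : Set G) :=
      Subgroup.subset_closure (Set.mem_insert _ _)
    have hwm : w ∈ Subgroup.closure ({c, w} : Set G) :=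
      Subgroup.subset_closure (Set.mem_insert_of_mem _ rfl)
    rcases q with i | i
    · rw [dihHom_r]; exact Subgroup.pow_mem _ hcm _
    · rw [dihHom_sr]; exact Subgroup.mul_mem _ hwm (Subgroup.pow_mem _ hcm _)
  · rw [Subgroup.closure_le]
    rintro v (rfl | hv)
    · refine ⟨DihedralGroup.r 1, ?_⟩
      rw [dihHom_r, ZMod.val_one'' hk, pow_one]
    · rw [Set.mem_singleton_iff] at hv
      subst hv
      refine ⟨DihedralGroup.sr 0, ?_⟩
      rw [dihHom_sr, ZMod.val_zero, pow_zero, mul_one]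

/-- two embeddings of a model group with the same range give an automorphism of the range -/
theorem exists_aut_of_two_embeddings {M : Type*} [Group M] (f₁ f₂ : M →* G)
    (h₁ : Function.Injective f₁) (h₂ : Function.Injective f₂) (E : Subgroup G)
    (hr₁ : f₁.range = E) (hr₂ : f₂.range = E) :
    ∃ α : MulAut ↥E, ∀ q : M, ∀ u : ↥E, (u : G) = f₁ q → ((α u : ↥E) : G) = f₂ q := by
  subst hr₁
  let e₁ : M ≃* ↥f₁.range := MonoidHom.ofInjective h₁
  let e₂ : M ≃* ↥f₁.range := (MonoidHom.ofInjective h₂).trans (MulEquiv.subgroupCongr hr₂)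
  refine ⟨e₁.symm.trans e₂, ?_⟩
  intro q u hu
  have h1 : u = e₁ q := Subtype.ext hu
  rw [h1]
  show ((e₂ (e₁.symm (e₁ q)) : ↥f₁.range) : G) = f₂ q
  rw [MulEquiv.symm_apply_apply]
  rfl

end generic


section mc

open Cfsg Cfsg.Agent.Lib.Helper84.DSQW Cfsg.Agent.Lib.Helper84.DSQW.MC Cfsg.Agent.Lib.Helper20.QD

variable {X : Type*} [Group X] {x y : X} {n η δ : ℕ}

theorem z_ne_one (h : MC x y n η δ) : x ^ 2 ^ (n - 1) ≠ 1 := by
  rw [← pw_hf h, Ne, pw_eq_one_iff h]
  exact hf_ne_zero (one_le_n h)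

theorem z_mul_z (h : MC x y n η δ) : x ^ 2 ^ (n - 1) * x ^ 2 ^ (n - 1) = 1 := by
  rw [← pw_hf h, ← pw_add h, hf_add_hf h, pw_zero h]

theorem z_mem (_h : MC x y n η δ) : x ^ 2 ^ (n - 1) ∈ Subgroup.zpowers x :=
  Subgroup.pow_mem _ (Subgroup.mem_zpowers x) _

theorem c_mem (_h : MC x y n η δ) : x ^ 2 ^ (n - 2) ∈ Subgroup.zpowers x :=
  Subgroup.pow_mem _ (Subgroup.mem_zpowers x) _

theorem c_mul_c (h : MC x y n η δ) : x ^ 2 ^ (n - 2) * x ^ 2 ^ (n - 2) = x ^ 2 ^ (n - 1) := by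
  rw [← pw_qt h, ← pw_hf h, ← pw_add h]
  congr 1
  have := two_mul_qt h.hn
  linear_combination this

/-- an element `w` with `w * w = 1`, `w ≠ 1`: the powers of `w` -/
theorem mem_zpowers_of_sq_eq_one {G : Type*} [Group G] (w u : G) (hw2 : w * w = 1)
    (hu : u ∈ Subgroup.zpowers w) : u = 1 ∨ u = w := by
  obtain ⟨k, rfl⟩ := Subgroup.mem_zpowers_iff.mp hu
  rcases Int.even_or_odd' k with ⟨j, rfl | rfl⟩
  · left
    rw [zpow_mul, zpow_two, hw2, one_zpow]
  · right
    rw [zpow_add, zpow_mul, zpow_two, hw2, one_zpow, one_mul, zpow_one]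

end mc

end Cfsg.Agent.Lib.Helper42.DSQWTrans

namespace Cfsg.Agent.Lib.Helper84.DSQW

open Cfsg Cfsg.FusionSystem Cfsg.Agent.Lib.Helper20.QD Cfsg.Agent.Lib.Helper42.DSQWTrans

variable {X : Type*} [Group X] {x y : X} {n η δ : ℕ}

namespace MC

theorem exists_aut_four (h : MC x y n η δ) (w : X) (hw : w ∉ Subgroup.zpowers x) (hw2 : w * w = 1) :
    ∃ α : MulAut ↥(Subgroup.closure {x ^ 2 ^ (n - 1), w}),
      ∀ u : ↥(Subgroup.closure {x ^ 2 ^ (n - 1), w}), (u : X) = w →
        ((α u : _) : X) = x ^ 2 ^ (n - 1) := by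
  set z : X := x ^ 2 ^ (n - 1) with hz
  have hzz : z * z = 1 := z_mul_z h
  have hz1 : z ≠ 1 := z_ne_one h
  have hw1 : w ≠ 1 := fun h1 => hw (h1 ▸ Subgroup.one_mem _)
  have hcomm : w * z = z * w := by
    rw [hz, ← pw_hf h]; exact z_central h w
  have hzinv : z⁻¹ = z := inv_eq_of_mul_eq_one_right hzz
  have hwinv : w⁻¹ = w := inv_eq_of_mul_eq_one_right hw2
  have hconj₁ : w * z * w⁻¹ = z⁻¹ := by
    rw [hcomm, mul_assoc, mul_inv_cancel, mul_one, hzinv]
  have hconj₂ : z * w * z⁻¹ = w⁻¹ := by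
    rw [← hcomm, mul_assoc, mul_inv_cancel, mul_one, hwinv]
  have hz2 : z ^ 2 = 1 := by rw [pow_two]; exact hzz
  have hw2' : w ^ 2 = 1 := by rw [pow_two]; exact hw2
  have hoz : orderOf z = 2 := orderOf_eq_prime hz2 hz1
  have how : orderOf w = 2 := orderOf_eq_prime hw2' hw1
  have hwz : w ∉ Subgroup.zpowers z := by
    intro hm
    rcases mem_zpowers_of_sq_eq_one z w hzz hm with h1 | h1
    · exact hw1 h1
    · exact hw (h1 ▸ z_mem h)
  have hzw : z ∉ Subgroup.zpowers w := by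
    intro hm
    rcases mem_zpowers_of_sq_eq_one w z hw2 hm with h1 | h1
    · exact hz1 h1
    · exact hw (h1 ▸ z_mem h)
  have hpair : ({w, z} : Set X) = {z, w} := Set.pair_comm w z
  obtain ⟨α, hα⟩ := exists_aut_of_two_embeddings
    (dihHom 2 z w hz2 hw2 hconj₁) (dihHom 2 w z hw2' hzz hconj₂)
    (dihHom_injective 2 z w hz2 hw2 hconj₁ hoz hwz)
    (dihHom_injective 2 w z hw2' hzz hconj₂ how hzw)
    (Subgroup.closure {z, w})
    (dihHom_range 2 z w hz2 hw2 hconj₁ (by norm_num))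
    (by rw [dihHom_range 2 w z hw2' hzz hconj₂ (by norm_num), hpair])
  refine ⟨α, ?_⟩
  intro u hu
  have := hα (DihedralGroup.sr 0) u (by
    rw [dihHom_sr, ZMod.val_zero, pow_zero, mul_one]; exact hu)
  rw [this, dihHom_sr, ZMod.val_zero, pow_zero, mul_one]

theorem exists_aut_quat (h : MC x y n η δ) (hn : 3 ≤ n) (w : X) (hw : w ∉ Subgroup.zpowers x)
    (hw2 : w * w = x ^ 2 ^ (n - 1)) :
    ∃ α : MulAut ↥(Subgroup.closure {x ^ 2 ^ (n - 2), w}),
      ∀ u : ↥(Subgroup.closure {x ^ 2 ^ (n - 2), w}), (u : X) = w →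
        ((α u : _) : X) = x ^ 2 ^ (n - 2) := by
  set z : X := x ^ 2 ^ (n - 1) with hz
  set c : X := x ^ 2 ^ (n - 2) with hc
  have hzz : z * z = 1 := z_mul_z h
  have hz1 : z ≠ 1 := z_ne_one h
  have hcc : c * c = z := c_mul_c h
  have hc2 : c ^ 2 = z := by rw [pow_two]; exact hcc
  have hw2' : w ^ 2 = z := by rw [pow_two]; exact hw2
  have hc4 : c ^ (2 * 2) = 1 := by rw [pow_mul, hc2, pow_two]; exact hzz
  have hw4 : w ^ (2 * 2) = 1 := by rw [pow_mul, hw2', pow_two]; exact hzz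
  have hconj₁ : w * c * w⁻¹ = c⁻¹ := by
    obtain ⟨i, rfl⟩ := (not_mem_iff h w).1 hw
    rw [hc, ← pw_qt h, conj_pwy_pw h, ← pw_neg h]
    congr 1
    rcases eta_cases h with rfl | rfl
    · unfold ee; simp
    · have h3 := hf_mul_qt hn
      unfold ee
      simp only [Nat.cast_one, one_mul]
      linear_combination h3
  have hcw : c * w = w * c⁻¹ := by
    have := pow_mul_of_conj c w hconj₁ 1
    rwa [pow_one] at this
  have hconj₂ : c * w * c⁻¹ = w⁻¹ := by
    have h1 : c⁻¹ * c⁻¹ = z := by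
      rw [← mul_inv_rev, hcc]; exact inv_eq_of_mul_eq_one_right hzz
    have h2 : w * z = w⁻¹ := by
      rw [eq_inv_iff_mul_eq_one]
      calc w * z * w = w * (w * w) * w := by rw [hw2]
        _ = (w * w) * (w * w) := by group
        _ = 1 := by rw [hw2]; exact hzz
    rw [hcw, mul_assoc, h1, h2]
  have hoc : orderOf c = 2 * 2 := by
    have := orderOf_eq_prime_pow (x := c) (p := 2) (n := 1) (by rw [pow_one, hc2]; exact hz1)
      (by norm_num; exact hc4)
    simpa using this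
  have how : orderOf w = 2 * 2 := by
    have := orderOf_eq_prime_pow (x := w) (p := 2) (n := 1) (by rw [pow_one, hw2']; exact hz1)
      (by norm_num; exact hw4)
    simpa using this
  have hccinv : c ≠ c⁻¹ := by
    intro hh
    apply hz1
    rw [← hcc]
    nth_rewrite 2 [hh]
    exact mul_inv_cancel c
  have hwc : w ∉ Subgroup.zpowers c := fun hm =>
    hw (Subgroup.zpowers_le.mpr (c_mem h) hm)
  have hcw' : c ∉ Subgroup.zpowers w := by
    intro hm
    obtain ⟨k, hk⟩ := Subgroup.mem_zpowers_iff.mp hm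
    have hcomm : w * c = c * w := by
      rw [← hk, ← zpow_one_add, ← zpow_add_one, add_comm]
    apply hccinv
    rw [← hconj₁, hcomm, mul_assoc, mul_inv_cancel, mul_one]
  have hpair : ({w, c} : Set X) = {c, w} := Set.pair_comm w c
  obtain ⟨α, hα⟩ := exists_aut_of_two_embeddings
    (quatHom 2 c w hc4 (by rw [hw2, hc2]) hconj₁)
    (quatHom 2 w c hw4 (by rw [hcc, hw2']) hconj₂)
    (quatHom_injective 2 c w hc4 (by rw [hw2, hc2]) hconj₁ hoc hwc)
    (quatHom_injective 2 w c hw4 (by rw [hcc, hw2']) hconj₂ how hcw')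
    (Subgroup.closure {c, w})
    (quatHom_range 2 c w hc4 (by rw [hw2, hc2]) hconj₁ (by norm_num))
    (by rw [quatHom_range 2 w c hw4 (by rw [hcc, hw2']) hconj₂ (by norm_num), hpair])
  refine ⟨α, ?_⟩
  intro u hu
  have := hα (QuaternionGroup.xa 0) u (by
    rw [quatHom_xa, ZMod.val_zero, pow_zero, mul_one]; exact hu)
  rw [this, quatHom_xa, ZMod.val_zero, pow_zero, mul_one]

end MC

end Cfsg.Agent.Lib.Helper84.DSQW
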