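import Mathlib
import Cfsg.Agent.Lib.Helper42.PPrimeMain
import Cfsg.Agent.Lib.Helper11.DicksonFull

set_option autoImplicit false

/-!
# Maximal subgroups of `PSL₂(𝔽_p)` over the prime field: a trichotomy (helper42)

For `M ≤ PSL₂(F)`, `|F| = p ≥ 5` prime: `M = ⊤`, or `p ∤ |M|`, or all commutators of `M` have
order dividing `p`.
-/

namespace Cfsg.Agent.Lib.Helper42

open Cfsg.Agent.Lib.Helper41 Cfsg.Agent.Lib.Helper11

section SLpart

variable {F : Type*} [Field F]

local notation "SL2" => Matrix.SpecialLinearGroup (Fin 2) F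
local notation "PSL2" => Matrix.ProjectiveSpecialLinearGroup (Fin 2) F

theorem tr2_comm_of_borel {a b : SL2} (ha : a ∈ borelSub F) (hb : b ∈ borelSub F) :
    tr2 (a * b * a⁻¹ * b⁻¹) = 2 := by
  have ha0 : (a : Matrix (Fin 2) (Fin 2) F) 1 0 = 0 := ha
  have hb0 : (b : Matrix (Fin 2) (Fin 2) F) 1 0 = 0 := hb
  have hda := sl2_det a
  have hdb := sl2_det b
  rw [ha0] at hda
  rw [hb0] at hdb
  unfold tr2
  simp only [mul_apply_00, mul_apply_01, mul_apply_10, mul_apply_11, inv_apply_00, inv_apply_01,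
    inv_apply_10, inv_apply_11, ha0, hb0]
  linear_combination (2 * (b : Matrix (Fin 2) (Fin 2) F) 0 0 * (b : Matrix (Fin 2) (Fin 2) F) 1 1) * hda
    + 2 * hdb

/-- trichotomy for finite subgroups of `SL₂(F)`, `char F = p ≥ 5` -/
theorem sl2_trichotomy (p : ℕ) [Fact p.Prime] [CharP F p] (hp5 : 5 ≤ p)
    (M : Subgroup SL2) [Finite M] :
    HasPrimeSL2 p M ∨ (∀ g ∈ M, tr2 g = 2 → g = 1) ∨
      (∀ a ∈ M, ∀ b ∈ M, tr2 (a * b * a⁻¹ * b⁻¹) = 2) := by
  by_cases h : ∀ g ∈ M, tr2 g = 2 → g = 1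
  · exact Or.inr (Or.inl h)
  push Not at h
  obtain ⟨x, hxM, hx2, hx1⟩ := h
  obtain ⟨w, hw⟩ := exists_conj_mem_uniSub_of_tr2 x hx2
  by_cases hB : ∀ y ∈ M, w * y * w⁻¹ ∈ borelSub F
  · right; right
    intro a ha b hb
    have e : w * (a * b * a⁻¹ * b⁻¹) * w⁻¹
        = (w * a * w⁻¹) * (w * b * w⁻¹) * (w * a * w⁻¹)⁻¹ * (w * b * w⁻¹)⁻¹ := by group
    rw [← tr2_conj w, e]
    exact tr2_comm_of_borel (hB a ha) (hB b hb)
  · left
    push Not at hB
    obtain ⟨y, hyM, hy⟩ := hB
    apply hasPrimeSL2_of_conj p M w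
    have := finite_map_conj M w
    have hx1' : w * x * w⁻¹ ≠ 1 := by
      intro h
      apply hx1
      calc x = w⁻¹ * (w * x * w⁻¹) * w := by group
        _ = 1 := by rw [h]; group
    exact hasPrimeSL2_of_half_normalized p hp5 _ (w * x * w⁻¹) (conj_mem_map_conj M w x hxM) hw hx1'
      (w * y * w⁻¹) (conj_mem_map_conj M w y hyM) hy

end SLpart

section PSLpart

variable {F : Type*} [Field F] [Fintype F]

local notation "SL2" => Matrix.SpecialLinearGroup (Fin 2) F
local notation "PSL2" => Matrix.ProjectiveSpecialLinearGroup (Fin 2) F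

theorem card_SL2_zmod (p : ℕ) [Fact p.Prime] (hF : Fintype.card F = p) :
    Nat.card (Matrix.SpecialLinearGroup (Fin 2) (ZMod p)) = Nat.card SL2 := by
  rw [Cfsg.Agent.Lib.Helper5.card_SL2, Cfsg.Agent.Lib.Helper5.card_SL2, ZMod.card, hF]

/-- **prime-field trichotomy**: a subgroup of `PSL₂(𝔽_p)`, `p ≥ 5`, is everything, or a `p'`-group,
or all its commutators have order dividing `p`. -/
theorem psl2_prime_trichotomy (p : ℕ) [Fact p.Prime] (hF : Fintype.card F = p) (hp5 : 5 ≤ p)
    (M : Subgroup (Matrix.ProjectiveSpecialLinearGroup (Fin 2) F)) :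
    M = ⊤ ∨ ¬ p ∣ Nat.card M ∨ (∀ a ∈ M, ∀ b ∈ M, (a * b * a⁻¹ * b⁻¹) ^ p = 1) := by
  have : CharP F p := charP_of_card_eq_prime hF
  have hpp : p.Prime := Fact.out
  rcases sl2_trichotomy p hp5 (M.comap (prj (F := F))) with h | h | h
  · left
    obtain ⟨K, hK, ⟨e⟩⟩ := h
    have hKtop : K = ⊤ := by
      apply Subgroup.eq_top_of_card_eq
      rw [Nat.card_congr e.toEquiv, card_SL2_zmod p hF]
    rw [hKtop] at hK
    rw [eq_top_iff]
    intro g _
    obtain ⟨y, rfl⟩ := prj_surjective g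
    exact hK (Subgroup.mem_top y)
  · right; left
    intro hdvd
    obtain ⟨x, hx⟩ := exists_prime_orderOf_dvd_card' (G := M) p hdvd
    obtain ⟨y, hy⟩ := prj_surjective (x : PSL2)
    have hyM : y ∈ M.comap (prj (F := F)) := by
      rw [Subgroup.mem_comap, hy]; exact x.2
    have hox : orderOf (x : PSL2) = p := by rw [Subgroup.orderOf_coe]; exact hx
    have hdvd2 : p ∣ orderOf y := by
      have := orderOf_map_dvd (prj (F := F)) y
      rwa [hy, hox] at this
    have hpos : 0 < orderOf y := orderOf_pos y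
    obtain ⟨m, hm⟩ := hdvd2
    have hm0 : 0 < m := by
      rcases Nat.eq_zero_or_pos m with h0 | h0
      · rw [h0, mul_zero] at hm; omega
      · exact h0
    have hz : (y ^ m) ^ p = 1 := by
      rw [← pow_mul, mul_comm, ← hm, pow_orderOf_eq_one]
    have htr : tr2 (y ^ m) = 2 := tr2_eq_two_of_pow p (y ^ m) 1 (by rwa [pow_one])
    have hzM : y ^ m ∈ M.comap (prj (F := F)) := Subgroup.pow_mem _ hyM m
    have := h _ hzM htr
    have hdm : orderOf y ∣ m := orderOf_dvd_of_pow_eq_one this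
    have := Nat.le_of_dvd hm0 hdm
    have h2 : 2 ≤ p := hpp.two_le
    nlinarith
  · right; right
    intro a ha b hb
    obtain ⟨a', rfl⟩ := prj_surjective a
    obtain ⟨b', rfl⟩ := prj_surjective b
    have := h a' ha b' hb
    have h1 := pow_char_eq_one_of_tr2 p _ this
    have := congrArg (prj (F := F)) h1
    simpa using this

end PSLpart

section Abstract

/-- squares commute in a dihedral group -/
theorem dihedral_sq_comm (k : ℕ) (x y : DihedralGroup k) : x ^ 2 * y ^ 2 = y ^ 2 * x ^ 2 := by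
  have hsq : ∀ z : DihedralGroup k, ∃ i, z ^ 2 = DihedralGroup.r i := by
    intro z
    cases z with
    | r i => exact ⟨i + i, by rw [pow_two, DihedralGroup.r_mul_r]⟩
    | sr i => exact ⟨0, by rw [pow_two, DihedralGroup.sr_mul_sr, sub_self]⟩
  obtain ⟨i, hi⟩ := hsq x
  obtain ⟨j, hj⟩ := hsq y
  rw [hi, hj, DihedralGroup.r_mul_r, DihedralGroup.r_mul_r, add_comm]

/-- a group that is visibly neither abelian, dihedral, nor metabelian with `p`-torsion commutators:
it has two non-commuting squares and a commutator of order `2` -/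
def NonDih (K : Type*) [Group K] : Prop :=
  (∃ x y : K, x ^ 2 * y ^ 2 ≠ y ^ 2 * x ^ 2) ∧
    (∃ a b : K, a * b * a⁻¹ * b⁻¹ ≠ 1 ∧ (a * b * a⁻¹ * b⁻¹) ^ 2 = 1)

theorem NonDih.of_equiv {K K' : Type*} [Group K] [Group K'] (e : K ≃* K') (h : NonDih K') :
    NonDih K := by
  obtain ⟨⟨x, y, hxy⟩, ⟨a, b, hab1, hab2⟩⟩ := h
  refine ⟨⟨e.symm x, e.symm y, ?_⟩, ⟨e.symm a, e.symm b, ?_, ?_⟩⟩
  · intro hh
    apply hxy
    have := congrArg e hh
    simpa using this
  · intro hh
    apply hab1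
    have := congrArg e hh
    simpa using this
  · apply e.injective
    simpa using hab2

theorem nonDih_perm_four : NonDih (Equiv.Perm (Fin 4)) := by
  refine ⟨⟨c[0, 1, 2], c[0, 1, 3], by decide⟩, ⟨c[0, 1, 2], c[0, 1, 3], by decide, by decide⟩⟩

theorem nonDih_alt_four : NonDih (alternatingGroup (Fin 4)) := by
  have h1 : (c[0, 1, 2] : Equiv.Perm (Fin 4)) ∈ alternatingGroup (Fin 4) := by
    rw [Equiv.Perm.mem_alternatingGroup]; decide
  have h2 : (c[0, 1, 3] : Equiv.Perm (Fin 4)) ∈ alternatingGroup (Fin 4) := by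
    rw [Equiv.Perm.mem_alternatingGroup]; decide
  refine ⟨⟨⟨_, h1⟩, ⟨_, h2⟩, ?_⟩, ⟨⟨_, h1⟩, ⟨_, h2⟩, ?_, ?_⟩⟩
  · intro hh
    have := congrArg (Subtype.val) hh
    revert this
    simp only [Subgroup.coe_mul, Subgroup.coe_pow]
    decide
  · intro hh
    have := congrArg (Subtype.val) hh
    revert this
    simp only [Subgroup.coe_mul, Subgroup.coe_inv, Subgroup.coe_one]
    decide
  · apply Subtype.ext
    simp only [Subgroup.coe_mul, Subgroup.coe_inv, Subgroup.coe_one, Subgroup.coe_pow]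
    decide

end Abstract

section Assembly

variable {F : Type*} [Field F] [Fintype F]

local notation "PSL2" => Matrix.ProjectiveSpecialLinearGroup (Fin 2) F

theorem eq_one_of_pow_two_of_pow_odd {G : Type*} [Group G] {c : G} {p : ℕ} (hp : p % 2 = 1)
    (h2 : c ^ 2 = 1) (hpw : c ^ p = 1) : c = 1 := by
  have e : p = 2 * (p / 2) + 1 := by omega
  rw [e, pow_succ, pow_mul, h2, one_pow, one_mul] at hpw
  exact hpw

/-- a proper overgroup of a `NonDih` subgroup `H` of `PSL₂(𝔽_p)` which is not everything is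
isomorphic to `A₄`, `S₄` or `A₅` and has order prime to `p` -/
theorem overgroup_cases (p : ℕ) [Fact p.Prime] (hF : Fintype.card F = p) (hp5 : 5 ≤ p)
    (H M : Subgroup (Matrix.ProjectiveSpecialLinearGroup (Fin 2) F)) (hnd : NonDih H)
    (hHM : H ≤ M) (hM : M ≠ ⊤) :
    ¬ p ∣ Nat.card M ∧ (Nonempty (M ≃* alternatingGroup (Fin 4)) ∨
      Nonempty (M ≃* Equiv.Perm (Fin 4)) ∨ Nonempty (M ≃* alternatingGroup (Fin 5))) := by
  have hpp : p.Prime := Fact.out
  have : CharP F p := charP_of_card_eq_prime hF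
  obtain ⟨⟨x, y, hxy⟩, ⟨a, b, hab1, hab2⟩⟩ := hnd
  rcases psl2_prime_trichotomy p hF hp5 M with h | h | h
  · exact absurd h hM
  · refine ⟨h, ?_⟩
    have key : (∀ u v : M, u ^ 2 * v ^ 2 = v ^ 2 * u ^ 2) → False := by
      intro hc
      apply hxy
      have := hc ⟨x, hHM x.2⟩ ⟨y, hHM y.2⟩
      have := congrArg (Subtype.val) this
      apply Subtype.ext
      simpa using this
    rcases pprime_dickson p h with ⟨k, _, (⟨hcyc, _⟩ | ⟨⟨e⟩⟩)⟩ | h4 | h4 | h5
    · exfalso
      apply key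
      intro u v
      have := hcyc
      exact (Std.Commutative.comm (op := ((· * ·) : M → M → M)) (u ^ 2) (v ^ 2))
    · exfalso
      apply key
      intro u v
      apply e.injective
      simp only [map_mul, map_pow]
      exact dihedral_sq_comm k _ _
    · exact Or.inl h4
    · exact Or.inr (Or.inl h4)
    · exact Or.inr (Or.inr h5)
  · exfalso
    apply hab1
    have hodd : p % 2 = 1 := by
      rcases hpp.eq_two_or_odd with h2 | h2
      · omega
      · exact h2
    have h1 := h a (hHM a.2) b (hHM b.2)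
    have h2 : ((a : PSL2) * b * (a : PSL2)⁻¹ * (b : PSL2)⁻¹) ^ 2 = 1 := by
      have := congrArg (Subtype.val) hab2
      simpa using this
    have := eq_one_of_pow_two_of_pow_odd hodd h2 h1
    apply Subtype.ext
    simpa using this

end Assembly

section Final

variable {F : Type*} [Field F] [Fintype F]

local notation "SL2" => Matrix.SpecialLinearGroup (Fin 2) F
local notation "PSL2" => Matrix.ProjectiveSpecialLinearGroup (Fin 2) F

theorem natCard_alt_four : Nat.card (alternatingGroup (Fin 4)) = 12 := by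
  rw [nat_card_alternatingGroup, Nat.card_eq_fintype_card, Fintype.card_fin]; rfl

theorem natCard_alt_five : Nat.card (alternatingGroup (Fin 5)) = 60 := by
  rw [nat_card_alternatingGroup, Nat.card_eq_fintype_card, Fintype.card_fin]; rfl

theorem natCard_perm_four : Nat.card (Equiv.Perm (Fin 4)) = 24 := by
  rw [Nat.card_eq_fintype_card, Fintype.card_perm, Fintype.card_fin]; rfl

theorem two_mul_card_PSL2_prime (p : ℕ) [Fact p.Prime] (hF : Fintype.card F = p) (hp5 : 5 ≤ p) :
    2 * Nat.card (Matrix.ProjectiveSpecialLinearGroup (Fin 2) F) = p * (p ^ 2 - 1) := by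
  have hpp : p.Prime := Fact.out
  have h := Cfsg.Agent.Lib.Helper5.card_PSL2_mul (F := F)
  rw [card_center_eq_gcd, hF] at h
  have hodd : p % 2 = 1 := by
    rcases hpp.eq_two_or_odd with h2 | h2
    · omega
    · exact h2
  have hg : Nat.gcd 2 (p - 1) = 2 := by
    apply Nat.gcd_eq_left
    rw [Nat.dvd_iff_mod_eq_zero]
    omega
  rw [hg] at h
  rw [← h]; ring

theorem card_PSL2_prime_ge (p : ℕ) [Fact p.Prime] (hF : Fintype.card F = p) (hp5 : 5 ≤ p) :
    60 ≤ Nat.card (Matrix.ProjectiveSpecialLinearGroup (Fin 2) F) := by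
  have h := two_mul_card_PSL2_prime p hF hp5
  have h1 : 24 ≤ p ^ 2 - 1 := by
    have : 25 ≤ p ^ 2 := by nlinarith
    omega
  have h2 : 5 * 24 ≤ p * (p ^ 2 - 1) := Nat.mul_le_mul hp5 h1
  omega

/-- a `NonDih` subgroup of `PSL₂(𝔽_p)`, `p ≥ 5`, of order less than `60`, all of whose proper
overgroups of shape `A₄, S₄, A₅` (of order prime to `p`) are excluded, is maximal. -/
theorem isCoatom_of_nonDih (p : ℕ) [Fact p.Prime] (hF : Fintype.card F = p) (hp5 : 5 ≤ p)
    (H : Subgroup (Matrix.ProjectiveSpecialLinearGroup (Fin 2) F)) (hnd : NonDih H)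
    (hcard : Nat.card H < 60)
    (hex : ∀ M : Subgroup (Matrix.ProjectiveSpecialLinearGroup (Fin 2) F), H < M →
      ¬ p ∣ Nat.card M → (Nonempty (M ≃* alternatingGroup (Fin 4)) ∨
      Nonempty (M ≃* Equiv.Perm (Fin 4)) ∨ Nonempty (M ≃* alternatingGroup (Fin 5))) → False) :
    IsCoatom H := by
  refine ⟨?_, fun M hHM => ?_⟩
  · intro htop
    have := card_PSL2_prime_ge p hF hp5
    rw [htop, Subgroup.card_top] at hcard
    omega
  · by_contra hM
    obtain ⟨h1, h2⟩ := overgroup_cases p hF hp5 H M hnd hHM.le hM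
    exact hex M hHM h1 h2

end Final

end Cfsg.Agent.Lib.Helper42
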