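import Mathlib
import Cfsg.Agent.Lib.Helper42.PrimeFieldMax
import Cfsg.Agent.Lib.Helper14.PSL2Borel
import Cfsg.Agent.S0799
import Cfsg.Agent.S0265

set_option autoImplicit false

/-!
# Maximality arguments in `PSL₂(q)` from Dickson's list (helper42)

Overgroups of a `NonDih` subgroup (non-commuting squares and an involution commutator) of
`PSL₂(F)`, `char F` odd, are `A₄`, `S₄`, `A₅`, `PSL₂(K)` or `PGL₂(K)`.
-/

namespace Cfsg.Agent.Lib.Helper42

open Cfsg.Agent.Lib.Helper41 Cfsg.Agent.Lib.Helper11 Cfsg.Agent.Lib.Helper14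

section Borel

variable {F : Type*} [Field F] [Fintype F]

local notation "SL2" => Matrix.SpecialLinearGroup (Fin 2) F
local notation "PSL2" => Matrix.ProjectiveSpecialLinearGroup (Fin 2) F

omit [Fintype F] in
theorem comm_pow_of_mem_borelBar (p : ℕ) [Fact p.Prime] [CharP F p]
    {a b : Matrix.ProjectiveSpecialLinearGroup (Fin 2) F} (ha : a ∈ borelBar F)
    (hb : b ∈ borelBar F) : (a * b * a⁻¹ * b⁻¹) ^ p = 1 := by
  obtain ⟨a', ha', rfl⟩ := ha
  obtain ⟨b', hb', rfl⟩ := hb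
  have h1 := pow_char_eq_one_of_tr2 p _ (tr2_comm_of_borel ha' hb')
  have := congrArg (QuotientGroup.mk' (Subgroup.center SL2)) h1
  simpa using this

/-- commutators in the normalizer of a Sylow `p`-subgroup of `PSL₂(F)` have order dividing `p` -/
theorem comm_pow_of_mem_normalizer_sylow (p : ℕ) [Fact p.Prime] [CharP F p]
    (P : Sylow p (Matrix.ProjectiveSpecialLinearGroup (Fin 2) F))
    {a b : Matrix.ProjectiveSpecialLinearGroup (Fin 2) F}
    (ha : a ∈ Subgroup.normalizer ((P : Subgroup PSL2) : Set PSL2))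
    (hb : b ∈ Subgroup.normalizer ((P : Subgroup PSL2) : Set PSL2)) :
    (a * b * a⁻¹ * b⁻¹) ^ p = 1 := by
  have hP : IsPGroup p (upperBar F) := isPGroup_upperBar p
  have hidx := not_dvd_index_upperBar (F := F) p
  set P0 : Sylow p PSL2 := hP.toSylow hidx with hP0
  have hP0coe : (P0 : Subgroup PSL2) = upperBar F := IsPGroup.toSylow_coe _ _
  obtain ⟨g, hg⟩ := MulAction.exists_smul_eq PSL2 P0 P
  have key : ∀ x : PSL2, x ∈ Subgroup.normalizer ((P : Subgroup PSL2) : Set PSL2) →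
      g⁻¹ * x * g ∈ borelBar F := by
    intro x hx
    rw [← normalizer_upperBar, ← hP0coe, Subgroup.mem_normalizer_iff]
    intro y
    have h1 := (Subgroup.mem_normalizer_iff.mp hx) (g * y * g⁻¹)
    have e1 : g * y * g⁻¹ ∈ (P : Subgroup PSL2) ↔ y ∈ (P0 : Subgroup PSL2) := by
      show g * y * g⁻¹ ∈ P ↔ y ∈ P0
      rw [← hg, mem_sylow_smul_iff]
      have : g⁻¹ * (g * y * g⁻¹) * g = y := by group
      rw [this]
    have e2 : x * (g * y * g⁻¹) * x⁻¹ ∈ (P : Subgroup PSL2) ↔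
        g⁻¹ * x * g * y * (g⁻¹ * x * g)⁻¹ ∈ (P0 : Subgroup PSL2) := by
      show x * (g * y * g⁻¹) * x⁻¹ ∈ P ↔ g⁻¹ * x * g * y * (g⁻¹ * x * g)⁻¹ ∈ P0
      rw [← hg, mem_sylow_smul_iff]
      have : g⁻¹ * (x * (g * y * g⁻¹) * x⁻¹) * g = g⁻¹ * x * g * y * (g⁻¹ * x * g)⁻¹ := by group
      rw [this]
    rw [← e1, ← e2]
    exact h1
  have h1 := comm_pow_of_mem_borelBar p (key a ha) (key b hb)
  have e : g⁻¹ * a * g * (g⁻¹ * b * g) * (g⁻¹ * a * g)⁻¹ * (g⁻¹ * b * g)⁻¹
      = g⁻¹ * (a * b * a⁻¹ * b⁻¹) * g := by group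
  rw [e] at h1
  have e2 : (g⁻¹ * (a * b * a⁻¹ * b⁻¹) * g) ^ p = g⁻¹ * (a * b * a⁻¹ * b⁻¹) ^ p * g := by
    have := conj_pow (a := g⁻¹) (b := a * b * a⁻¹ * b⁻¹) (i := p)
    rw [inv_inv] at this
    exact this
  rw [e2] at h1
  calc (a * b * a⁻¹ * b⁻¹) ^ p = g * (g⁻¹ * (a * b * a⁻¹ * b⁻¹) ^ p * g) * g⁻¹ := by group
    _ = 1 := by rw [h1]; group

end Borel

section General

theorem nonDih_alt_five : NonDih (alternatingGroup (Fin 5)) := by
  have h1 : (c[0, 1, 2] : Equiv.Perm (Fin 5)) ∈ alternatingGroup (Fin 5) := by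
    rw [Equiv.Perm.mem_alternatingGroup]; decide
  have h2 : (c[0, 1, 3] : Equiv.Perm (Fin 5)) ∈ alternatingGroup (Fin 5) := by
    rw [Equiv.Perm.mem_alternatingGroup]; decide
  refine ⟨⟨⟨_, h1⟩, ⟨_, h2⟩, ?_⟩, ⟨⟨_, h1⟩, ⟨_, h2⟩, ?_, ?_⟩⟩
  · intro hh
    have := congrArg (Subtype.val) hh
    revert this
    simp only [Subgroup.coe_mul, Subgroup.coe_pow]
    decide
  · intro hh
    have := congrArg (Subtype.val) hh
    revert this
    simp only [Subgroup.coe_mul, Subgroup.coe_inv, Subgroup.coe_one]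
    decide
  · apply Subtype.ext
    simp only [Subgroup.coe_mul, Subgroup.coe_inv, Subgroup.coe_one, Subgroup.coe_pow]
    decide

variable {F : Type*} [Field F] [Fintype F]

local notation "SL2" => Matrix.SpecialLinearGroup (Fin 2) F
local notation "PSL2" => Matrix.ProjectiveSpecialLinearGroup (Fin 2) F

theorem natCard_PGL2 : Nat.card (Matrix.ProjGenLinGroup (Fin 2) F)
    = Fintype.card F * (Fintype.card F ^ 2 - 1) := by
  rw [Cfsg.Agent.S0265.result, Cfsg.Agent.Lib.Helper5.card_SL2]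

theorem natCard_PSL2_mul : Nat.card (Matrix.ProjectiveSpecialLinearGroup (Fin 2) F)
    * Nat.gcd 2 (Fintype.card F - 1) = Fintype.card F * (Fintype.card F ^ 2 - 1) := by
  rw [← card_center_eq_gcd]
  exact Cfsg.Agent.Lib.Helper5.card_PSL2_mul

/-- **overgroups of a `NonDih` subgroup** of `PSL₂(F)`, odd characteristic, from Dickson's list -/
theorem overgroup_cases_dickson (p : ℕ) [Fact p.Prime] [CharP F p] (hp2 : p ≠ 2)
    (H M : Subgroup (Matrix.ProjectiveSpecialLinearGroup (Fin 2) F)) (hnd : NonDih H)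
    (hHM : H ≤ M) :
    Nonempty (M ≃* alternatingGroup (Fin 4)) ∨ Nonempty (M ≃* Equiv.Perm (Fin 4)) ∨
      Nonempty (M ≃* alternatingGroup (Fin 5)) ∨
      (∃ (K : Type) (_ : Field K) (_ : Fintype K) (m : ℕ), Fintype.card K ^ m = Fintype.card F ∧
        (Nonempty (M ≃* Matrix.ProjectiveSpecialLinearGroup (Fin 2) K) ∨
          Nonempty (M ≃* Matrix.ProjGenLinGroup (Fin 2) K))) := by
  have hpp : p.Prime := Fact.out
  obtain ⟨⟨x, y, hxy⟩, ⟨a, b, hab1, hab2⟩⟩ := hnd
  have key : (∀ u v : M, u ^ 2 * v ^ 2 = v ^ 2 * u ^ 2) → False := by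
    intro hc
    apply hxy
    have := hc ⟨x, hHM x.2⟩ ⟨y, hHM y.2⟩
    have := congrArg (Subtype.val) this
    apply Subtype.ext
    simpa using this
  rcases Cfsg.Agent.S0799.result (F := F) rfl p M with
    ⟨k, _, (⟨hcyc, _⟩ | ⟨⟨e⟩⟩)⟩ | ⟨P, K, hK, ⟨e⟩⟩ | h | h | h | h
  · exfalso
    apply key
    intro u v
    have := hcyc
    exact (Std.Commutative.comm (op := ((· * ·) : M → M → M)) (u ^ 2) (v ^ 2))
  · exfalso
    apply key
    intro u v
    apply e.injective
    simp only [map_mul, map_pow]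
    exact dihedral_sq_comm k _ _
  · exfalso
    apply hab1
    have hodd : p % 2 = 1 := by
      rcases hpp.eq_two_or_odd with h2 | h2
      · exact absurd h2 hp2
      · exact h2
    set a' : M := ⟨a, hHM a.2⟩ with ha'
    set b' : M := ⟨b, hHM b.2⟩ with hb'
    have h1 : (((e a' : K) : PSL2) * (e b' : K) * ((e a' : K) : PSL2)⁻¹ * ((e b' : K) : PSL2)⁻¹) ^ p
        = 1 := comm_pow_of_mem_normalizer_sylow p P (hK (e a').2) (hK (e b').2)
    have h2 : (a' * b' * a'⁻¹ * b'⁻¹) ^ p = 1 := by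
      apply e.injective
      apply Subtype.ext
      simpa using h1
    have h3 : (a' * b' * a'⁻¹ * b'⁻¹) ^ 2 = 1 := by
      have := congrArg (Subtype.val) hab2
      apply Subtype.ext
      simpa using this
    have := eq_one_of_pow_two_of_pow_odd hodd h3 h2
    have := congrArg (Subtype.val) this
    apply Subtype.ext
    simpa using this
  · exact Or.inl h
  · exact Or.inr (Or.inl h)
  · exact Or.inr (Or.inr (Or.inl h))
  · exact Or.inr (Or.inr (Or.inr h))

end General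

end Cfsg.Agent.Lib.Helper42
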