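import Mathlib

set_option autoImplicit false

namespace Cfsg.Agent.Lib.Helper42.G2Three

open Matrix Polynomial

section cyclic

variable {n : ℕ} {K : Type*} [Field K]

/-- A matrix commuting with `A` and killing a cyclic vector of `A` is zero. -/
theorem eq_zero_of_commute_of_cyclic (A Z : Matrix (Fin n) (Fin n) K) (v : Fin n → K)
    (W : Matrix (Fin n) (Fin n) K)
    (hW : (Matrix.of fun i j : Fin n => ((A ^ (j : ℕ)) *ᵥ v) i) * W = 1)
    (hc : Z * A = A * Z) (hv : Z *ᵥ v = 0) : Z = 0 := by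
  set V : Matrix (Fin n) (Fin n) K := Matrix.of fun i j : Fin n => ((A ^ (j : ℕ)) *ᵥ v) i with hV
  have hcomm : ∀ k : ℕ, Z * A ^ k = A ^ k * Z := by
    intro k
    exact ((Commute.pow_right (show Commute Z A from hc) k)).eq
  have hZV : Z * V = 0 := by
    ext i j
    have h1 : (Z * V) i j = (Z *ᵥ ((A ^ (j : ℕ)) *ᵥ v)) i := by
      simp only [Matrix.mul_apply, hV, Matrix.of_apply, Matrix.mulVec, dotProduct]
    rw [h1, Matrix.mulVec_mulVec, hcomm, ← Matrix.mulVec_mulVec, hv, Matrix.mulVec_zero]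
    rfl
  calc Z = Z * (V * W) := by rw [hW, mul_one]
    _ = (Z * V) * W := by rw [mul_assoc]
    _ = 0 := by rw [hZV, zero_mul]

/-- The commutant of a matrix with a cyclic vector consists of polynomials in it. -/
theorem exists_coeff_of_commute_of_cyclic (A Y : Matrix (Fin n) (Fin n) K) (v : Fin n → K)
    (W : Matrix (Fin n) (Fin n) K)
    (hW : (Matrix.of fun i j : Fin n => ((A ^ (j : ℕ)) *ᵥ v) i) * W = 1)
    (hc : Y * A = A * Y) : ∃ d : Fin n → K, Y = ∑ k : Fin n, d k • A ^ (k : ℕ) := by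
  set V : Matrix (Fin n) (Fin n) K := Matrix.of fun i j : Fin n => ((A ^ (j : ℕ)) *ᵥ v) i with hV
  refine ⟨W *ᵥ (Y *ᵥ v), ?_⟩
  set d := W *ᵥ (Y *ᵥ v) with hd
  have hVd : V *ᵥ d = Y *ᵥ v := by
    rw [hd, Matrix.mulVec_mulVec, hW, Matrix.one_mulVec]
  have hsum : (∑ k : Fin n, d k • A ^ (k : ℕ)) *ᵥ v = V *ᵥ d := by
    rw [Matrix.sum_mulVec]
    ext i
    rw [Finset.sum_apply]
    simp only [Matrix.smul_mulVec, Pi.smul_apply, smul_eq_mul]
    simp only [Matrix.mulVec, dotProduct, hV, Matrix.of_apply]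
    apply Finset.sum_congr rfl
    intro k _
    rw [mul_comm]
  have hZ := eq_zero_of_commute_of_cyclic A (Y - ∑ k : Fin n, d k • A ^ (k : ℕ)) v W hW ?_ ?_
  · exact sub_eq_zero.mp hZ
  · rw [sub_mul, mul_sub, hc, Finset.sum_mul, Finset.mul_sum]
    congr 1
    apply Finset.sum_congr rfl
    intro k _
    rw [smul_mul_assoc, mul_smul_comm, ← pow_succ, ← pow_succ']
  · rw [Matrix.sub_mulVec, hsum, hVd, sub_self]

/-- The commutant of a matrix with a cyclic vector consists of polynomials in it. -/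
theorem exists_poly_of_commute_of_cyclic (A Y : Matrix (Fin n) (Fin n) K) (v : Fin n → K)
    (W : Matrix (Fin n) (Fin n) K)
    (hW : (Matrix.of fun i j : Fin n => ((A ^ (j : ℕ)) *ᵥ v) i) * W = 1)
    (hc : Y * A = A * Y) : ∃ q : K[X], Y = aeval A q := by
  obtain ⟨d, hd⟩ := exists_coeff_of_commute_of_cyclic A Y v W hW hc
  refine ⟨∑ k : Fin n, C (d k) * X ^ (k : ℕ), ?_⟩
  rw [hd, map_sum]
  apply Finset.sum_congr rfl
  intro k _
  rw [map_mul, aeval_C, map_pow, aeval_X, Algebra.algebraMap_eq_smul_one, smul_mul_assoc, one_mul]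

end cyclic

section frob

variable (p : ℕ) [Fact p.Prime] {R : Type*} [Ring R] [Algebra (ZMod p) R]

/-- Frobenius on polynomial expressions with coefficients in the prime field. -/
theorem aeval_pow_char_pow (a : R) (q : (ZMod p)[X]) (m : ℕ) :
    (aeval a q) ^ (p ^ m) = aeval (a ^ (p ^ m)) q := by
  induction m with
  | zero => simp
  | succ m ih =>
    rw [pow_succ, pow_mul, ih, ← map_pow, ← ZMod.expand_card, Polynomial.expand_aeval, ← pow_mul]

/-- Frobenius on explicit polynomial expressions -/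
theorem sum_smul_pow_pow_char {ι : Type*} (s : Finset ι) (e : ι → ℕ) (d : ι → ZMod p) (a : R) :
    (∑ k ∈ s, d k • a ^ (e k)) ^ p = ∑ k ∈ s, d k • (a ^ p) ^ (e k) := by
  have key : ∀ b : R, aeval b (∑ k ∈ s, C (d k) * X ^ (e k) : (ZMod p)[X]) = ∑ k ∈ s, d k • b ^ (e k) := by
    intro b
    rw [map_sum]
    apply Finset.sum_congr rfl
    intro k _
    rw [map_mul, aeval_C, map_pow, aeval_X, Algebra.algebraMap_eq_smul_one, smul_mul_assoc, one_mul]
  have h := aeval_pow_char_pow p a (∑ k ∈ s, C (d k) * X ^ (e k) : (ZMod p)[X]) 1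
  rw [pow_one, key, key] at h
  exact h

theorem aeval_pow_char_pow_eq_self (a : R) (q : (ZMod p)[X]) (m : ℕ) (ha : a ^ (p ^ m) = a) :
    (aeval a q) ^ (p ^ m) = aeval a q := by
  rw [aeval_pow_char_pow, ha]

end frob

end Cfsg.Agent.Lib.Helper42.G2Three
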