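import Mathlib
import Cfsg.Prelude.Def_ChevG2

set_option autoImplicit false

/-!
# The seven-dimensional module of `G₂(3)` (helper42)

In characteristic three the short root vectors together with `h_a` (`a` the short fundamental root) span a
submodule of the adjoint module of `G₂`.  We record the action of the root elements on it, the invariant
alternating product on it, and the closure induction over the Chevalley group.
-/

namespace Cfsg.Agent.Lib.Helper42.G2Three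

open Cfsg.Lie Matrix

/-- the coordinates of the submodule: `h_a`, and the short root vectors -/
def iotaI : Fin 7 → chevG2.Idx :=
  ![Sum.inl (0 : Fin 2), Sum.inr (2 : Fin 12), Sum.inr (3 : Fin 12), Sum.inr (4 : Fin 12),
    Sum.inr (7 : Fin 12), Sum.inr (8 : Fin 12), Sum.inr (9 : Fin 12)]

/-- the other coordinates -/
def kappaI : Fin 7 → chevG2.Idx :=
  ![Sum.inl (1 : Fin 2), Sum.inr (0 : Fin 12), Sum.inr (1 : Fin 12), Sum.inr (5 : Fin 12),
    Sum.inr (6 : Fin 12), Sum.inr (10 : Fin 12), Sum.inr (11 : Fin 12)]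

theorem bijective_elim : Function.Bijective (Sum.elim iotaI kappaI) := by decide

/-- the coordinates, rearranged -/
noncomputable def eIK : Fin 7 ⊕ Fin 7 ≃ chevG2.Idx := Equiv.ofBijective (Sum.elim iotaI kappaI) bijective_elim

section blocks

variable {R : Type*} [CommRing R]

/-- the block of a matrix on the submodule -/
def rho (M : Matrix chevG2.Idx chevG2.Idx R) : Matrix (Fin 7) (Fin 7) R := M.submatrix iotaI iotaI

/-- the block of a matrix from the submodule to the complementary coordinates -/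
def low (M : Matrix chevG2.Idx chevG2.Idx R) : Matrix (Fin 7) (Fin 7) R := M.submatrix kappaI iotaI

theorem sum_split (f : chevG2.Idx → R) :
    ∑ k, f k = ∑ c : Fin 7, f (iotaI c) + ∑ c : Fin 7, f (kappaI c) := by
  rw [← Equiv.sum_comp eIK f, Fintype.sum_sum_type]
  rfl

theorem rho_mul (M N : Matrix chevG2.Idx chevG2.Idx R) (hN : low N = 0) :
    rho (M * N) = rho M * rho N := by
  ext a b
  simp only [rho, Matrix.submatrix_apply, Matrix.mul_apply]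
  rw [sum_split]
  have h0 : ∑ c : Fin 7, M (iotaI a) (kappaI c) * N (kappaI c) (iotaI b) = 0 := by
    apply Finset.sum_eq_zero
    intro c _
    have : N (kappaI c) (iotaI b) = 0 := by
      have := congrFun (congrFun hN c) b
      simpa [low] using this
    rw [this, mul_zero]
  rw [h0, add_zero]

theorem low_mul (M N : Matrix chevG2.Idx chevG2.Idx R) (hM : low M = 0) (hN : low N = 0) :
    low (M * N) = 0 := by
  ext a b
  simp only [low, Matrix.submatrix_apply, Matrix.mul_apply, Matrix.zero_apply]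
  rw [sum_split]
  have h0 : ∑ c : Fin 7, M (kappaI a) (kappaI c) * N (kappaI c) (iotaI b) = 0 := by
    apply Finset.sum_eq_zero
    intro c _
    have : N (kappaI c) (iotaI b) = 0 := by
      have := congrFun (congrFun hN c) b
      simpa [low] using this
    rw [this, mul_zero]
  have h1 : ∑ c : Fin 7, M (kappaI a) (iotaI c) * N (iotaI c) (iotaI b) = 0 := by
    apply Finset.sum_eq_zero
    intro c _
    have : M (kappaI a) (iotaI c) = 0 := by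
      have := congrFun (congrFun hM a) c
      simpa [low] using this
    rw [this, zero_mul]
  rw [h0, h1, add_zero]

end blocks

theorem rho_one : rho (1 : Matrix chevG2.Idx chevG2.Idx (ZMod 3)) = 1 := by decide +kernel

theorem low_one : low (1 : Matrix chevG2.Idx chevG2.Idx (ZMod 3)) = 0 := by decide +kernel

/-! ### The invariant product -/

/-- structure constants of the invariant product, component 0 -/
def Tm0 : Matrix (Fin 7) (Fin 7) (ZMod 3) := !![0, 0, 0, 0, 0, 0, 0; 0, 0, 0, 0, 0, 0, 2; 0, 0, 0, 0, 0, 1, 0; 0, 0, 0, 0, 1, 0, 0; 0, 0, 0, 2, 0, 0, 0; 0, 0, 2, 0, 0, 0, 0; 0, 1, 0, 0, 0, 0, 0]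

/-- structure constants of the invariant product, component 1 -/
def Tm1 : Matrix (Fin 7) (Fin 7) (ZMod 3) := !![0, 1, 0, 0, 0, 0, 0; 2, 0, 0, 0, 0, 0, 0; 0, 0, 0, 2, 0, 0, 0; 0, 0, 1, 0, 0, 0, 0; 0, 0, 0, 0, 0, 0, 0; 0, 0, 0, 0, 0, 0, 0; 0, 0, 0, 0, 0, 0, 0]

/-- structure constants of the invariant product, component 2 -/
def Tm2 : Matrix (Fin 7) (Fin 7) (ZMod 3) := !![0, 0, 2, 0, 0, 0, 0; 0, 0, 0, 0, 2, 0, 0; 1, 0, 0, 0, 0, 0, 0; 0, 0, 0, 0, 0, 0, 0; 0, 1, 0, 0, 0, 0, 0; 0, 0, 0, 0, 0, 0, 0; 0, 0, 0, 0, 0, 0, 0]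

/-- structure constants of the invariant product, component 3 -/
def Tm3 : Matrix (Fin 7) (Fin 7) (ZMod 3) := !![0, 0, 0, 2, 0, 0, 0; 0, 0, 0, 0, 0, 1, 0; 0, 0, 0, 0, 0, 0, 0; 1, 0, 0, 0, 0, 0, 0; 0, 0, 0, 0, 0, 0, 0; 0, 2, 0, 0, 0, 0, 0; 0, 0, 0, 0, 0, 0, 0]

/-- structure constants of the invariant product, component 4 -/
def Tm4 : Matrix (Fin 7) (Fin 7) (ZMod 3) := !![0, 0, 0, 0, 1, 0, 0; 0, 0, 0, 0, 0, 0, 0; 0, 0, 0, 0, 0, 0, 1; 0, 0, 0, 0, 0, 0, 0; 2, 0, 0, 0, 0, 0, 0; 0, 0, 0, 0, 0, 0, 0; 0, 0, 2, 0, 0, 0, 0]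

/-- structure constants of the invariant product, component 5 -/
def Tm5 : Matrix (Fin 7) (Fin 7) (ZMod 3) := !![0, 0, 0, 0, 0, 1, 0; 0, 0, 0, 0, 0, 0, 0; 0, 0, 0, 0, 0, 0, 0; 0, 0, 0, 0, 0, 0, 2; 0, 0, 0, 0, 0, 0, 0; 2, 0, 0, 0, 0, 0, 0; 0, 0, 0, 1, 0, 0, 0]

/-- structure constants of the invariant product, component 6 -/
def Tm6 : Matrix (Fin 7) (Fin 7) (ZMod 3) := !![0, 0, 0, 0, 0, 0, 2; 0, 0, 0, 0, 0, 0, 0; 0, 0, 0, 0, 0, 0, 0; 0, 0, 0, 0, 0, 0, 0; 0, 0, 0, 0, 0, 2, 0; 0, 0, 0, 0, 1, 0, 0; 1, 0, 0, 0, 0, 0, 0]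

/-- structure constants of the invariant product -/
def Tm : Fin 7 → Matrix (Fin 7) (Fin 7) (ZMod 3) := ![Tm0, Tm1, Tm2, Tm3, Tm4, Tm5, Tm6]

/-- the matrix `Y` preserves the product -/
def PresB (Y : Matrix (Fin 7) (Fin 7) (ZMod 3)) : Prop :=
  ∀ k : Fin 7, Yᵀ * Tm k * Y = ∑ c : Fin 7, Y k c • Tm c

instance decidablePredPresB : DecidablePred PresB := fun Y => by unfold PresB; infer_instance

theorem presB_one : PresB 1 := by decide +kernel

theorem PresB.mul {Y Z : Matrix (Fin 7) (Fin 7) (ZMod 3)} (hY : PresB Y) (hZ : PresB Z) :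
    PresB (Y * Z) := by
  intro k
  calc (Y * Z)ᵀ * Tm k * (Y * Z) = Zᵀ * (Yᵀ * Tm k * Y) * Z := by
        rw [Matrix.transpose_mul]; simp only [mul_assoc]
    _ = ∑ c : Fin 7, Y k c • (Zᵀ * Tm c * Z) := by
        rw [hY k, Finset.mul_sum, Finset.sum_mul]
        apply Finset.sum_congr rfl
        intro c _
        rw [mul_smul_comm, smul_mul_assoc]
    _ = ∑ c : Fin 7, ∑ d : Fin 7, (Y k c * Z c d) • Tm d := by
        apply Finset.sum_congr rfl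
        intro c _
        rw [hZ c, Finset.smul_sum]
        apply Finset.sum_congr rfl
        intro d _
        rw [smul_smul]
    _ = ∑ d : Fin 7, (Y * Z) k d • Tm d := by
        rw [Finset.sum_comm]
        apply Finset.sum_congr rfl
        intro d _
        rw [Matrix.mul_apply, Finset.sum_smul]

/-! ### The root elements -/

/-- the action of `x_0(1)` on the submodule -/
def R1_0 : Matrix (Fin 7) (Fin 7) (ZMod 3) := !![1, 0, 0, 0, 0, 0, 0; 0, 1, 0, 0, 0, 1, 0; 0, 0, 1, 0, 0, 0, 2; 0, 0, 0, 1, 0, 0, 0; 0, 0, 0, 0, 1, 0, 0; 0, 0, 0, 0, 0, 1, 0; 0, 0, 0, 0, 0, 0, 1]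

/-- the action of `x_1(1)` on the submodule -/
def R1_1 : Matrix (Fin 7) (Fin 7) (ZMod 3) := !![1, 0, 0, 0, 0, 0, 0; 0, 1, 0, 0, 1, 0, 0; 0, 0, 1, 0, 0, 0, 0; 0, 0, 0, 1, 0, 0, 2; 0, 0, 0, 0, 1, 0, 0; 0, 0, 0, 0, 0, 1, 0; 0, 0, 0, 0, 0, 0, 1]

/-- the action of `x_2(1)` on the submodule -/
def R1_2 : Matrix (Fin 7) (Fin 7) (ZMod 3) := !![1, 0, 0, 0, 0, 0, 1; 1, 1, 0, 0, 0, 0, 2; 0, 0, 1, 0, 1, 0, 0; 0, 0, 0, 1, 0, 2, 0; 0, 0, 0, 0, 1, 0, 0; 0, 0, 0, 0, 0, 1, 0; 0, 0, 0, 0, 0, 0, 1]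

/-- the action of `x_3(1)` on the submodule -/
def R1_3 : Matrix (Fin 7) (Fin 7) (ZMod 3) := !![1, 0, 0, 0, 0, 2, 0; 0, 1, 0, 1, 0, 0, 0; 2, 0, 1, 0, 0, 2, 0; 0, 0, 0, 1, 0, 0, 0; 0, 0, 0, 0, 1, 0, 2; 0, 0, 0, 0, 0, 1, 0; 0, 0, 0, 0, 0, 0, 1]

/-- the action of `x_4(1)` on the submodule -/
def R1_4 : Matrix (Fin 7) (Fin 7) (ZMod 3) := !![1, 0, 0, 0, 2, 0, 0; 0, 1, 2, 0, 0, 0, 0; 0, 0, 1, 0, 0, 0, 0; 2, 0, 0, 1, 2, 0, 0; 0, 0, 0, 0, 1, 0, 0; 0, 0, 0, 0, 0, 1, 1; 0, 0, 0, 0, 0, 0, 1]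

/-- the action of `x_5(1)` on the submodule -/
def R1_5 : Matrix (Fin 7) (Fin 7) (ZMod 3) := !![1, 0, 0, 0, 0, 0, 0; 0, 1, 0, 0, 0, 0, 0; 0, 0, 1, 2, 0, 0, 0; 0, 0, 0, 1, 0, 0, 0; 0, 0, 0, 0, 1, 1, 0; 0, 0, 0, 0, 0, 1, 0; 0, 0, 0, 0, 0, 0, 1]

/-- the action of `x_6(1)` on the submodule -/
def R1_6 : Matrix (Fin 7) (Fin 7) (ZMod 3) := !![1, 0, 0, 0, 0, 0, 0; 0, 1, 0, 0, 0, 0, 0; 0, 0, 1, 0, 0, 0, 0; 0, 0, 2, 1, 0, 0, 0; 0, 0, 0, 0, 1, 0, 0; 0, 0, 0, 0, 1, 1, 0; 0, 0, 0, 0, 0, 0, 1]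

/-- the action of `x_7(1)` on the submodule -/
def R1_7 : Matrix (Fin 7) (Fin 7) (ZMod 3) := !![1, 0, 0, 1, 0, 0, 0; 0, 1, 0, 0, 0, 0, 0; 0, 2, 1, 0, 0, 0, 0; 0, 0, 0, 1, 0, 0, 0; 1, 0, 0, 2, 1, 0, 0; 0, 0, 0, 0, 0, 1, 0; 0, 0, 0, 0, 0, 1, 1]

/-- the action of `x_8(1)` on the submodule -/
def R1_8 : Matrix (Fin 7) (Fin 7) (ZMod 3) := !![1, 0, 1, 0, 0, 0, 0; 0, 1, 0, 0, 0, 0, 0; 0, 0, 1, 0, 0, 0, 0; 0, 1, 0, 1, 0, 0, 0; 0, 0, 0, 0, 1, 0, 0; 1, 0, 2, 0, 0, 1, 0; 0, 0, 0, 0, 2, 0, 1]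

/-- the action of `x_9(1)` on the submodule -/
def R1_9 : Matrix (Fin 7) (Fin 7) (ZMod 3) := !![1, 2, 0, 0, 0, 0, 0; 0, 1, 0, 0, 0, 0, 0; 0, 0, 1, 0, 0, 0, 0; 0, 0, 0, 1, 0, 0, 0; 0, 0, 1, 0, 1, 0, 0; 0, 0, 0, 2, 0, 1, 0; 2, 2, 0, 0, 0, 0, 1]

/-- the action of `x_10(1)` on the submodule -/
def R1_10 : Matrix (Fin 7) (Fin 7) (ZMod 3) := !![1, 0, 0, 0, 0, 0, 0; 0, 1, 0, 0, 0, 0, 0; 0, 0, 1, 0, 0, 0, 0; 0, 0, 0, 1, 0, 0, 0; 0, 1, 0, 0, 1, 0, 0; 0, 0, 0, 0, 0, 1, 0; 0, 0, 0, 2, 0, 0, 1]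

/-- the action of `x_11(1)` on the submodule -/
def R1_11 : Matrix (Fin 7) (Fin 7) (ZMod 3) := !![1, 0, 0, 0, 0, 0, 0; 0, 1, 0, 0, 0, 0, 0; 0, 0, 1, 0, 0, 0, 0; 0, 0, 0, 1, 0, 0, 0; 0, 0, 0, 0, 1, 0, 0; 0, 1, 0, 0, 0, 1, 0; 0, 0, 2, 0, 0, 0, 1]

/-- the action of the root elements `x_r(1)` on the submodule -/
def R1 : Fin 12 → Matrix (Fin 7) (Fin 7) (ZMod 3) :=
  ![R1_0, R1_1, R1_2, R1_3, R1_4, R1_5, R1_6, R1_7, R1_8, R1_9, R1_10, R1_11]

theorem low_xMat : ∀ r : Fin 12, ∀ t : ZMod 3, low (chevG2.xMat (ZMod 3) r t) = 0 := by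
  decide +kernel

theorem rho_xMat_zero : ∀ r : Fin 12, rho (chevG2.xMat (ZMod 3) r 0) = 1 := by
  decide +kernel

theorem rho_xMat_one : ∀ r : Fin 12, rho (chevG2.xMat (ZMod 3) r 1) = R1 r := by
  decide +kernel

theorem rho_xMat_two : ∀ r : Fin 12, rho (chevG2.xMat (ZMod 3) r 2) = R1 r * R1 r := by
  decide +kernel

theorem presB_R1 : ∀ r : Fin 12, PresB (R1 r) := by
  decide +kernel

theorem presB_xMat (r : Fin 12) (t : ZMod 3) : PresB (rho (chevG2.xMat (ZMod 3) r t)) := by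
  fin_cases t
  · exact (rho_xMat_zero r).symm ▸ presB_one
  · exact (rho_xMat_one r).symm ▸ presB_R1 r
  · exact (rho_xMat_two r).symm ▸ (presB_R1 r).mul (presB_R1 r)

theorem xMat_one_mul_two : ∀ r : Fin 12,
    chevG2.xMat (ZMod 3) r 1 * chevG2.xMat (ZMod 3) r 2 = 1 := by
  decide +kernel

theorem xMat_two_mul_one : ∀ r : Fin 12,
    chevG2.xMat (ZMod 3) r 2 * chevG2.xMat (ZMod 3) r 1 = 1 := by
  decide +kernel

/-! ### Closure induction -/

/-- the property propagated over the group -/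
def Good (M : Matrix chevG2.Idx chevG2.Idx (ZMod 3)) : Prop := low M = 0 ∧ PresB (rho M)

theorem Good.mul {M N : Matrix chevG2.Idx chevG2.Idx (ZMod 3)} (hM : Good M) (hN : Good N) :
    Good (M * N) :=
  ⟨low_mul M N hM.1 hN.1, by rw [rho_mul M N hN.1]; exact hM.2.mul hN.2⟩

theorem good_one : Good 1 := ⟨low_one, by rw [rho_one]; exact presB_one⟩

theorem Good.pow {M : Matrix chevG2.Idx chevG2.Idx (ZMod 3)} (hM : Good M) : ∀ k : ℕ, Good (M ^ k)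
  | 0 => by rw [pow_zero]; exact good_one
  | (k + 1) => by rw [pow_succ]; exact (Good.pow hM k).mul hM

theorem good_of_mem (g : GL chevG2.Idx (ZMod 3)) (hg : g ∈ chevG2.group (ZMod 3)) :
    Good (g : Matrix chevG2.Idx chevG2.Idx (ZMod 3)) := by
  unfold ChevalleyDatum.group at hg
  induction hg using Subgroup.closure_induction with
  | mem g hg =>
    obtain ⟨r, t, h⟩ := hg
    rw [h]
    exact ⟨low_xMat r t, presB_xMat r t⟩
  | one => exact good_one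
  | mul a b _ _ ha hb =>
    rw [Units.val_mul]
    exact ha.mul hb
  | inv a _ ha =>
    have hfin : IsOfFinOrder a := isOfFinOrder_of_finite a
    have hpos : 0 < orderOf a := hfin.orderOf_pos
    have h1 : a⁻¹ = a ^ (orderOf a - 1) := by
      apply inv_eq_of_mul_eq_one_right
      rw [← pow_succ', Nat.sub_add_cancel hpos, pow_orderOf_eq_one]
    rw [h1, Units.val_pow_eq_pow_val]
    exact ha.pow _

/-- the action of the group on the submodule -/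
def rhoHom : ↥(chevG2.group (ZMod 3)) →* Matrix (Fin 7) (Fin 7) (ZMod 3) where
  toFun g := rho ((g : GL chevG2.Idx (ZMod 3)) : Matrix chevG2.Idx chevG2.Idx (ZMod 3))
  map_one' := rho_one
  map_mul' _ b := rho_mul _ _ (good_of_mem b.val b.property).1

theorem rhoHom_apply (g : ↥(chevG2.group (ZMod 3))) :
    rhoHom g = rho ((g : GL chevG2.Idx (ZMod 3)) : Matrix chevG2.Idx chevG2.Idx (ZMod 3)) := rfl

theorem presB_rhoHom (g : ↥(chevG2.group (ZMod 3))) : PresB (rhoHom g) :=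
  (good_of_mem g.val g.property).2

/-- the root element `x_r(1)` as an element of the group -/
def xG (r : Fin 12) : ↥(chevG2.group (ZMod 3)) :=
  ⟨⟨chevG2.xMat (ZMod 3) r 1, chevG2.xMat (ZMod 3) r 2, xMat_one_mul_two r, xMat_two_mul_one r⟩,
    Subgroup.subset_closure ⟨r, 1, rfl⟩⟩

theorem rhoHom_xG (r : Fin 12) : rhoHom (xG r) = R1 r := rho_xMat_one r

theorem R1_zero_ne_one : R1 0 ≠ 1 := by decide +kernel

/-- the action on the submodule is faithful, because the group is simple -/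
theorem rhoHom_injective [IsSimpleGroup ↥(chevG2.group (ZMod 3))] : Function.Injective rhoHom := by
  have hker : (rhoHom.toHomUnits).ker = ⊥ := by
    rcases (rhoHom.toHomUnits).normal_ker.eq_bot_or_eq_top with h | h
    · exact h
    · exfalso
      have h1 : xG 0 ∈ (rhoHom.toHomUnits).ker := by rw [h]; exact Subgroup.mem_top _
      have h2 := congrArg Units.val (MonoidHom.mem_ker.mp h1)
      rw [MonoidHom.coe_toHomUnits, Units.val_one, rhoHom_xG] at h2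
      exact R1_zero_ne_one h2
  have hinj := (MonoidHom.ker_eq_bot_iff _).mp hker
  intro a b hab
  apply hinj
  apply Units.ext
  rw [MonoidHom.coe_toHomUnits, MonoidHom.coe_toHomUnits]
  exact hab

end Cfsg.Agent.Lib.Helper42.G2Three
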