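import Mathlib
import Cfsg.Agent.Lib.Helper42.G2ThreeLin
import Cfsg.Agent.Lib.Helper42.G2ThreeRep

set_option autoImplicit false

/-!
# Centralisers of elements of order `7` and `13` of `G₂(3)` on the seven-dimensional module (helper42)

A matrix commuting with the element `A` is a polynomial in `A` (cyclic vector); if its order is prime to
the order of the unit group of the commutant, Frobenius gives that it is trivial; involutions are handled by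
a kernel computation over the Frobenius-fixed elements of the commutant, using the invariant product.
-/

namespace Cfsg.Agent.Lib.Helper42.G2Three

open Matrix Polynomial


/-! ### The element of order `13` -/

/-- the element of order `13` on the module -/
def A13 : Matrix (Fin 7) (Fin 7) (ZMod 3) := !![1, 2, 2, 0, 2, 0, 0; 2, 0, 2, 2, 0, 1, 1; 1, 1, 1, 0, 0, 0, 2; 2, 1, 2, 1, 2, 0, 0; 0, 0, 1, 0, 1, 0, 0; 2, 2, 0, 2, 0, 1, 1; 2, 2, 0, 0, 0, 0, 1]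

/-- a cyclic vector -/
def v13 : Fin 7 → ZMod 3 := ![0, 0, 0, 0, 0, 0, 1]

/-- the inverse of the matrix of the vectors `A ^ j v` -/
def W13 : Matrix (Fin 7) (Fin 7) (ZMod 3) := !![1, 2, 1, 0, 0, 1, 1; 0, 2, 0, 1, 1, 2, 0; 1, 1, 2, 0, 1, 1, 0; 0, 1, 1, 1, 1, 0, 0; 0, 2, 0, 1, 0, 1, 0; 1, 0, 1, 2, 1, 1, 0; 1, 1, 1, 0, 2, 0, 0]

/-- the power `A ^ 0` -/
def P13_0 : Matrix (Fin 7) (Fin 7) (ZMod 3) := !![1, 0, 0, 0, 0, 0, 0; 0, 1, 0, 0, 0, 0, 0; 0, 0, 1, 0, 0, 0, 0; 0, 0, 0, 1, 0, 0, 0; 0, 0, 0, 0, 1, 0, 0; 0, 0, 0, 0, 0, 1, 0; 0, 0, 0, 0, 0, 0, 1]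

/-- the power `A ^ 1` -/
def P13_1 : Matrix (Fin 7) (Fin 7) (ZMod 3) := !![1, 2, 2, 0, 2, 0, 0; 2, 0, 2, 2, 0, 1, 1; 1, 1, 1, 0, 0, 0, 2; 2, 1, 2, 1, 2, 0, 0; 0, 0, 1, 0, 1, 0, 0; 2, 2, 0, 2, 0, 1, 1; 2, 2, 0, 0, 0, 0, 1]

/-- the power `A ^ 2` -/
def P13_2 : Matrix (Fin 7) (Fin 7) (ZMod 3) := !![1, 1, 1, 1, 1, 2, 0; 0, 0, 1, 1, 2, 1, 0; 2, 1, 2, 2, 2, 1, 2; 2, 1, 0, 0, 2, 1, 2; 1, 1, 2, 0, 1, 0, 2; 2, 1, 0, 2, 2, 0, 1; 2, 0, 2, 1, 1, 2, 0]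

/-- the power `A ^ 3` -/
def P13_3 : Matrix (Fin 7) (Fin 7) (ZMod 3) := !![1, 2, 2, 1, 2, 0, 2; 2, 1, 2, 0, 1, 1, 0; 1, 2, 2, 0, 1, 2, 2; 1, 1, 2, 1, 0, 2, 1; 0, 2, 1, 2, 0, 1, 1; 1, 2, 0, 1, 1, 1, 2; 1, 2, 0, 2, 1, 2, 0]

/-- the power `A ^ 4` -/
def P13_4 : Matrix (Fin 7) (Fin 7) (ZMod 3) := !![1, 0, 0, 2, 0, 2, 2; 2, 2, 0, 1, 2, 2, 0; 0, 0, 0, 2, 0, 1, 1; 1, 2, 2, 1, 1, 0, 2; 1, 1, 0, 2, 1, 0, 0; 1, 0, 0, 1, 2, 0, 2; 1, 2, 2, 1, 1, 1, 1]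

/-- the power `A ^ 5` -/
def P13_5 : Matrix (Fin 7) (Fin 7) (ZMod 3) := !![1, 0, 0, 0, 0, 2, 1; 0, 0, 0, 0, 2, 1, 1; 2, 0, 1, 1, 1, 1, 2; 1, 0, 2, 2, 2, 2, 2; 1, 1, 0, 1, 1, 1, 1; 1, 1, 0, 1, 0, 0, 2; 1, 0, 2, 1, 2, 0, 2]

/-- the power `A ^ 6` -/
def P13_6 : Matrix (Fin 7) (Fin 7) (ZMod 3) := !![1, 2, 2, 1, 2, 2, 0; 1, 1, 2, 2, 2, 1, 2; 2, 0, 2, 0, 1, 1, 2; 0, 2, 1, 0, 2, 2, 2; 0, 1, 1, 2, 2, 2, 0; 0, 1, 0, 0, 1, 1, 0; 0, 0, 2, 1, 0, 0, 0]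

/-- the vector `A ^ 0 v` -/
def pv13_0 : Fin 7 → ZMod 3 := ![0, 0, 0, 0, 0, 0, 1]

/-- the vector `A ^ 1 v` -/
def pv13_1 : Fin 7 → ZMod 3 := ![0, 1, 2, 0, 0, 1, 1]

/-- the vector `A ^ 2 v` -/
def pv13_2 : Fin 7 → ZMod 3 := ![0, 0, 2, 2, 2, 1, 0]

/-- the vector `A ^ 3 v` -/
def pv13_3 : Fin 7 → ZMod 3 := ![2, 0, 2, 1, 1, 2, 0]

/-- the vector `A ^ 4 v` -/
def pv13_4 : Fin 7 → ZMod 3 := ![2, 0, 1, 2, 0, 2, 1]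

/-- the vector `A ^ 5 v` -/
def pv13_5 : Fin 7 → ZMod 3 := ![1, 1, 2, 2, 1, 2, 2]

/-- the vector `A ^ 6 v` -/
def pv13_6 : Fin 7 → ZMod 3 := ![0, 2, 2, 2, 0, 0, 0]

/-- the vector `A ^ (3 * 0) v` -/
def qv13_0 : Fin 7 → ZMod 3 := ![0, 0, 0, 0, 0, 0, 1]

/-- the vector `A ^ (3 * 1) v` -/
def qv13_1 : Fin 7 → ZMod 3 := ![2, 0, 2, 1, 1, 2, 0]

/-- the vector `A ^ (3 * 2) v` -/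
def qv13_2 : Fin 7 → ZMod 3 := ![0, 2, 2, 2, 0, 0, 0]

/-- the vector `A ^ (3 * 3) v` -/
def qv13_3 : Fin 7 → ZMod 3 := ![1, 0, 2, 2, 1, 0, 2]

/-- the vector `A ^ (3 * 4) v` -/
def qv13_4 : Fin 7 → ZMod 3 := ![1, 1, 1, 0, 2, 2, 0]

/-- the vector `A ^ (3 * 5) v` -/
def qv13_5 : Fin 7 → ZMod 3 := ![0, 0, 2, 2, 2, 1, 0]

/-- the vector `A ^ (3 * 6) v` -/
def qv13_6 : Fin 7 → ZMod 3 := ![1, 1, 2, 2, 1, 2, 2]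

theorem A13_pow_order : A13 ^ 13 = 1 := by decide +kernel

theorem A13_cyclic :
    (Matrix.of fun i j : Fin 7 => ((A13 ^ (j : ℕ)) *ᵥ v13) i) * W13 = 1 := by decide +kernel

theorem A13_pow : A13 ^ 0 = P13_0 ∧ A13 ^ 1 = P13_1 ∧ A13 ^ 2 = P13_2 ∧ A13 ^ 3 = P13_3 ∧
    A13 ^ 4 = P13_4 ∧ A13 ^ 5 = P13_5 ∧ A13 ^ 6 = P13_6 := by decide +kernel

theorem A13_pv : A13 ^ 0 *ᵥ v13 = pv13_0 ∧ A13 ^ 1 *ᵥ v13 = pv13_1 ∧ A13 ^ 2 *ᵥ v13 = pv13_2 ∧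
    A13 ^ 3 *ᵥ v13 = pv13_3 ∧ A13 ^ 4 *ᵥ v13 = pv13_4 ∧ A13 ^ 5 *ᵥ v13 = pv13_5 ∧
    A13 ^ 6 *ᵥ v13 = pv13_6 := by decide +kernel

theorem A13_qv : (A13 ^ 3) ^ 0 *ᵥ v13 = qv13_0 ∧ (A13 ^ 3) ^ 1 *ᵥ v13 = qv13_1 ∧
    (A13 ^ 3) ^ 2 *ᵥ v13 = qv13_2 ∧ (A13 ^ 3) ^ 3 *ᵥ v13 = qv13_3 ∧
    (A13 ^ 3) ^ 4 *ᵥ v13 = qv13_4 ∧ (A13 ^ 3) ^ 5 *ᵥ v13 = qv13_5 ∧
    (A13 ^ 3) ^ 6 *ᵥ v13 = qv13_6 := by decide +kernel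

/-- the kernel computation for involutions -/
theorem brute13 : ∀ d0 d1 d2 d3 d4 d5 d6 : ZMod 3,
    d0 • qv13_0 + d1 • qv13_1 + d2 • qv13_2 + d3 • qv13_3 + d4 • qv13_4 + d5 • qv13_5 + d6 • qv13_6 =
      d0 • pv13_0 + d1 • pv13_1 + d2 • pv13_2 + d3 • pv13_3 + d4 • pv13_4 + d5 • pv13_5 + d6 • pv13_6 →
    (d0 • P13_0 + d1 • P13_1 + d2 • P13_2 + d3 • P13_3 + d4 • P13_4 + d5 • P13_5 + d6 • P13_6) *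
      (d0 • P13_0 + d1 • P13_1 + d2 • P13_2 + d3 • P13_3 + d4 • P13_4 + d5 • P13_5 + d6 • P13_6) = 1 →
    PresB (d0 • P13_0 + d1 • P13_1 + d2 • P13_2 + d3 • P13_3 + d4 • P13_4 + d5 • P13_5 + d6 • P13_6) →
    d0 • P13_0 + d1 • P13_1 + d2 • P13_2 + d3 • P13_3 + d4 • P13_4 + d5 • P13_5 + d6 • P13_6 = 1 := by
  decide +kernel

/-! ### The element of order `7` -/

/-- the element of order `7` on the module -/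
def A7 : Matrix (Fin 7) (Fin 7) (ZMod 3) := !![1, 2, 0, 0, 0, 2, 0; 0, 2, 1, 1, 1, 1, 2; 2, 2, 2, 0, 0, 2, 2; 0, 0, 1, 1, 0, 0, 2; 0, 0, 1, 0, 1, 0, 2; 0, 1, 0, 0, 0, 1, 0; 0, 0, 2, 0, 0, 0, 1]

/-- a cyclic vector -/
def v7 : Fin 7 → ZMod 3 := ![0, 0, 0, 0, 1, 0, 0]

/-- the inverse of the matrix of the vectors `A ^ j v` -/
def W7 : Matrix (Fin 7) (Fin 7) (ZMod 3) := !![0, 2, 2, 2, 1, 1, 0; 2, 1, 2, 1, 0, 1, 1; 2, 0, 0, 1, 0, 0, 2; 1, 0, 2, 1, 0, 0, 2; 2, 0, 1, 1, 0, 0, 1; 1, 0, 2, 1, 0, 0, 1; 1, 0, 0, 1, 0, 1, 2]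

/-- the power `A ^ 0` -/
def P7_0 : Matrix (Fin 7) (Fin 7) (ZMod 3) := !![1, 0, 0, 0, 0, 0, 0; 0, 1, 0, 0, 0, 0, 0; 0, 0, 1, 0, 0, 0, 0; 0, 0, 0, 1, 0, 0, 0; 0, 0, 0, 0, 1, 0, 0; 0, 0, 0, 0, 0, 1, 0; 0, 0, 0, 0, 0, 0, 1]

/-- the power `A ^ 1` -/
def P7_1 : Matrix (Fin 7) (Fin 7) (ZMod 3) := !![1, 2, 0, 0, 0, 2, 0; 0, 2, 1, 1, 1, 1, 2; 2, 2, 2, 0, 0, 2, 2; 0, 0, 1, 1, 0, 0, 2; 0, 0, 1, 0, 1, 0, 2; 0, 1, 0, 0, 0, 1, 0; 0, 0, 2, 0, 0, 0, 1]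

/-- the power `A ^ 2` -/
def P7_2 : Matrix (Fin 7) (Fin 7) (ZMod 3) := !![1, 2, 2, 2, 2, 0, 1; 2, 1, 1, 0, 0, 2, 0; 0, 2, 1, 2, 2, 0, 1; 2, 2, 1, 1, 0, 2, 0; 2, 2, 1, 0, 1, 2, 0; 0, 0, 1, 1, 1, 2, 2; 1, 1, 0, 0, 0, 1, 2]

/-- the power `A ^ 3` -/
def P7_3 : Matrix (Fin 7) (Fin 7) (ZMod 3) := !![2, 1, 0, 1, 1, 2, 2; 1, 1, 0, 1, 1, 0, 1; 2, 0, 1, 1, 1, 1, 0; 1, 0, 2, 0, 2, 1, 2; 1, 0, 2, 2, 0, 1, 2; 2, 1, 2, 1, 1, 1, 2; 1, 2, 2, 1, 1, 1, 1]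

/-- the power `A ^ 4` -/
def P7_4 : Matrix (Fin 7) (Fin 7) (ZMod 3) := !![2, 2, 1, 2, 2, 1, 2; 1, 1, 2, 2, 2, 0, 1; 1, 1, 1, 1, 1, 1, 0; 2, 1, 1, 0, 2, 1, 1; 2, 1, 1, 2, 0, 1, 1; 0, 2, 2, 2, 2, 1, 0; 2, 2, 1, 0, 0, 0, 1]

/-- the power `A ^ 5` -/
def P7_5 : Matrix (Fin 7) (Fin 7) (ZMod 3) := !![1, 2, 0, 1, 1, 0, 1; 2, 2, 2, 0, 0, 1, 0; 0, 1, 2, 2, 2, 0, 2; 1, 0, 1, 1, 0, 2, 0; 1, 0, 1, 0, 1, 2, 0; 1, 0, 1, 1, 1, 1, 1; 1, 1, 0, 2, 2, 2, 1]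

/-- the power `A ^ 6` -/
def P7_6 : Matrix (Fin 7) (Fin 7) (ZMod 3) := !![1, 0, 0, 0, 0, 1, 0; 0, 1, 0, 2, 2, 2, 2; 1, 0, 1, 0, 0, 2, 1; 0, 0, 0, 1, 0, 0, 1; 0, 0, 0, 0, 1, 0, 1; 0, 2, 0, 1, 1, 2, 1; 1, 0, 1, 0, 0, 2, 2]

/-- the vector `A ^ 0 v` -/
def pv7_0 : Fin 7 → ZMod 3 := ![0, 0, 0, 0, 1, 0, 0]

/-- the vector `A ^ 1 v` -/
def pv7_1 : Fin 7 → ZMod 3 := ![0, 1, 0, 0, 1, 0, 0]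

/-- the vector `A ^ 2 v` -/
def pv7_2 : Fin 7 → ZMod 3 := ![2, 0, 2, 0, 1, 1, 0]

/-- the vector `A ^ 3 v` -/
def pv7_3 : Fin 7 → ZMod 3 := ![1, 1, 1, 2, 0, 1, 1]

/-- the vector `A ^ 4 v` -/
def pv7_4 : Fin 7 → ZMod 3 := ![2, 2, 1, 2, 0, 2, 0]

/-- the vector `A ^ 5 v` -/
def pv7_5 : Fin 7 → ZMod 3 := ![1, 0, 2, 0, 1, 1, 2]

/-- the vector `A ^ 6 v` -/
def pv7_6 : Fin 7 → ZMod 3 := ![0, 2, 0, 0, 1, 1, 0]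

/-- the vector `A ^ (3 * 0) v` -/
def qv7_0 : Fin 7 → ZMod 3 := ![0, 0, 0, 0, 1, 0, 0]

/-- the vector `A ^ (3 * 1) v` -/
def qv7_1 : Fin 7 → ZMod 3 := ![1, 1, 1, 2, 0, 1, 1]

/-- the vector `A ^ (3 * 2) v` -/
def qv7_2 : Fin 7 → ZMod 3 := ![0, 2, 0, 0, 1, 1, 0]

/-- the vector `A ^ (3 * 3) v` -/
def qv7_3 : Fin 7 → ZMod 3 := ![2, 0, 2, 0, 1, 1, 0]

/-- the vector `A ^ (3 * 4) v` -/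
def qv7_4 : Fin 7 → ZMod 3 := ![1, 0, 2, 0, 1, 1, 2]

/-- the vector `A ^ (3 * 5) v` -/
def qv7_5 : Fin 7 → ZMod 3 := ![0, 1, 0, 0, 1, 0, 0]

/-- the vector `A ^ (3 * 6) v` -/
def qv7_6 : Fin 7 → ZMod 3 := ![2, 2, 1, 2, 0, 2, 0]

theorem A7_pow_order : A7 ^ 7 = 1 := by decide +kernel

theorem A7_cyclic :
    (Matrix.of fun i j : Fin 7 => ((A7 ^ (j : ℕ)) *ᵥ v7) i) * W7 = 1 := by decide +kernel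

theorem A7_pow : A7 ^ 0 = P7_0 ∧ A7 ^ 1 = P7_1 ∧ A7 ^ 2 = P7_2 ∧ A7 ^ 3 = P7_3 ∧
    A7 ^ 4 = P7_4 ∧ A7 ^ 5 = P7_5 ∧ A7 ^ 6 = P7_6 := by decide +kernel

theorem A7_pv : A7 ^ 0 *ᵥ v7 = pv7_0 ∧ A7 ^ 1 *ᵥ v7 = pv7_1 ∧ A7 ^ 2 *ᵥ v7 = pv7_2 ∧
    A7 ^ 3 *ᵥ v7 = pv7_3 ∧ A7 ^ 4 *ᵥ v7 = pv7_4 ∧ A7 ^ 5 *ᵥ v7 = pv7_5 ∧
    A7 ^ 6 *ᵥ v7 = pv7_6 := by decide +kernel

theorem A7_qv : (A7 ^ 3) ^ 0 *ᵥ v7 = qv7_0 ∧ (A7 ^ 3) ^ 1 *ᵥ v7 = qv7_1 ∧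
    (A7 ^ 3) ^ 2 *ᵥ v7 = qv7_2 ∧ (A7 ^ 3) ^ 3 *ᵥ v7 = qv7_3 ∧
    (A7 ^ 3) ^ 4 *ᵥ v7 = qv7_4 ∧ (A7 ^ 3) ^ 5 *ᵥ v7 = qv7_5 ∧
    (A7 ^ 3) ^ 6 *ᵥ v7 = qv7_6 := by decide +kernel

/-- the kernel computation for involutions -/
theorem brute7 : ∀ d0 d1 d2 d3 d4 d5 d6 : ZMod 3,
    d0 • qv7_0 + d1 • qv7_1 + d2 • qv7_2 + d3 • qv7_3 + d4 • qv7_4 + d5 • qv7_5 + d6 • qv7_6 =
      d0 • pv7_0 + d1 • pv7_1 + d2 • pv7_2 + d3 • pv7_3 + d4 • pv7_4 + d5 • pv7_5 + d6 • pv7_6 →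
    (d0 • P7_0 + d1 • P7_1 + d2 • P7_2 + d3 • P7_3 + d4 • P7_4 + d5 • P7_5 + d6 • P7_6) *
      (d0 • P7_0 + d1 • P7_1 + d2 • P7_2 + d3 • P7_3 + d4 • P7_4 + d5 • P7_5 + d6 • P7_6) = 1 →
    PresB (d0 • P7_0 + d1 • P7_1 + d2 • P7_2 + d3 • P7_3 + d4 • P7_4 + d5 • P7_5 + d6 • P7_6) →
    d0 • P7_0 + d1 • P7_1 + d2 • P7_2 + d3 • P7_3 + d4 • P7_4 + d5 • P7_5 + d6 • P7_6 = 1 := by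
  decide +kernel


end Cfsg.Agent.Lib.Helper42.G2Three
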