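import Mathlib
import Cfsg.Agent.Lib.Helper42.G2ThreeCentData

set_option autoImplicit false

namespace Cfsg.Agent.Lib.Helper42.G2Three

open Matrix Polynomial


theorem cent13 (Y : Matrix (Fin 7) (Fin 7) (ZMod 3)) (hc : Y * A13 = A13 * Y) (hB : PresB Y)
    (h : Y ^ 2 = 1 ∨ Y ^ 3 = 1 ∨ Y ^ 7 = 1) : Y = 1 := by
  obtain ⟨d, hd⟩ := exists_coeff_of_commute_of_cyclic A13 Y v13 W13 A13_cyclic hc
  obtain ⟨q, hq⟩ := exists_poly_of_commute_of_cyclic A13 Y v13 W13 A13_cyclic hc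
  have hA27 : A13 ^ (3 ^ 3) = A13 := by
    rw [show 3 ^ 3 = 13 * 2 + 1 by norm_num, pow_succ, pow_mul, A13_pow_order, one_pow, one_mul]
  have h27 : Y ^ 27 = Y := by
    have := aeval_pow_char_pow_eq_self 3 A13 q 3 hA27
    rw [← hq] at this
    exact this
  rcases h with h | h | h
  · have h3 : Y ^ 3 = Y := by rw [pow_succ, h, one_mul]
    have hf := sum_smul_pow_pow_char 3 Finset.univ (fun k : Fin 7 => (k : ℕ)) d A13
    rw [← hd, h3] at hf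
    have hv : (∑ k : Fin 7, d k • (A13 ^ 3) ^ (k : ℕ)) *ᵥ v13
        = (∑ k : Fin 7, d k • A13 ^ (k : ℕ)) *ᵥ v13 := by rw [← hf, ← hd]
    obtain ⟨p0, p1, p2, p3, p4, p5, p6⟩ := A13_pow
    obtain ⟨a0, a1, a2, a3, a4, a5, a6⟩ := A13_pv
    obtain ⟨b0, b1, b2, b3, b4, b5, b6⟩ := A13_qv
    have hd' : Y = d 0 • P13_0 + d 1 • P13_1 + d 2 • P13_2 + d 3 • P13_3 + d 4 • P13_4 + d 5 • P13_5
        + d 6 • P13_6 := by
      rw [hd, Fin.sum_univ_seven, ← p0, ← p1, ← p2, ← p3, ← p4, ← p5, ← p6]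
      rfl
    have hv' : d 0 • qv13_0 + d 1 • qv13_1 + d 2 • qv13_2 + d 3 • qv13_3 + d 4 • qv13_4 + d 5 • qv13_5
        + d 6 • qv13_6 = d 0 • pv13_0 + d 1 • pv13_1 + d 2 • pv13_2 + d 3 • pv13_3 + d 4 • pv13_4
        + d 5 • pv13_5 + d 6 • pv13_6 := by
      rw [Fin.sum_univ_seven, Fin.sum_univ_seven] at hv
      simp only [Matrix.add_mulVec, Matrix.smul_mulVec] at hv
      rw [← a0, ← a1, ← a2, ← a3, ← a4, ← a5, ← a6, ← b0, ← b1, ← b2, ← b3, ← b4, ← b5, ← b6]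
      exact hv
    have := brute13 (d 0) (d 1) (d 2) (d 3) (d 4) (d 5) (d 6) hv'
      (by rw [← hd', ← pow_two, h]) (by rw [← hd']; exact hB)
    rw [hd', this]
  · rw [← h27, show 27 = 3 * 9 by norm_num, pow_mul, h, one_pow]
  · have h6 : Y ^ 6 = Y := by
      have : Y ^ 27 = Y ^ 6 := by
        rw [show 27 = 7 * 3 + 6 by norm_num, pow_add, pow_mul, h, one_pow, one_mul]
      rw [← this, h27]
    have h2 : Y ^ 2 = 1 := by
      calc Y ^ 2 = Y ^ 6 * Y := by rw [h6, pow_two]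
        _ = Y ^ 7 := by rw [← pow_succ]
        _ = 1 := h
    calc Y = (Y ^ 2) ^ 3 * Y := by rw [h2, one_pow, one_mul]
      _ = Y ^ 7 := by rw [← pow_mul, ← pow_succ]
      _ = 1 := h

theorem cent7 (Y : Matrix (Fin 7) (Fin 7) (ZMod 3)) (hc : Y * A7 = A7 * Y) (hB : PresB Y)
    (h : Y ^ 2 = 1 ∨ Y ^ 3 = 1) : Y = 1 := by
  obtain ⟨d, hd⟩ := exists_coeff_of_commute_of_cyclic A7 Y v7 W7 A7_cyclic hc
  obtain ⟨q, hq⟩ := exists_poly_of_commute_of_cyclic A7 Y v7 W7 A7_cyclic hc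
  have hA729 : A7 ^ (3 ^ 6) = A7 := by
    rw [show 3 ^ 6 = 7 * 104 + 1 by norm_num, pow_succ, pow_mul, A7_pow_order, one_pow, one_mul]
  have h729 : Y ^ 729 = Y := by
    have := aeval_pow_char_pow_eq_self 3 A7 q 6 hA729
    rw [← hq] at this
    exact this
  rcases h with h | h
  · have h3 : Y ^ 3 = Y := by rw [pow_succ, h, one_mul]
    have hf := sum_smul_pow_pow_char 3 Finset.univ (fun k : Fin 7 => (k : ℕ)) d A7
    rw [← hd, h3] at hf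
    have hv : (∑ k : Fin 7, d k • (A7 ^ 3) ^ (k : ℕ)) *ᵥ v7
        = (∑ k : Fin 7, d k • A7 ^ (k : ℕ)) *ᵥ v7 := by rw [← hf, ← hd]
    obtain ⟨p0, p1, p2, p3, p4, p5, p6⟩ := A7_pow
    obtain ⟨a0, a1, a2, a3, a4, a5, a6⟩ := A7_pv
    obtain ⟨b0, b1, b2, b3, b4, b5, b6⟩ := A7_qv
    have hd' : Y = d 0 • P7_0 + d 1 • P7_1 + d 2 • P7_2 + d 3 • P7_3 + d 4 • P7_4 + d 5 • P7_5
        + d 6 • P7_6 := by
      rw [hd, Fin.sum_univ_seven, ← p0, ← p1, ← p2, ← p3, ← p4, ← p5, ← p6]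
      rfl
    have hv' : d 0 • qv7_0 + d 1 • qv7_1 + d 2 • qv7_2 + d 3 • qv7_3 + d 4 • qv7_4 + d 5 • qv7_5
        + d 6 • qv7_6 = d 0 • pv7_0 + d 1 • pv7_1 + d 2 • pv7_2 + d 3 • pv7_3 + d 4 • pv7_4
        + d 5 • pv7_5 + d 6 • pv7_6 := by
      rw [Fin.sum_univ_seven, Fin.sum_univ_seven] at hv
      simp only [Matrix.add_mulVec, Matrix.smul_mulVec] at hv
      rw [← a0, ← a1, ← a2, ← a3, ← a4, ← a5, ← a6, ← b0, ← b1, ← b2, ← b3, ← b4, ← b5, ← b6]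
      exact hv
    have := brute7 (d 0) (d 1) (d 2) (d 3) (d 4) (d 5) (d 6) hv'
      (by rw [← hd', ← pow_two, h]) (by rw [← hd']; exact hB)
    rw [hd', this]
  · rw [← h729, show 729 = 3 * 243 by norm_num, pow_mul, h, one_pow]

end Cfsg.Agent.Lib.Helper42.G2Three
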