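import Mathlib

set_option autoImplicit false

namespace Cfsg.Agent.Lib.Helper42.G2Three

open Subgroup

variable {G : Type*} [Group G] [Finite G]

/-- a subgroup of order `p` is a Sylow `p`-subgroup if `p ^ 2` does not divide the group order -/
theorem exists_sylow_eq_of_card_eq {p : ℕ} [Fact p.Prime] (hp2 : ¬ p ^ 2 ∣ Nat.card G)
    (H : Subgroup G) (hH : Nat.card H = p) : ∃ P : Sylow p G, (P : Subgroup G) = H := by
  have hHp : IsPGroup p H := IsPGroup.of_card (n := 1) (by rw [hH, pow_one])
  obtain ⟨P, hP⟩ := hHp.exists_le_sylow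
  refine ⟨P, ?_⟩
  have hcard : Nat.card (P : Subgroup G) = p ^ (Nat.card G).factorization p := P.card_eq_multiplicity
  have hle : (Nat.card G).factorization p ≤ 1 := by
    by_contra hcon
    push Not at hcon
    apply hp2
    have h1 : p ^ (Nat.card G).factorization p ∣ Nat.card G := Nat.ordProj_dvd _ _
    exact dvd_trans (pow_dvd_pow p hcon) h1
  have hPle : Nat.card (P : Subgroup G) ≤ Nat.card H := by
    rw [hcard, hH]
    calc p ^ (Nat.card G).factorization p ≤ p ^ 1 :=
          Nat.pow_le_pow_right (Fact.out : p.Prime).pos hle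
      _ = p := pow_one p
  exact (Subgroup.eq_of_le_of_card_ge hP hPle).symm

/-- If `p ^ 2 ∤ |G|`, `g` has order `p` and `x` has order `p * s` with `s ≠ p` prime, then some element of order `s`
commutes with `g`. -/
theorem exists_commute_of_orderOf_mul {p s : ℕ} [Fact p.Prime] (hs : s.Prime)
    (hp2 : ¬ p ^ 2 ∣ Nat.card G) (g : G) (hg : orderOf g = p) (x : G) (hx : orderOf x = p * s) :
    ∃ y : G, orderOf y = s ∧ Commute y g := by
  have hp : p.Prime := Fact.out
  have ha : orderOf (x ^ s) = p := by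
    rw [orderOf_pow' x hs.ne_zero, hx, Nat.gcd_mul_left_left, Nat.mul_div_cancel _ hs.pos]
  have hb : orderOf (x ^ p) = s := by
    rw [orderOf_pow' x hp.ne_zero, hx, Nat.gcd_mul_right_left, Nat.mul_div_cancel_left _ hp.pos]
  obtain ⟨P, hP⟩ := exists_sylow_eq_of_card_eq hp2 (zpowers (x ^ s)) (by rw [Nat.card_zpowers, ha])
  obtain ⟨Q, hQ⟩ := exists_sylow_eq_of_card_eq hp2 (zpowers g) (by rw [Nat.card_zpowers, hg])
  obtain ⟨c, hc⟩ := MulAction.exists_smul_eq G P Q
  have hmem : c * x ^ s * c⁻¹ ∈ zpowers g := by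
    rw [← hQ, ← hc, Sylow.coe_subgroup_smul]
    have : x ^ s ∈ (P : Subgroup G) := by rw [hP]; exact mem_zpowers _
    have h2 := Subgroup.smul_mem_pointwise_smul _ (MulAut.conj c) _ this
    simpa [MulAut.smul_def, MulAut.conj_apply] using h2
  -- the conjugate of `x ^ s` generates `zpowers g`
  have hord : orderOf (c * x ^ s * c⁻¹) = p := by
    have := (MulAut.conj c).orderOf_eq (x ^ s)
    rw [MulAut.conj_apply] at this
    rw [this, ha]
  have hle : zpowers (c * x ^ s * c⁻¹) ≤ zpowers g := by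
    rw [zpowers_le]
    exact hmem
  have heq : zpowers (c * x ^ s * c⁻¹) = zpowers g := by
    apply Subgroup.eq_of_le_of_card_ge hle
    rw [Nat.card_zpowers, Nat.card_zpowers, hord, hg]
  have hgm : g ∈ zpowers (c * x ^ s * c⁻¹) := by
    rw [heq]; exact mem_zpowers g
  obtain ⟨k, hk⟩ := mem_zpowers_iff.mp hgm
  refine ⟨c * x ^ p * c⁻¹, ?_, ?_⟩
  · have := (MulAut.conj c).orderOf_eq (x ^ p)
    rw [MulAut.conj_apply] at this
    rw [this, hb]
  · rw [← hk]
    apply Commute.zpow_right
    have h1 : Commute (x ^ p) (x ^ s) := (Commute.refl x).pow_pow p s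
    have h2 : Commute (MulAut.conj c (x ^ p)) (MulAut.conj c (x ^ s)) := h1.map (MulAut.conj c)
    rw [MulAut.conj_apply, MulAut.conj_apply] at h2
    exact h2

end Cfsg.Agent.Lib.Helper42.G2Three
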