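import Mathlib
import Cfsg.Agent.Lib.Helper42.G2ThreeCent
import Cfsg.Agent.Lib.Helper42.G2ThreeSylow

set_option autoImplicit false

/-!
# Orders of elements of `G₂(3)` that are products of two primes (helper42)

Assuming that the Chevalley group `G₂(3)` over `ZMod 3` is simple of order `3⁶ (3² - 1) (3⁶ - 1)`, the only
products of two distinct primes occurring as orders of its elements are `2 * 3` and `3 * 2`.
-/

namespace Cfsg.Agent.Lib.Helper42.G2Three

open Cfsg.Lie Matrix

/-- the group `G₂(3)` -/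
abbrev G3 : Type := ↥(chevG2.group (ZMod 3))

/-- an element of order `13` -/
def g13 : G3 := xG 0 * xG 4 * xG 9

/-- an element of order `7` -/
def g7 : G3 := xG 0 * xG 1 * xG 3 * xG 11

/-- an element of order `6` -/
def g6 : G3 := xG 0 * xG 0 * xG 11

/-- the element of order `6` on the module -/
def A6 : Matrix (Fin 7) (Fin 7) (ZMod 3) := !![1, 0, 0, 0, 0, 0, 0; 0, 0, 0, 0, 0, 2, 0; 0, 0, 0, 0, 0, 0, 1; 0, 0, 0, 1, 0, 0, 0; 0, 0, 0, 0, 1, 0, 0; 0, 1, 0, 0, 0, 1, 0; 0, 0, 2, 0, 0, 0, 1]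

theorem rhoHom_g13 : rhoHom g13 = A13 := by
  rw [g13, map_mul, map_mul, rhoHom_xG, rhoHom_xG, rhoHom_xG]
  decide +kernel

theorem rhoHom_g7 : rhoHom g7 = A7 := by
  rw [g7, map_mul, map_mul, map_mul, rhoHom_xG, rhoHom_xG, rhoHom_xG, rhoHom_xG]
  decide +kernel

theorem rhoHom_g6 : rhoHom g6 = A6 := by
  rw [g6, map_mul, map_mul, rhoHom_xG, rhoHom_xG]
  decide +kernel

theorem A13_ne_one : A13 ≠ 1 := by decide +kernel

theorem A7_ne_one : A7 ≠ 1 := by decide +kernel

theorem A6_pow : A6 ^ 6 = 1 ∧ A6 ^ 2 ≠ 1 ∧ A6 ^ 3 ≠ 1 := by decide +kernel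

instance fact_prime_thirteen' : Fact (Nat.Prime 13) := ⟨by norm_num⟩

instance fact_prime_seven' : Fact (Nat.Prime 7) := ⟨by norm_num⟩

section main

variable [IsSimpleGroup G3]

theorem orderOf_g13 : orderOf g13 = 13 := by
  rw [← orderOf_injective rhoHom rhoHom_injective g13, rhoHom_g13]
  exact orderOf_eq_prime A13_pow_order A13_ne_one

theorem orderOf_g7 : orderOf g7 = 7 := by
  rw [← orderOf_injective rhoHom rhoHom_injective g7, rhoHom_g7]
  exact orderOf_eq_prime A7_pow_order A7_ne_one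

theorem orderOf_g6 : orderOf g6 = 6 := by
  rw [← orderOf_injective rhoHom rhoHom_injective g6, rhoHom_g6]
  apply orderOf_eq_of_pow_and_pow_div_prime (by norm_num) A6_pow.1
  intro p hp hp6
  have h6 : (6 : ℕ) = 2 * 3 := by norm_num
  rw [h6] at hp6
  rcases (Nat.Prime.dvd_mul hp).mp hp6 with h | h
  · have := (Nat.prime_dvd_prime_iff_eq hp Nat.prime_two).mp h
    subst this
    exact A6_pow.2.2
  · have := (Nat.prime_dvd_prime_iff_eq hp Nat.prime_three).mp h
    subst this
    exact A6_pow.2.1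

variable (hcard : Nat.card G3 = 3 ^ 6 * (3 ^ 2 - 1) * (3 ^ 6 - 1))

include hcard

theorem no_thirteen {s : ℕ} (hs : s.Prime) (hs' : s = 2 ∨ s = 3 ∨ s = 7) (x : G3)
    (hx : orderOf x = 13 * s) : False := by
  have hp2 : ¬ 13 ^ 2 ∣ Nat.card G3 := by rw [hcard]; norm_num
  obtain ⟨y, hy, hcomm⟩ := exists_commute_of_orderOf_mul (p := 13) hs hp2 g13 orderOf_g13 x hx
  have hc : rhoHom y * A13 = A13 * rhoHom y := by
    rw [← rhoHom_g13, ← map_mul, ← map_mul, hcomm.eq]
  have hpow : rhoHom y ^ s = 1 := by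
    rw [← map_pow, ← hy, pow_orderOf_eq_one, map_one]
  have hY : rhoHom y = 1 := by
    apply cent13 _ hc (presB_rhoHom y)
    rcases hs' with rfl | rfl | rfl
    · exact Or.inl hpow
    · exact Or.inr (Or.inl hpow)
    · exact Or.inr (Or.inr hpow)
  have hy1 : y = 1 := rhoHom_injective (hY.trans (map_one rhoHom).symm)
  rw [hy1, orderOf_one] at hy
  exact hs.one_lt.ne hy

theorem no_seven {s : ℕ} (hs : s.Prime) (hs' : s = 2 ∨ s = 3) (x : G3)
    (hx : orderOf x = 7 * s) : False := by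
  have hp2 : ¬ 7 ^ 2 ∣ Nat.card G3 := by rw [hcard]; norm_num
  obtain ⟨y, hy, hcomm⟩ := exists_commute_of_orderOf_mul (p := 7) hs hp2 g7 orderOf_g7 x hx
  have hc : rhoHom y * A7 = A7 * rhoHom y := by
    rw [← rhoHom_g7, ← map_mul, ← map_mul, hcomm.eq]
  have hpow : rhoHom y ^ s = 1 := by
    rw [← map_pow, ← hy, pow_orderOf_eq_one, map_one]
  have hY : rhoHom y = 1 := by
    apply cent7 _ hc (presB_rhoHom y)
    rcases hs' with rfl | rfl
    · exact Or.inl hpow
    · exact Or.inr hpow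
  have hy1 : y = 1 := rhoHom_injective (hY.trans (map_one rhoHom).symm)
  rw [hy1, orderOf_one] at hy
  exact hs.one_lt.ne hy

omit [IsSimpleGroup G3] in
theorem prime_cases {q : ℕ} (hq : q.Prime) (h : q ∣ Nat.card G3) :
    q = 2 ∨ q = 3 ∨ q = 7 ∨ q = 13 := by
  rw [hcard, show 3 ^ 6 * (3 ^ 2 - 1) * (3 ^ 6 - 1) = 2 ^ 6 * 3 ^ 6 * 7 * 13 by norm_num] at h
  rcases (Nat.Prime.dvd_mul hq).mp h with h | h
  · rcases (Nat.Prime.dvd_mul hq).mp h with h | h
    · rcases (Nat.Prime.dvd_mul hq).mp h with h | h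
      · exact Or.inl ((Nat.prime_dvd_prime_iff_eq hq Nat.prime_two).mp (hq.dvd_of_dvd_pow h))
      · exact Or.inr (Or.inl ((Nat.prime_dvd_prime_iff_eq hq Nat.prime_three).mp (hq.dvd_of_dvd_pow h)))
    · exact Or.inr (Or.inr (Or.inl ((Nat.prime_dvd_prime_iff_eq hq (by norm_num)).mp h)))
  · exact Or.inr (Or.inr (Or.inr ((Nat.prime_dvd_prime_iff_eq hq (by norm_num)).mp h)))

/-- the only products of two distinct primes that are orders of elements of `G₂(3)` are `2 * 3 = 3 * 2` -/
theorem pair_cases {r s : ℕ} (hr : r.Prime) (hs : s.Prime) (hrs : r ≠ s) (x : G3)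
    (hx : orderOf x = r * s) : (r = 2 ∧ s = 3) ∨ (r = 3 ∧ s = 2) := by
  have hdvd : r * s ∣ Nat.card G3 := hx ▸ orderOf_dvd_natCard x
  have hr' := prime_cases hcard hr (dvd_trans (dvd_mul_right r s) hdvd)
  have hs' := prime_cases hcard hs (dvd_trans (dvd_mul_left s r) hdvd)
  by_cases h13 : r = 13
  · subst h13
    exfalso
    refine no_thirteen hcard hs ?_ x hx
    rcases hs' with h | h | h | h
    · exact Or.inl h
    · exact Or.inr (Or.inl h)
    · exact Or.inr (Or.inr h)
    · exact absurd h.symm hrs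
  by_cases h13' : s = 13
  · subst h13'
    exfalso
    refine no_thirteen hcard hr ?_ x (by rw [hx, mul_comm])
    rcases hr' with h | h | h | h
    · exact Or.inl h
    · exact Or.inr (Or.inl h)
    · exact Or.inr (Or.inr h)
    · exact absurd h h13
  by_cases h7 : r = 7
  · subst h7
    exfalso
    refine no_seven hcard hs ?_ x hx
    rcases hs' with h | h | h | h
    · exact Or.inl h
    · exact Or.inr h
    · exact absurd h.symm hrs
    · exact absurd h h13'
  by_cases h7' : s = 7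
  · subst h7'
    exfalso
    refine no_seven hcard hr ?_ x (by rw [hx, mul_comm])
    rcases hr' with h | h | h | h
    · exact Or.inl h
    · exact Or.inr h
    · exact absurd h h7
    · exact absurd h h13
  rcases hr' with h | h | h | h
  · rcases hs' with h' | h' | h' | h'
    · exact absurd (h.trans h'.symm) hrs
    · exact Or.inl ⟨h, h'⟩
    · exact absurd h' h7'
    · exact absurd h' h13'
  · rcases hs' with h' | h' | h' | h'
    · exact Or.inr ⟨h, h'⟩
    · exact absurd (h.trans h'.symm) hrs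
    · exact absurd h' h7'
    · exact absurd h' h13'
  · exact absurd h h7
  · exact absurd h h13

end main

end Cfsg.Agent.Lib.Helper42.G2Three
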