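import Mathlib
import Cfsg.Agent.Lib.Helper41.MaxExcFrame
import Cfsg.Agent.S0307

set_option autoImplicit false

/-!
# `PGL₂(F)`: the subgroup `L = PSL₂(F)`, conjugation action of `GL₂(F)` (helper42)
-/

namespace Cfsg.Agent.Lib.Helper42

open Cfsg.Agent.Lib.Helper11 Cfsg.Agent.Lib.Helper41

variable {F : Type*} [Field F]

local notation "SL2" => Matrix.SpecialLinearGroup (Fin 2) F
local notation "PSL2" => Matrix.ProjectiveSpecialLinearGroup (Fin 2) F
local notation "GL2" => GL (Fin 2) F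
local notation "PGL2" => Matrix.ProjGenLinGroup (Fin 2) F

/-- `SL₂(F) → PGL₂(F)` -/
abbrev slPGL : SL2 →* PGL2 := Matrix.ProjGenLinGroup.mk.comp Matrix.SpecialLinearGroup.toGL

/-- `PSL₂(F) → PGL₂(F)` -/
abbrev pslPGL : PSL2 →* PGL2 := Matrix.ProjectiveSpecialLinearGroup.toPGL

/-- the subgroup `L`, the image of `SL₂(F)` in `PGL₂(F)` -/
def pglL (F : Type*) [Field F] : Subgroup (Matrix.ProjGenLinGroup (Fin 2) F) :=
  (Matrix.ProjGenLinGroup.mk.comp Matrix.SpecialLinearGroup.toGL).range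

theorem pslPGL_prj (X : SL2) : pslPGL (prj X) = slPGL X := rfl

theorem pslPGL_injective : Function.Injective (pslPGL (F := F)) :=
  Matrix.ProjectiveSpecialLinearGroup.toPGL_injective

theorem pglL_eq_range : pglL F = (pslPGL (F := F)).range := by
  ext x
  constructor
  · rintro ⟨X, rfl⟩
    exact ⟨prj X, rfl⟩
  · rintro ⟨y, rfl⟩
    obtain ⟨X, rfl⟩ := prj_surjective y
    exact ⟨X, rfl⟩

theorem toGL_glConj (W : GL2) (X : SL2) :
    Matrix.SpecialLinearGroup.toGL (glConj W X) = W * Matrix.SpecialLinearGroup.toGL X * W⁻¹ := by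
  apply Units.ext
  rw [Units.val_mul, Units.val_mul]
  rfl

theorem mk_conj_slPGL (W : GL2) (X : SL2) :
    Matrix.ProjGenLinGroup.mk W * slPGL X * (Matrix.ProjGenLinGroup.mk W)⁻¹
      = slPGL (glConj W X) := by
  show Matrix.ProjGenLinGroup.mk W * Matrix.ProjGenLinGroup.mk (Matrix.SpecialLinearGroup.toGL X)
      * (Matrix.ProjGenLinGroup.mk W)⁻¹
    = Matrix.ProjGenLinGroup.mk (Matrix.SpecialLinearGroup.toGL (glConj W X))
  rw [toGL_glConj, map_mul, map_mul, map_inv]

instance pglL_normal : (pglL F).Normal := by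
  constructor
  intro x hx g
  obtain ⟨X, rfl⟩ := hx
  induction g using Matrix.ProjGenLinGroup.induction_on with | mk W =>
  exact ⟨glConj W X, (mk_conj_slPGL W X).symm⟩

theorem index_pglL [Fintype F] (hodd : Odd (Fintype.card F)) : (pglL F).index = 2 := by
  obtain ⟨g, hg, hker⟩ := Cfsg.Agent.S0307.result (F := F) rfl 2 (by norm_num)
  have h2 : Nat.gcd 2 (Fintype.card F - 1) = 2 := by
    rcases hodd with ⟨k, hk⟩
    rw [hk]
    simp
  have hL : pglL F = g.ker := by rw [hker]; exact pglL_eq_range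
  rw [hL, Subgroup.index_ker, MonoidHom.range_eq_top.mpr hg, Subgroup.card_top, h2]
  simp [Nat.card_eq_fintype_card]

/-- `GL₂(F)`-conjugation on `PSL₂(F)` -/
noncomputable def glConjBar (W : GL2) : MulAut PSL2 :=
  Cfsg.Agent.Lib.Helper41.descend (glConj W)

theorem glConjBar_prj (W : GL2) (X : SL2) : glConjBar W (prj X) = prj (glConj W X) :=
  Cfsg.Agent.Lib.Helper41.descend_mk _ _

theorem mk_conj_pslPGL (W : GL2) (y : PSL2) :
    Matrix.ProjGenLinGroup.mk W * pslPGL y * (Matrix.ProjGenLinGroup.mk W)⁻¹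
      = pslPGL (glConjBar W y) := by
  obtain ⟨X, rfl⟩ := prj_surjective y
  rw [glConjBar_prj, pslPGL_prj, pslPGL_prj, mk_conj_slPGL]

theorem glConj_toGL (Y X : SL2) :
    glConj (Matrix.SpecialLinearGroup.toGL Y) X = Y * X * Y⁻¹ := by
  apply Subtype.ext
  rw [glConj_apply, coe_glConjFun, ← map_inv]
  rfl

theorem glConjBar_toGL (Y : SL2) (y : PSL2) :
    glConjBar (Matrix.SpecialLinearGroup.toGL Y) y = prj Y * y * (prj Y)⁻¹ := by
  obtain ⟨X, rfl⟩ := prj_surjective y
  rw [glConjBar_prj, glConj_toGL, map_mul, map_mul, map_inv]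

theorem glConj_mul (W W' : GL2) : glConj (W * W') = glConj W * glConj W' := by
  ext X : 1
  apply Subtype.ext
  rw [MulAut.mul_apply, glConj_apply, glConj_apply, glConj_apply, coe_glConjFun, coe_glConjFun,
    coe_glConjFun, mul_inv_rev, Units.val_mul, Units.val_mul]
  simp only [Matrix.mul_assoc]

end Cfsg.Agent.Lib.Helper42
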