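import Mathlib
import Cfsg.Agent.Lib.Helper42.PGL2Basic

set_option autoImplicit false

/-!
# Maximal subgroups of `PGL₂(F)` not containing `PSL₂(F)`: general set-up (helper42)
-/

namespace Cfsg.Agent.Lib.Helper42

open Cfsg.Agent.Lib.Helper11 Cfsg.Agent.Lib.Helper41

variable {F : Type*} [Field F]

local notation "SL2" => Matrix.SpecialLinearGroup (Fin 2) F
local notation "PSL2" => Matrix.ProjectiveSpecialLinearGroup (Fin 2) F
local notation "GL2" => GL (Fin 2) F
local notation "PGL2" => Matrix.ProjGenLinGroup (Fin 2) F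

/-- the hypotheses on a maximal subgroup `M` of `PGL₂(F)` -/
structure MaxData (F : Type*) [Field F] [Fintype F]
    (M : Subgroup (Matrix.ProjGenLinGroup (Fin 2) F)) : Prop where
  hodd : Odd (Fintype.card F)
  h3 : 3 < Fintype.card F
  hM : IsCoatom M
  hML : ¬ pglL F ≤ M

/-- `M ∩ L` as a subgroup of `PSL₂(F)` -/
def barH (M : Subgroup PGL2) : Subgroup PSL2 := M.comap pslPGL

theorem mem_barH_iff (M : Subgroup PGL2) (y : PSL2) : y ∈ barH M ↔ pslPGL y ∈ M := Iff.rfl

theorem prj_mem_barH_iff (M : Subgroup PGL2) (X : SL2) : prj X ∈ barH M ↔ slPGL X ∈ M := Iff.rfl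

theorem finite_PSL2 [Finite F] : Finite PSL2 := by
  have hfinS : Finite SL2 := by
    have : Finite (Matrix (Fin 2) (Fin 2) F) := inferInstance
    exact Finite.of_injective (fun g : SL2 => (g : Matrix (Fin 2) (Fin 2) F)) Subtype.val_injective
  exact Finite.of_surjective prj prj_surjective

theorem finite_PGL2 [Finite F] : Finite PGL2 := by
  have : Finite (Matrix (Fin 2) (Fin 2) F) := inferInstance
  have : Finite GL2 := Finite.of_injective (fun g : GL2 => (g : Matrix (Fin 2) (Fin 2) F))
    Units.val_injective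
  exact Finite.of_surjective _ Matrix.ProjGenLinGroup.mk_surjective

theorem glConjBar_mem_barH {M : Subgroup PGL2} {W : GL2} (hW : Matrix.ProjGenLinGroup.mk W ∈ M)
    {y : PSL2} (hy : y ∈ barH M) : glConjBar W y ∈ barH M := by
  rw [mem_barH_iff, ← mk_conj_pslPGL]
  exact M.mul_mem (M.mul_mem hW hy) (M.inv_mem hW)

namespace MaxData

variable [Fintype F] {M : Subgroup (Matrix.ProjGenLinGroup (Fin 2) F)}

theorem simple (D : MaxData F M) : IsSimpleGroup PSL2 := by
  apply Matrix.ProjectiveSpecialLinearGroup.rank_two_simple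
  rw [Nat.card_eq_fintype_card]
  have := D.h3
  omega

theorem barH_ne_top (D : MaxData F M) : barH M ≠ ⊤ := by
  intro h
  apply D.hML
  intro x hx
  rw [pglL_eq_range] at hx
  obtain ⟨y, rfl⟩ := hx
  have : y ∈ barH M := by rw [h]; trivial
  exact this

theorem card_eq (D : MaxData F M) : Nat.card M = 2 * Nat.card (barH M) := by
  have hfin : Finite PGL2 := finite_PGL2
  have hsup : M ⊔ pglL F = ⊤ := by
    by_contra hne
    have hlt : M < M ⊔ pglL F := by
      apply lt_of_le_of_ne le_sup_left
      intro heq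
      apply D.hML
      rw [heq]
      exact le_sup_right
    exact hne (D.hM.2 _ hlt)
  have h1 : (pglL F).relIndex M = 2 := by
    rw [← Subgroup.relIndex_sup_right, hsup, Subgroup.relIndex_top_right, index_pglL D.hodd]
  have h2 : Nat.card (barH M) = Nat.card ((pglL F).subgroupOf M) := by
    have e1 : Nat.card (barH M) = Nat.card ((barH M).map pslPGL) :=
      (Subgroup.card_map_of_injective pslPGL_injective).symm
    have e2 : (barH M).map pslPGL = M ⊓ pglL F := by
      rw [barH, Subgroup.map_comap_eq, pglL_eq_range, inf_comm]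
    rw [e1, e2]
    have e3 : ((pglL F).subgroupOf M).map M.subtype = M ⊓ pglL F := by
      rw [Subgroup.subgroupOf_map_subtype, inf_comm]
    rw [← e3, Subgroup.card_map_of_injective M.subtype_injective]
  rw [h2]
  have h3 := Subgroup.card_mul_index ((pglL F).subgroupOf M)
  have h4 : ((pglL F).subgroupOf M).index = 2 := h1
  rw [h4] at h3
  omega

/-- a subgroup of `M ∩ L` normalised by `M` has its normaliser contained in `M` -/
theorem mk_mem_of_invariant (D : MaxData F M) (K : Subgroup PSL2) (hK1 : K ≠ ⊥) (hKH : K ≤ barH M)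
    (hMK : ∀ W : GL2, Matrix.ProjGenLinGroup.mk W ∈ M → ∀ y ∈ K, glConjBar W y ∈ K)
    (W : GL2) (hW : ∀ y ∈ K, glConjBar W y ∈ K) : Matrix.ProjGenLinGroup.mk W ∈ M := by
  have hfin : Finite PGL2 := finite_PGL2
  have hsimple := D.simple
  set K' : Subgroup PGL2 := K.map pslPGL with hK'
  set N : Subgroup PGL2 := Subgroup.normalizer (K' : Set PGL2) with hN
  have hmemN : ∀ V : GL2, (∀ y ∈ K, glConjBar V y ∈ K) → Matrix.ProjGenLinGroup.mk V ∈ N := by
    intro V hV
    apply Subgroup.mem_normalizer_fintype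
    rintro n ⟨y, hy, rfl⟩
    rw [mk_conj_pslPGL]
    exact ⟨_, hV y hy, rfl⟩
  have hMN : M ≤ N := by
    intro m hm
    induction m using Matrix.ProjGenLinGroup.induction_on with | mk V =>
    exact hmemN V (hMK V hm)
  have hNtop : N ≠ ⊤ := by
    intro htop
    have hKn : K.Normal := by
      constructor
      intro y hy z
      have hz : pslPGL z ∈ N := by rw [htop]; trivial
      have := (hz (pslPGL y)).mp ⟨y, hy, rfl⟩
      obtain ⟨y', hy', hyy'⟩ := this
      have : y' = z * y * z⁻¹ := by
        apply pslPGL_injective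
        rw [hyy', map_mul, map_mul, map_inv]
      rw [← this]; exact hy'
    rcases hKn.eq_bot_or_eq_top with h | h
    · exact hK1 h
    · apply D.barH_ne_top
      rw [eq_top_iff, ← h]
      exact hKH
  have hMeqN : M = N := by
    rcases eq_or_lt_of_le hMN with h | h
    · exact h
    · exact absurd (D.hM.2 N h) hNtop
  rw [hMeqN]
  exact hmemN W hW

/-- a subgroup of `M ∩ L` normalised by `M` has its normaliser in `PSL₂` contained in `M ∩ L` -/
theorem mem_barH_of_invariant (D : MaxData F M) (K : Subgroup PSL2) (hK1 : K ≠ ⊥) (hKH : K ≤ barH M)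
    (hMK : ∀ W : GL2, Matrix.ProjGenLinGroup.mk W ∈ M → ∀ y ∈ K, glConjBar W y ∈ K)
    (z : PSL2) (hz : ∀ y ∈ K, z * y * z⁻¹ ∈ K) : z ∈ barH M := by
  obtain ⟨Z, rfl⟩ := prj_surjective z
  rw [prj_mem_barH_iff]
  apply D.mk_mem_of_invariant K hK1 hKH hMK
  intro y hy
  rw [glConjBar_toGL]
  exact hz y hy

/-- conjugating `M` by an element of `PGL₂(F)` -/
theorem conj (D : MaxData F M) (g : PGL2) : MaxData F (M.map (MulAut.conj g).toMonoidHom) where
  hodd := D.hodd
  h3 := D.h3
  hM := (OrderIso.isCoatom_iff (MulEquiv.mapSubgroup (MulAut.conj g)) M).mpr D.hM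
  hML := by
    intro h
    apply D.hML
    intro x hx
    have hx' : g * x * g⁻¹ ∈ pglL F := (pglL_normal (F := F)).conj_mem x hx g
    obtain ⟨y, hy, hyx⟩ := h hx'
    have : y = x := by
      have h1 : g * y * g⁻¹ = g * x * g⁻¹ := hyx
      have h2 : g * y = g * x := mul_right_cancel h1
      exact mul_left_cancel h2
    rw [← this]; exact hy

end MaxData

theorem barH_map_conj (M : Subgroup PGL2) (W : GL2) :
    barH (M.map (MulAut.conj (Matrix.ProjGenLinGroup.mk W)).toMonoidHom)
      = (barH M).map (glConjBar W).toMonoidHom := by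
  ext y
  constructor
  · intro hy
    rw [mem_barH_iff] at hy
    obtain ⟨m, hm, hmy⟩ := hy
    have hmy' : Matrix.ProjGenLinGroup.mk W * m * (Matrix.ProjGenLinGroup.mk W)⁻¹ = pslPGL y := hmy
    refine ⟨(glConjBar W).symm y, ?_, ?_⟩
    · show pslPGL ((glConjBar W).symm y) ∈ M
      have : pslPGL ((glConjBar W).symm y) = m := by
        have h1 := mk_conj_pslPGL W ((glConjBar W).symm y)
        rw [MulEquiv.apply_symm_apply, ← hmy'] at h1
        have h2 := mul_right_cancel h1
        exact mul_left_cancel h2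
      rw [this]; exact hm
    · exact MulEquiv.apply_symm_apply _ _
  · rintro ⟨y0, hy0, rfl⟩
    rw [mem_barH_iff]
    refine ⟨pslPGL y0, hy0, ?_⟩
    exact mk_conj_pslPGL W y0

end Cfsg.Agent.Lib.Helper42
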