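import Mathlib
import Cfsg.Agent.Lib.Helper42.PGL2Max
import Cfsg.Agent.Lib.Helper42.PPrimeMain
import Cfsg.Agent.Lib.Helper41.MaxTorus

set_option autoImplicit false

/-!
# Standard tori of `PSL₂(F)` as abstract data (helper42)
-/

namespace Cfsg.Agent.Lib.Helper42

open Cfsg.Agent.Lib.Helper11 Cfsg.Agent.Lib.Helper41 Cfsg.Agent.Lib.Helper14

/-- a cyclic subgroup `T` of order `n` inside a dihedral group `D ≅ D_n` acting on `T` by
`y ↦ y^{±1}` -/
def IsTorusPair {G : Type*} [Group G] (T D : Subgroup G) (n : ℕ) : Prop :=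
  T ≤ D ∧ IsCyclic T ∧ Nat.card T = n ∧ Nonempty (D ≃* DihedralGroup n) ∧
    ∀ d ∈ D, ∀ y ∈ T, d * y * d⁻¹ = y ∨ d * y * d⁻¹ = y⁻¹

/-- in a torus pair with `n ≥ 3`, the elements of `D` outside `T` are involutions -/
theorem IsTorusPair.mem_of_sq_ne_one {G : Type*} [Group G] {T D : Subgroup G} {n : ℕ}
    (h : IsTorusPair T D n) (h3 : 3 ≤ n) {d : G} (hd : d ∈ D) (hdd : d * d ≠ 1) : d ∈ T := by
  obtain ⟨hTD, hcyc, hcardT, ⟨eD⟩, -⟩ := h
  have hn0 : NeZero n := ⟨by omega⟩
  obtain ⟨⟨y0, hy0T⟩, hgen⟩ := IsCyclic.exists_generator (α := T)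
  have ho : orderOf y0 = n := by
    have h1 := orderOf_eq_card_of_forall_mem_zpowers hgen
    rw [hcardT] at h1
    rw [← h1]
    exact (Subgroup.orderOf_mk y0 hy0T).symm
  have ho' : orderOf (eD ⟨y0, hTD hy0T⟩) = n := by
    rw [MulEquiv.orderOf_eq, Subgroup.orderOf_mk, ho]
  have hcase : ∃ j0 : ZMod n, eD ⟨y0, hTD hy0T⟩ = DihedralGroup.r j0 := by
    cases hc : eD ⟨y0, hTD hy0T⟩ with
    | r j0 => exact ⟨j0, rfl⟩
    | sr j0 =>
      rw [hc, DihedralGroup.orderOf_sr] at ho'
      omega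
  obtain ⟨j0, hj0⟩ := hcase
  have hgcd : Nat.gcd n j0.val = 1 := by
    rw [hj0, DihedralGroup.orderOf_r] at ho'
    rcases Nat.div_eq_self.mp ho' with h0 | h0
    · omega
    · exact h0
  cases hc : eD ⟨d, hd⟩ with
  | sr i =>
    exfalso
    apply hdd
    have h1 : eD (⟨d, hd⟩ * ⟨d, hd⟩) = 1 := by
      rw [map_mul, hc, DihedralGroup.sr_mul_self]
    have h2 : (⟨d, hd⟩ * ⟨d, hd⟩ : D) = 1 := by
      apply eD.injective
      rw [h1, map_one]
    exact congrArg Subtype.val h2
  | r i =>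
    set u := ZMod.unitOfCoprime j0.val (Nat.Coprime.symm hgcd) with hu
    have hu' : (u : ZMod n) = j0 := by
      rw [hu, ZMod.coe_unitOfCoprime, ZMod.natCast_zmod_val]
    set m : ℕ := (i * (u⁻¹ : (ZMod n)ˣ)).val with hm
    have hm' : j0 * (m : ZMod n) = i := by
      rw [hm, ZMod.natCast_zmod_val, ← hu', mul_comm, mul_assoc, Units.inv_mul, mul_one]
    have h1 : eD (⟨y0, hTD hy0T⟩ ^ m) = eD ⟨d, hd⟩ := by
      rw [map_pow, hj0, DihedralGroup.r_pow, hm', hc]
    have h2 := eD.injective h1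
    have h3 : y0 ^ m = d := by
      have := congrArg Subtype.val h2
      simpa using this
    rw [← h3]
    exact T.pow_mem hy0T m

variable {F : Type*} [Field F]

local notation "SL2" => Matrix.SpecialLinearGroup (Fin 2) F
local notation "PSL2" => Matrix.ProjectiveSpecialLinearGroup (Fin 2) F

theorem card_center_of_odd [Fintype F] (hodd : Odd (Fintype.card F)) :
    Nat.card (Subgroup.center SL2) = 2 := by
  rw [card_center_eq_gcd, gcd_two_pred_of_odd hodd]

theorem exists_torusPair_minus [Fintype F] (hodd : Odd (Fintype.card F)) :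
    ∃ T D : Subgroup PSL2, IsTorusPair T D ((Fintype.card F - 1) / 2) := by
  have hT : Nat.card (splitTorusBar F) = (Fintype.card F - 1) / 2 := by
    have := card_splitTorusBar_mul (F := F)
    rw [card_center_of_odd hodd] at this
    omega
  refine ⟨splitTorusBar F, splitDih F, Subgroup.map_mono diagSub_le_monoSub, inferInstance, hT, ?_,
    splitDih_conj⟩
  rw [← hT]
  exact splitDih_dihedral

theorem exists_torusPair_plus [Fintype F] (hodd : Odd (Fintype.card F)) :
    ∃ T D : Subgroup PSL2, IsTorusPair T D ((Fintype.card F + 1) / 2) := by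
  obtain ⟨t, ht⟩ := exists_nonsplit_trace (F := F)
  have hT : Nat.card (nsTorusBar t) = (Fintype.card F + 1) / 2 := by
    have := card_nsTorusBar_mul ht
    rw [card_center_of_odd hodd] at this
    omega
  refine ⟨nsTorusBar t, nsDih t, Subgroup.map_mono (nsTorus_le_nsNorm t), isCyclic_nsTorusBar ht,
    hT, ?_, nsDih_conj t⟩
  rw [← hT]
  exact nsDih_dihedral ht

/-- `2 |PSL₂(q)| = q (q - 1) (q + 1)` -/
theorem card_PSL2_two_mul [Fintype F] (hodd : Odd (Fintype.card F)) :
    2 * Nat.card PSL2 = Fintype.card F * (Fintype.card F - 1) * (Fintype.card F + 1) := by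
  have h := card_PSL2_mul_gcd (K := F)
  rw [gcd_two_pred_of_odd hodd] at h
  have hq : 1 ≤ Fintype.card F := Fintype.card_pos
  have h3 : Fintype.card F ^ 2 - 1 = (Fintype.card F - 1) * (Fintype.card F + 1) := by
    obtain ⟨a, ha⟩ : ∃ a, Fintype.card F = a + 1 := ⟨Fintype.card F - 1, by omega⟩
    rw [ha]
    simp only [Nat.add_sub_cancel]
    have : (a + 1) ^ 2 = a * (a + 1 + 1) + 1 := by ring
    rw [this, Nat.add_sub_cancel]
  rw [h3] at h
  rw [mul_comm 2, h, mul_assoc]

end Cfsg.Agent.Lib.Helper42
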