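import Mathlib
import Cfsg.Agent.Lib.Helper42.PGL2Torus

set_option autoImplicit false

namespace Cfsg.Agent.Lib.Helper42.G2Three

open Matrix

/-- the coefficients of `g ^ k = cheb t k • g - cheb t (k - 1) • 1` for `g` of trace `t` and determinant one -/
def cheb {R : Type*} [CommRing R] (t : R) : ℕ → R
  | 0 => 0
  | 1 => 1
  | (k + 2) => t * cheb t (k + 1) - cheb t k

theorem cheb_map {R S : Type*} [CommRing R] [CommRing S] (f : R →+* S) (t : R) :
    ∀ k : ℕ, f (cheb t k) = cheb (f t) k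
  | 0 => by simp [cheb]
  | 1 => by simp [cheb]
  | (k + 2) => by
    rw [cheb, cheb, map_sub, map_mul, cheb_map f t (k + 1), cheb_map f t k]

theorem sq_of_det_one {R : Type*} [CommRing R] (M : Matrix (Fin 2) (Fin 2) R) (hM : M.det = 1) :
    M * M = M.trace • M - 1 := by
  rw [Matrix.det_fin_two] at hM
  ext i j
  fin_cases i <;> fin_cases j <;>
    simp [Matrix.mul_apply, Fin.sum_univ_two, Matrix.trace] <;>
    first | linear_combination (-1 : R) * hM | linear_combination (1 : R) * hM | ring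

theorem pow_of_det_one {R : Type*} [CommRing R] (M : Matrix (Fin 2) (Fin 2) R) (hM : M.det = 1) :
    ∀ k : ℕ, M ^ (k + 1) = cheb M.trace (k + 1) • M - cheb M.trace k • (1 : Matrix (Fin 2) (Fin 2) R)
  | 0 => by simp [cheb]
  | (k + 1) => by
    rw [pow_succ, pow_of_det_one M hM k, sub_mul, smul_mul_assoc, smul_mul_assoc, one_mul,
      sq_of_det_one M hM, cheb]
    module

theorem cheb_thirteen : ∀ c : ZMod 13, cheb c 6 = 0 ∨ cheb c 7 = 0 ∨ cheb c 13 = 0 := by
  decide


section thirteen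

variable {E : Type*} [Field E] [Fintype E]

local notation "SL2" => Matrix.SpecialLinearGroup (Fin 2) E
local notation "PSL2" => Matrix.ProjectiveSpecialLinearGroup (Fin 2) E

theorem cheb_card_thirteen (hE : Fintype.card E = 13) (t : E) :
    cheb t 6 = 0 ∨ cheb t 7 = 0 ∨ cheb t 13 = 0 := by
  have e : ZMod 13 ≃+* E := ZMod.ringEquivOfPrime E (by norm_num) hE
  obtain ⟨c, rfl⟩ := e.surjective t
  have key : ∀ k : ℕ, cheb c k = 0 → cheb (e c) k = 0 := by
    intro k h
    have := cheb_map (e : ZMod 13 →+* E) c k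
    rw [h, map_zero] at this
    exact this.symm
  rcases cheb_thirteen c with h | h | h
  · exact Or.inl (key 6 h)
  · exact Or.inr (Or.inl (key 7 h))
  · exact Or.inr (Or.inr (key 13 h))

omit [Fintype E] in
theorem sl2_pow_mem_center (g : SL2) (k : ℕ)
    (hk : cheb (g : Matrix (Fin 2) (Fin 2) E).trace (k + 1) = 0) :
    g ^ (k + 1) ∈ Subgroup.center SL2 := by
  rw [Subgroup.mem_center_iff]
  intro h
  apply Subtype.ext
  have h1 : ((g ^ (k + 1) : SL2) : Matrix (Fin 2) (Fin 2) E)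
      = (- cheb (g : Matrix (Fin 2) (Fin 2) E).trace k) • (1 : Matrix (Fin 2) (Fin 2) E) := by
    rw [Matrix.SpecialLinearGroup.coe_pow, pow_of_det_one _ g.det_coe k, hk, zero_smul, zero_sub, neg_smul]
  rw [Matrix.SpecialLinearGroup.coe_mul, Matrix.SpecialLinearGroup.coe_mul, h1, mul_smul_comm,
    smul_mul_assoc, mul_one, one_mul]

theorem psl_pow_eq_one (hE : Fintype.card E = 13) (y : PSL2) :
    y ^ 6 = 1 ∨ y ^ 7 = 1 ∨ y ^ 13 = 1 := by
  obtain ⟨g, rfl⟩ := QuotientGroup.mk_surjective y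
  have key : ∀ k : ℕ, cheb (g : Matrix (Fin 2) (Fin 2) E).trace (k + 1) = 0 →
      (QuotientGroup.mk g : PSL2) ^ (k + 1) = 1 := by
    intro k hk
    rw [← QuotientGroup.mk_pow]
    exact (QuotientGroup.eq_one_iff _).mpr (sl2_pow_mem_center g k hk)
  rcases cheb_card_thirteen hE (g : Matrix (Fin 2) (Fin 2) E).trace with h | h | h
  · exact Or.inl (key 5 h)
  · exact Or.inr (Or.inl (key 6 h))
  · exact Or.inr (Or.inr (key 12 h))

theorem psl_pair (hE : Fintype.card E = 13) {r s : ℕ} (hr : r.Prime) (hs : s.Prime) (hrs : r ≠ s)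
    (y : PSL2) (hy : orderOf y = r * s) : (r = 2 ∧ s = 3) ∨ (r = 3 ∧ s = 2) := by
  have h23 : ∀ q : ℕ, q.Prime → q ∣ 6 → q = 2 ∨ q = 3 := by
    intro q hq h
    have h6 : (6 : ℕ) = 2 * 3 := by norm_num
    rw [h6] at h
    rcases (Nat.Prime.dvd_mul hq).mp h with h | h
    · exact Or.inl ((Nat.prime_dvd_prime_iff_eq hq Nat.prime_two).mp h)
    · exact Or.inr ((Nat.prime_dvd_prime_iff_eq hq Nat.prime_three).mp h)
  have hp : ∀ p : ℕ, p.Prime → r * s ∣ p → False := by
    intro p hp h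
    have h1 : r = p := (Nat.prime_dvd_prime_iff_eq hr hp).mp (dvd_trans (dvd_mul_right r s) h)
    have h2 : s = p := (Nat.prime_dvd_prime_iff_eq hs hp).mp (dvd_trans (dvd_mul_left s r) h)
    exact hrs (h1.trans h2.symm)
  rcases psl_pow_eq_one hE y with h | h | h
  · have hd : r * s ∣ 6 := hy ▸ orderOf_dvd_of_pow_eq_one h
    rcases h23 r hr (dvd_trans (dvd_mul_right r s) hd) with h1 | h1 <;>
      rcases h23 s hs (dvd_trans (dvd_mul_left s r) hd) with h2 | h2
    · exact absurd (h1.trans h2.symm) hrs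
    · exact Or.inl ⟨h1, h2⟩
    · exact Or.inr ⟨h1, h2⟩
    · exact absurd (h1.trans h2.symm) hrs
  · exact (hp 7 (by norm_num) (hy ▸ orderOf_dvd_of_pow_eq_one h)).elim
  · exact (hp 13 (by norm_num) (hy ▸ orderOf_dvd_of_pow_eq_one h)).elim

theorem psl_exists_six (hE : Fintype.card E = 13) : ∃ y : PSL2, orderOf y = 6 := by
  have hodd : Odd (Fintype.card E) := by rw [hE]; decide
  obtain ⟨T, D, -, hcyc, hcard, -, -⟩ := exists_torusPair_minus (F := E) hodd
  rw [hE] at hcard
  obtain ⟨y, hgen⟩ := IsCyclic.exists_generator (α := T)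
  have h1 : orderOf y = 6 := by
    rw [orderOf_eq_card_of_forall_mem_zpowers hgen, hcard]
  refine ⟨(y : PSL2), ?_⟩
  rw [Subgroup.orderOf_coe, h1]

theorem psl_card (hE : Fintype.card E = 13) : Nat.card PSL2 = 1092 := by
  have hodd : Odd (Fintype.card E) := by rw [hE]; decide
  have := card_PSL2_two_mul (F := E) hodd
  rw [hE] at this
  omega

end thirteen

/-- the prime divisors of `|G₂(3)|` and of `|PSL₂(13)|` are the same -/
theorem prime_dvd_iff {r : ℕ} (hr : r.Prime) : r ∣ 3 ^ 6 * (3 ^ 2 - 1) * (3 ^ 6 - 1) ↔ r ∣ 1092 := by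
  have h1 : 3 ^ 6 * (3 ^ 2 - 1) * (3 ^ 6 - 1) = 1092 * (2 ^ 4 * 3 ^ 5) := by norm_num
  rw [h1]
  constructor
  · intro h
    rcases (Nat.Prime.dvd_mul hr).mp h with h | h
    · exact h
    · rcases (Nat.Prime.dvd_mul hr).mp h with h | h
      · have := (Nat.prime_dvd_prime_iff_eq hr Nat.prime_two).mp (hr.dvd_of_dvd_pow h)
        subst this
        norm_num
      · have := (Nat.prime_dvd_prime_iff_eq hr Nat.prime_three).mp (hr.dvd_of_dvd_pow h)
        subst this
        norm_num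
  · intro h
    exact dvd_trans h (dvd_mul_right _ _)

end Cfsg.Agent.Lib.Helper42.G2Three
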