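import Mathlib
import Cfsg.Prelude.Def_Chevalley

set_option autoImplicit false

/-!
# Chevalley groups over isomorphic fields are isomorphic (helper42)
-/

namespace Cfsg.Agent.Lib.Helper42.G2Three

open Cfsg.Lie

/-- Root elements commute with ring homomorphisms (the proof is the one of helper57's `B22.xMat_map`). -/
theorem xMat_map' (D : ChevalleyDatum) {K F : Type*} [Field K] [Field F] (φ : K →+* F)
    (r : Fin D.nroots) (t : K) : (D.xMat K r t).map φ = D.xMat F r (φ t) := by
  ext row col
  simp only [Matrix.map_apply, ChevalleyDatum.xMat, Matrix.of_apply]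
  rcases col with i | s
  · rcases row with i' | u
    · simp only [apply_ite φ, map_one, map_zero]
    · simp only [apply_ite φ, map_neg, map_mul, map_intCast, map_zero]
  · by_cases h1 : s = r
    · simp only [h1, if_true]
      rcases row with i' | u
      · simp
      · simp only [apply_ite φ, map_one, map_zero]
    · simp only [h1, if_false]
      by_cases h2 : s.val = D.negIdx.getD r.val 0
      · simp only [h2, if_true]
        rcases row with i' | u
        · simp only [map_mul, map_intCast]
        · simp only [apply_ite φ, map_one, map_neg, map_pow, map_zero]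
      · simp only [h2, if_false]
        rcases row with i' | u
        · simp
        · simp only [map_add, apply_ite φ, map_one, map_zero, map_list_sum, List.map_map]
          congr 2
          apply List.map_congr_left
          intro km _
          simp only [Function.comp_apply, map_mul, map_intCast, map_pow]

variable (D : ChevalleyDatum) {K F : Type*} [Field K] [Field F]

/-- the isomorphism of general linear groups induced by a ring isomorphism -/
def glEquiv (e : K ≃+* F) : GL D.Idx K ≃* GL D.Idx F :=
  Units.mapEquiv (RingEquiv.mapMatrix e : Matrix D.Idx D.Idx K ≃+* Matrix D.Idx D.Idx F).toMulEquiv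

theorem glEquiv_coe (e : K ≃+* F) (g : GL D.Idx K) :
    ((glEquiv D e g : GL D.Idx F) : Matrix D.Idx D.Idx F) = (g : Matrix D.Idx D.Idx K).map e := rfl

theorem glEquiv_symm_coe (e : K ≃+* F) (g : GL D.Idx F) :
    (((glEquiv D e).symm g : GL D.Idx K) : Matrix D.Idx D.Idx K) =
      (g : Matrix D.Idx D.Idx F).map e.symm := rfl

theorem map_group (e : K ≃+* F) :
    (D.group K).map ((glEquiv D e : GL D.Idx K ≃* GL D.Idx F) : GL D.Idx K →* GL D.Idx F) = D.group F := by
  unfold ChevalleyDatum.group
  rw [MonoidHom.map_closure]
  congr 1
  ext g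
  simp only [Set.mem_image, Set.mem_ofPred_eq]
  constructor
  · rintro ⟨g', ⟨r, t, hg'⟩, rfl⟩
    refine ⟨r, e t, ?_⟩
    change ((glEquiv D e g' : GL D.Idx F) : Matrix D.Idx D.Idx F) = _
    rw [glEquiv_coe, hg']
    exact xMat_map' D (e : K →+* F) r t
  · rintro ⟨r, t, hg⟩
    refine ⟨(glEquiv D e).symm g, ⟨r, e.symm t, ?_⟩, ?_⟩
    · rw [glEquiv_symm_coe, hg]
      exact xMat_map' D (e.symm : F →+* K) r t
    · exact (glEquiv D e).apply_symm_apply g

/-- Chevalley groups over isomorphic fields are isomorphic. -/
noncomputable def groupEquiv (e : K ≃+* F) : ↥(D.group K) ≃* ↥(D.group F) :=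
  ((glEquiv D e).subgroupMap (D.group K)).trans (MulEquiv.subgroupCongr (map_group D e))

end Cfsg.Agent.Lib.Helper42.G2Three
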