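/-
helper42: module HIG-[DECOMP] of helper48's project HIG = S3050 (Higman's lemma; board #5897, sheet
Lib/Helper48/Hig/HIG_MODULES.md): if `M` has exponent 2 and `M = V0 = W · wW` (`W = C_M(U)`), then
`M` is a direct product of natural modules.

`exists_decomp_of` takes the two facts of module [V0INV] that are used (`fix_inf_ww`, `uu_ww_fix`) as
hypotheses.  Method: `W` is a direct product of "lines" `L_v = {h(t) v} ∪ {1}` (Maschke for the torus
`Fˣ` acting on the elementary abelian 2-group `M`, induction), and `L_v · w L_v` is the image of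
helper19's `psi φ v`.
-/
import Mathlib
import Cfsg.Agent.Lib.Helper48.Hig.Act
import Cfsg.Agent.Lib.Helper24.Maschke
import Cfsg.Agent.Lib.Helper19.NatSL2Main
import Cfsg.Agent.Lib.Helper51.HigV0Inv

set_option autoImplicit false
set_option linter.unusedSectionVars false
set_option linter.unusedVariables false

namespace Cfsg.Agent.Lib.Helper42.Hig

open Matrix Matrix.SpecialLinearGroup
open scoped MatrixGroups
open Cfsg.Agent.Lib.Helper19.NatSL2
open Cfsg.Agent.Lib.Helper48.Hig

section abstract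

variable {F : Type*} [Field F] [CharP F 2] {M : Type*} [CommGroup M] (φ : SL(2, F) →* MulAut M)

/-! ### the operator `X ↦ X · wX` -/

/-- `X ⊔ w X` -/
def dbl (X : Subgroup M) : Subgroup M := X ⊔ X.map (φ ww).toMonoidHom

theorem dbl_iSup {ι : Sort*} (X : ι → Subgroup M) : dbl φ (⨆ i, X i) = ⨆ i, dbl φ (X i) := by
  unfold dbl
  rw [Subgroup.map_iSup, iSup_sup_eq]

theorem mem_dbl {X : Subgroup M} {m : M} :
    m ∈ dbl φ X ↔ ∃ x ∈ X, ∃ y ∈ X, m = x * φ ww y := by
  unfold dbl
  rw [Subgroup.mem_sup]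
  constructor
  · rintro ⟨y, hy, z, hz, rfl⟩
    obtain ⟨w', hw', rfl⟩ := Subgroup.mem_map.mp hz
    exact ⟨y, hy, w', hw', rfl⟩
  · rintro ⟨w, hw, w', hw', rfl⟩
    exact ⟨w, hw, _, Subgroup.mem_map.mpr ⟨w', hw', rfl⟩, rfl⟩

theorem ww_ww_apply (m : M) : φ ww (φ ww m) = m := by
  rw [← phi_mul, ww_mul_ww, map_one, MulAut.one_apply]

theorem dbl_disjoint (hd : ∀ m ∈ fixU φ, φ ww m ∈ fixU φ → m = 1) {X Y : Subgroup M}
    (hX : X ≤ fixU φ) (hY : Y ≤ fixU φ) (hXY : Disjoint X Y) :
    Disjoint (dbl φ X) (dbl φ Y) := by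
  rw [Subgroup.disjoint_def] at hXY ⊢
  intro m hmX hmY
  obtain ⟨x1, hx1, x2, hx2, rfl⟩ := (mem_dbl φ).mp hmX
  obtain ⟨y1, hy1, y2, hy2, h⟩ := (mem_dbl φ).mp hmY
  have h1 : y1⁻¹ * x1 = φ ww (y2 * x2⁻¹) := by
    rw [map_mul, map_inv]
    have := eq_mul_inv_of_mul_eq h
    rw [this]
    group
  have hz : y1⁻¹ * x1 ∈ fixU φ := mul_mem (inv_mem (hY hy1)) (hX hx1)
  have hz' : φ ww (y1⁻¹ * x1) ∈ fixU φ := by
    rw [h1, ww_ww_apply]
    exact mul_mem (hY hy2) (inv_mem (hX hx2))
  have e1 : y1⁻¹ * x1 = 1 := hd _ hz hz'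
  have e2 : y2 * x2⁻¹ = 1 := by
    rw [e1] at h1
    exact (map_eq_one_iff _ (φ ww).injective).mp h1.symm
  have hx1y1 : y1 = x1 := inv_mul_eq_one.mp e1
  have hx2y2 : y2 = x2 := mul_inv_eq_one.mp e2
  have hx1' : x1 = 1 := hXY hx1 (hx1y1 ▸ hy1)
  have hx2' : x2 = 1 := hXY hx2 (hx2y2 ▸ hy2)
  rw [hx1', hx2', map_one, mul_one]

/-! ### lines -/

/-- the line `{h(t) v} ∪ {1}` through `v` (as the subgroup it generates) -/
def line (v : M) : Subgroup M := Subgroup.closure (Set.range (ff φ v))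

section lines

variable (hd : ∀ m ∈ fixU φ, φ ww m ∈ fixU φ → m = 1)
  (hq' : ∀ m ∈ fixU φ, φ ww m ∈ quadU φ)

include hd hq' in
theorem mem_line {v : M} (hv : v ∈ fixU φ) {m : M} : m ∈ line φ v ↔ ∃ a : F, ff φ v a = m := by
  constructor
  · intro hm
    unfold line at hm
    induction hm using Subgroup.closure_induction with
    | mem x hx => exact hx
    | one => exact ⟨0, ff_zero φ v⟩
    | mul x y _ _ hx hy =>
      obtain ⟨a, rfl⟩ := hx
      obtain ⟨b, rfl⟩ := hy
      exact ⟨a + b, ff_add φ hd hq' hv a b⟩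
    | inv x _ hx =>
      obtain ⟨a, rfl⟩ := hx
      exact ⟨-a, ff_neg φ hd hq' hv a⟩
  · rintro ⟨a, rfl⟩
    exact Subgroup.subset_closure ⟨a, rfl⟩

theorem ff_mem_of_inv {X : Subgroup M} (hXH : ∀ t : Fˣ, ∀ x ∈ X, φ (hh t) x ∈ X) {v : M}
    (hv : v ∈ X) (a : F) : ff φ v a ∈ X := by
  by_cases h : a = 0
  · subst h; rw [ff_zero]; exact one_mem _
  · lift a to Fˣ using IsUnit.mk0 a h
    rw [ff_unit]; exact hXH a v hv

theorem line_le {X : Subgroup M} (hXH : ∀ t : Fˣ, ∀ x ∈ X, φ (hh t) x ∈ X) {v : M}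
    (hv : v ∈ X) : line φ v ≤ X := by
  unfold line
  rw [Subgroup.closure_le]
  rintro _ ⟨a, rfl⟩
  exact ff_mem_of_inv φ hXH hv a

theorem self_mem_line (v : M) : v ∈ line φ v := by
  refine Subgroup.subset_closure ⟨1, ?_⟩
  have := ff_unit φ v 1
  rw [Units.val_one, hh_one, map_one, MulAut.one_apply] at this
  exact this

include hd hq' in
theorem line_hh {v : M} (hv : v ∈ fixU φ) (t : Fˣ) {x : M} (hx : x ∈ line φ v) :
    φ (hh t) x ∈ line φ v := by
  obtain ⟨a, rfl⟩ := (mem_line φ hd hq' hv).mp hx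
  rw [← ff_mul]
  exact Subgroup.subset_closure ⟨_, rfl⟩

/-! ### the natural submodule through `v` -/

/-- helper19's `psi φ v` as a homomorphism -/
noncomputable def natHom {v : M} (hv : v ∈ fixU φ) : Multiplicative (Fin 2 → F) →* M where
  toFun x := psi φ v (Multiplicative.toAdd x)
  map_one' := by simp [psi_zero]
  map_mul' x y := by
    rw [toAdd_mul]
    exact psi_add φ hd hq' hv _ _

theorem natHom_apply {v : M} (hv : v ∈ fixU φ) (x : Multiplicative (Fin 2 → F)) :
    natHom φ hd hq' hv x = ff φ v (Multiplicative.toAdd x 0) * φ ww (ff φ v (Multiplicative.toAdd x 1)) := by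
  show psi φ v (Multiplicative.toAdd x) = _
  unfold psi
  rw [ww_inv']

theorem natHom_injective {v : M} (hv : v ∈ fixU φ) (hv1 : v ≠ 1) :
    Function.Injective (natHom φ hd hq' hv) := by
  rw [injective_iff_map_eq_one]
  intro x hx
  have := psi_injective φ hd hq' hv hv1 (Multiplicative.toAdd x) hx
  exact Multiplicative.toAdd.injective this

theorem natHom_equivariant {v : M} (hv : v ∈ fixU φ) (g : SL(2, F))
    (x : Multiplicative (Fin 2 → F)) :
    natHom φ hd hq' hv
      (Multiplicative.ofAdd ((g : Matrix (Fin 2) (Fin 2) F).mulVec (Multiplicative.toAdd x))) =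
      φ g (natHom φ hd hq' hv x) :=
  psi_equivariant φ hd hq' hv g _

theorem range_natHom {v : M} (hv : v ∈ fixU φ) :
    (natHom φ hd hq' hv).range = dbl φ (line φ v) := by
  apply le_antisymm
  · rintro _ ⟨x, rfl⟩
    rw [natHom_apply, mem_dbl]
    exact ⟨_, Subgroup.subset_closure ⟨_, rfl⟩, _, Subgroup.subset_closure ⟨_, rfl⟩, rfl⟩
  · unfold dbl
    apply sup_le
    · unfold line
      rw [Subgroup.closure_le]
      rintro _ ⟨a, rfl⟩
      refine ⟨Multiplicative.ofAdd ![a, 0], ?_⟩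
      rw [natHom_apply]
      simp [ff_zero]
    · rintro _ ⟨m, hm, rfl⟩
      obtain ⟨b, rfl⟩ := (mem_line φ hd hq' hv).mp hm
      refine ⟨Multiplicative.ofAdd ![0, b], ?_⟩
      rw [natHom_apply]
      simp [ff_zero]

end lines

/-! ### `W` is a direct product of lines -/

/-- the torus as a homomorphism -/
def hhHom : Fˣ →* SL(2, F) where
  toFun := hh
  map_one' := hh_one
  map_mul' := hh_mul

theorem card_units_coprime_two [Finite F] : (Nat.card Fˣ).Coprime 2 := by
  classical
  have : Fintype F := Fintype.ofFinite F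
  obtain ⟨n, -, hn⟩ := FiniteField.card F 2
  rw [Nat.coprime_two_right, Nat.card_units, Nat.card_eq_fintype_card, hn]
  exact Nat.Even.sub_odd (Nat.one_le_two_pow) (Nat.even_pow.mpr ⟨even_two, n.pos.ne'⟩) odd_one

theorem exists_lines [Finite F] [Finite M]
    (hd : ∀ m ∈ fixU φ, φ ww m ∈ fixU φ → m = 1)
    (hq' : ∀ m ∈ fixU φ, φ ww m ∈ quadU φ) (hexp : ∀ m : M, m * m = 1) :
    ∀ (n : ℕ) (X : Subgroup M), Nat.card X = n → X ≤ fixU φ →
      (∀ t : Fˣ, ∀ x ∈ X, φ (hh t) x ∈ X) →
      ∃ (ι : Type) (_ : Fintype ι) (v : ι → M), (∀ i, v i ∈ fixU φ ∧ v i ≠ 1) ∧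
        iSupIndep (fun i => line φ (v i)) ∧ ⨆ i, line φ (v i) = X := by
  intro n
  induction n using Nat.strong_induction_on with
  | _ n ih =>
    intro X hXn hXW hXH
    by_cases hbot : X = ⊥
    · refine ⟨Empty, inferInstance, Empty.elim, fun i => i.elim, ?_, ?_⟩
      · exact iSupIndep_subsingleton _
      · rw [iSup_of_empty, hbot]
    · obtain ⟨⟨v, hvX⟩, hv1'⟩ := (Subgroup.ne_bot_iff_exists_ne_one).mp hbot
      have hv1 : v ≠ 1 := fun h => hv1' (Subtype.ext h)
      have hv : v ∈ fixU φ := hXW hvX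
      have hLX : line φ v ≤ X := line_le φ hXH hvX
      -- Maschke for the torus
      obtain ⟨U', hU'H, hinf, hsup⟩ :=
        Cfsg.Agent.Lib.Helper24.exists_invariant_compl (V := M) 2 (fun x y => mul_comm x y)
          (fun x => by rw [pow_two]; exact hexp x) (φ.comp hhHom) card_units_coprime_two
          (line φ v) (fun t u hu => line_hh φ hd hq' hv t hu)
      have hX''H : ∀ t : Fˣ, ∀ x ∈ X ⊓ U', φ (hh t) x ∈ X ⊓ U' :=
        fun t x hx => ⟨hXH t x hx.1, hU'H t x hx.2⟩
      have hdisj : Disjoint (line φ v) (X ⊓ U') := by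
        rw [disjoint_iff, eq_bot_iff, ← hinf]
        exact inf_le_inf_left _ inf_le_right
      have hsupX : line φ v ⊔ (X ⊓ U') = X := by
        have := sup_inf_assoc_of_le U' hLX
        rw [hsup, top_inf_eq, inf_comm] at this
        exact this.symm
      have hlt : Nat.card ↥(X ⊓ U') < n := by
        by_contra hcon
        push Not at hcon
        have hEq : X ⊓ U' = X := Subgroup.eq_of_le_of_card_ge inf_le_left (hXn ▸ hcon)
        have hvX'' : v ∈ X ⊓ U' := by rw [hEq]; exact hvX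
        have hvU : v ∈ line φ v ⊓ (X ⊓ U') := ⟨self_mem_line φ v, hvX''⟩
        rw [disjoint_iff.mp hdisj, Subgroup.mem_bot] at hvU
        exact hv1 hvU
      obtain ⟨ι, hι, v'', hv'', hind, hsup''⟩ :=
        ih _ hlt (X ⊓ U') rfl (inf_le_left.trans hXW) hX''H
      refine ⟨Option ι, inferInstance, fun o => Option.elim o v v'', ?_, ?_, ?_⟩
      · rintro (_ | i)
        · exact ⟨hv, hv1⟩
        · exact hv'' i
      · rw [iSupIndep_def]
        rintro (_ | i)
        · -- the new line against the old ones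
          refine hdisj.mono_right ?_
          rw [← hsup'']
          refine iSup₂_le ?_
          rintro (_ | j) hj
          · exact absurd rfl hj
          · exact le_iSup (fun j => line φ (v'' j)) j
        · -- an old line against the rest
          have h1 : Disjoint (line φ (v'' i)) (⨆ (j) (_ : j ≠ i), line φ (v'' j)) :=
            (iSupIndep_def.mp hind) i
          have h2 : Disjoint (line φ (v'' i) ⊔ ⨆ (j) (_ : j ≠ i), line φ (v'' j)) (line φ v) := by
            refine hdisj.symm.mono_left ?_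
            rw [← hsup'']
            exact sup_le (le_iSup (fun j => line φ (v'' j)) i)
              (iSup₂_le fun j _ => le_iSup (fun j => line φ (v'' j)) j)
          have h3 := h1.disjoint_sup_right_of_disjoint_sup_left h2
          refine h3.mono_right ?_
          refine iSup₂_le ?_
          rintro (_ | j) hj
          · exact le_sup_right
          · refine le_sup_of_le_left ?_
            exact le_iSup₂ (f := fun j (_ : j ≠ i) => line φ (v'' j)) j
              (fun h => hj (congrArg some h))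
      · apply le_antisymm
        · refine iSup_le ?_
          rintro (_ | i)
          · exact hLX
          · exact (le_iSup (fun j => line φ (v'' j)) i).trans (hsup''.le.trans inf_le_left)
        · rw [← hsupX, ← hsup'']
          refine sup_le ?_ (iSup_le fun j => ?_)
          · exact le_iSup (fun o : Option ι => line φ (Option.elim o v v'')) none
          · exact le_iSup (fun o : Option ι => line φ (Option.elim o v v'')) (some j)

/-! ### the decomposition -/

theorem exists_decomp_of [Finite F] [Finite M]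
    (hd : ∀ m ∈ fixU φ, φ ww m ∈ fixU φ → m = 1)
    (huw : ∀ (c : Fˣ) {w : M}, w ∈ fixU φ →
      φ (uu (c : F)) (φ ww w) = (φ (hh c) w)⁻¹ * (φ ww w)⁻¹)
    (hexp : ∀ m : M, m * m = 1) (hV : V0 φ = ⊤) :
    ∃ (k : ℕ) (V : Fin k → Subgroup M),
      (∀ i, (∀ g, ∀ m ∈ V i, φ g m ∈ V i) ∧
        ∃ Ψ : Multiplicative (Fin 2 → F) ≃* V i, ∀ (g : SL(2, F)) (x : Multiplicative (Fin 2 → F)),
          ((Ψ (Multiplicative.ofAdd ((g : Matrix (Fin 2) (Fin 2) F).mulVec (Multiplicative.toAdd x))) : V i) : M)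
            = φ g (Ψ x)) ∧
      iSupIndep V ∧ ⨆ i, V i = ⊤ := by
  have hq' : ∀ m ∈ fixU φ, φ ww m ∈ quadU φ := by
    intro m hm s
    by_cases hs : s = 0
    · subst hs
      rw [uu_zero, map_one, MulAut.one_apply, div_self']
      exact one_mem _
    · lift s to Fˣ using IsUnit.mk0 s hs
      rw [huw s hm]
      have e : (φ (hh s) m)⁻¹ * (φ ww m)⁻¹ / φ ww m = (φ (hh s) m)⁻¹ := by
        rw [div_eq_mul_inv, mul_assoc, hexp, mul_one]
      rw [e]
      exact inv_mem (fixU_hh φ hm s)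
  obtain ⟨ι, hι, v, hv, hind, hsup⟩ :=
    exists_lines φ hd hq' hexp _ (fixU φ) rfl le_rfl (fun t x hx => fixU_hh φ hx t)
  have hindD : iSupIndep (fun j : ι => dbl φ (line φ (v j))) := by
    rw [iSupIndep_def]
    intro i
    have h1 : Disjoint (line φ (v i)) (⨆ (j) (_ : j ≠ i), line φ (v j)) :=
      (iSupIndep_def.mp hind) i
    have hle : ∀ j, line φ (v j) ≤ fixU φ := fun j =>
      line_le φ (fun t x hx => fixU_hh φ hx t) (hv j).1
    have h2 := dbl_disjoint φ hd (hle i) (iSup₂_le fun j _ => hle j) h1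
    rw [dbl_iSup] at h2
    refine h2.mono_right (iSup_mono fun j => ?_)
    rw [dbl_iSup]
  let e := Fintype.equivFin ι
  refine ⟨Fintype.card ι, fun i => (natHom φ hd hq' (hv (e.symm i)).1).range, ?_, ?_, ?_⟩
  · intro i
    refine ⟨?_, MonoidHom.ofInjective (natHom_injective φ hd hq' (hv (e.symm i)).1 (hv (e.symm i)).2),
      ?_⟩
    · rintro g _ ⟨x, rfl⟩
      exact ⟨_, natHom_equivariant φ hd hq' (hv (e.symm i)).1 g x⟩
    · intro g x
      exact natHom_equivariant φ hd hq' (hv (e.symm i)).1 g x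
  · have h2 := hindD.comp e.symm.injective
    have h3 : (fun i : Fin (Fintype.card ι) => (natHom φ hd hq' (hv (e.symm i)).1).range) =
        (fun j : ι => dbl φ (line φ (v j))) ∘ e.symm := by
      funext i
      exact range_natHom φ hd hq' (hv (e.symm i)).1
    rw [h3]
    exact h2
  · have h3 : ∀ i : Fin (Fintype.card ι), (natHom φ hd hq' (hv (e.symm i)).1).range =
        dbl φ (line φ (v (e.symm i))) := fun i => range_natHom φ hd hq' (hv (e.symm i)).1
    simp only [h3]
    rw [e.symm.iSup_comp (g := fun j : ι => dbl φ (line φ (v j))), ← dbl_iSup, hsup]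
    exact hV

/-- **HIG-[DECOMP]**, exact sheet statement (with helper51's [V0INV]). -/
theorem exists_decomp [Finite F] [Finite M] (hf : FPF φ) (hF : 4 ≤ Nat.card F)
    (hexp : ∀ m : M, m * m = 1) (hV : V0 φ = ⊤) :
    ∃ (k : ℕ) (V : Fin k → Subgroup M),
      (∀ i, (∀ g, ∀ m ∈ V i, φ g m ∈ V i) ∧
        ∃ Ψ : Multiplicative (Fin 2 → F) ≃* V i, ∀ (g : SL(2, F)) (x : Multiplicative (Fin 2 → F)),
          ((Ψ (Multiplicative.ofAdd ((g : Matrix (Fin 2) (Fin 2) F).mulVec (Multiplicative.toAdd x))) : V i) : M)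
            = φ g (Ψ x)) ∧
      iSupIndep V ∧ ⨆ i, V i = ⊤ :=
  exists_decomp_of φ (fun _ h1 h2 => Cfsg.Agent.Lib.Helper51.Hig.fix_inf_ww φ hf h1 h2)
    (fun c _ hw => Cfsg.Agent.Lib.Helper51.Hig.uu_ww_fix φ hf c hw) hexp hV

end abstract

end Cfsg.Agent.Lib.Helper42.Hig
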