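/-
helper42: module HIG-[QUOT] of helper48's project HIG = S3050 (Higman's lemma; board #5897, sheet
Lib/Helper48/Hig/HIG_MODULES.md): passing to the quotient `G/Z` for a normal subgroup `Z ≤ Q`.
-/
import Mathlib
import Cfsg.Agent.Lib.Helper48.Hig.Act
import Cfsg.Agent.Lib.Helper48.Generation

set_option autoImplicit false
set_option linter.unusedSectionVars false

namespace Cfsg.Agent.Lib.Helper42.Hig

open Matrix Matrix.SpecialLinearGroup
open scoped MatrixGroups
open Cfsg.Agent.Lib.Helper19.NatSL2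
open Cfsg.Agent.Lib.Helper48.Hig

section concrete

variable {G : Type*} [Group G] [Finite G] {K : Type*} [Field K] [Finite K] [CharP K 2]

theorem exists_quot (Q : Subgroup G) [Q.Normal] (hQ : IsPGroup 2 Q) (e : G ⧸ Q ≃* SL(2, K))
    (x : G) (hx : orderOf x = 3) (hfpf : ∀ q ∈ Q, x * q * x⁻¹ = q → q = 1)
    (Z : Subgroup G) [Z.Normal] (hZQ : Z ≤ Q) :
    ∃ (_ : (Q.map (QuotientGroup.mk' Z)).Normal)
      (e' : (G ⧸ Z) ⧸ (Q.map (QuotientGroup.mk' Z)) ≃* SL(2, K)),
      (∀ g : G, e' (((g : G ⧸ Z) : (G ⧸ Z) ⧸ (Q.map (QuotientGroup.mk' Z)))) = e (g : G ⧸ Q)) ∧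
      IsPGroup 2 (Q.map (QuotientGroup.mk' Z)) ∧
      orderOf (x : G ⧸ Z) = 3 ∧
      ∀ q ∈ Q.map (QuotientGroup.mk' Z), (x : G ⧸ Z) * q * (x : G ⧸ Z)⁻¹ = q → q = 1 := by
  have hn : (Q.map (QuotientGroup.mk' Z)).Normal :=
    Subgroup.Normal.map inferInstance _ (QuotientGroup.mk'_surjective Z)
  have hx1 : x ≠ 1 := by
    rintro rfl
    rw [orderOf_one] at hx
    norm_num at hx
  have hxZ : x ∉ Z := by
    intro h
    exact hx1 (hfpf x (hZQ h) (by group))
  refine ⟨hn, (QuotientGroup.quotientQuotientEquivQuotient Z Q hZQ).trans e, ?_, hQ.map _, ?_, ?_⟩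
  · intro g
    rfl
  · have hd : orderOf (QuotientGroup.mk' Z x) ∣ 3 := hx ▸ orderOf_map_dvd (QuotientGroup.mk' Z) x
    rcases (Nat.dvd_prime Nat.prime_three).mp hd with h | h
    · exfalso
      rw [orderOf_eq_one_iff] at h
      exact hxZ ((QuotientGroup.eq_one_iff x).mp h)
    · exact h
  · rintro _ ⟨q, hq, rfl⟩ hfix
    have : Fact (Nat.Prime 3) := ⟨Nat.prime_three⟩
    have : Fact (Nat.Prime 2) := ⟨Nat.prime_two⟩
    have hc : IsPGroup 3 (Subgroup.zpowers x) := by
      apply IsPGroup.of_card (n := 1)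
      rw [Nat.card_zpowers, hx, pow_one]
    have hN : ¬ 3 ∣ Nat.card Z := by
      obtain ⟨k, hk⟩ := IsPGroup.iff_card.mp (hQ.to_le hZQ)
      rw [hk]
      intro h
      have := Nat.Prime.dvd_of_dvd_pow Nat.prime_three h
      norm_num at this
    have hcN : x ∈ Subgroup.normalizer (Z : Set G) := by
      rw [Subgroup.mem_normalizer_iff]
      intro h
      constructor
      · intro hh
        exact Subgroup.Normal.conj_mem inferInstance h hh x
      · intro hh
        have := Subgroup.Normal.conj_mem (inferInstance : Z.Normal) _ hh x⁻¹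
        simpa [mul_assoc] using this
    have hx' : q⁻¹ * (x * q * x⁻¹) ∈ Z := by
      have h1 : ((x * q * x⁻¹ : G) : G ⧸ Z) = (q : G ⧸ Z) := by
        simpa using hfix
      exact QuotientGroup.eq.mp h1.symm
    obtain ⟨n, hn', hfixn⟩ :=
      Cfsg.Agent.Lib.Helper48.exists_fixed_in_coset_of_elem (q := 3) x hc Z hN hcN q hx'
    have hqn : q * n = 1 := hfpf (q * n) (Q.mul_mem hq (hZQ hn')) hfixn
    have hqZ : q ∈ Z := by
      have : q = n⁻¹ := eq_inv_of_mul_eq_one_left hqn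
      rw [this]
      exact Z.inv_mem hn'
    exact (QuotientGroup.eq_one_iff q).mpr hqZ

end concrete

end Cfsg.Agent.Lib.Helper42.Hig
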