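import Mathlib
import Cfsg.Prelude.Def_GeometricClasses
import Cfsg.Agent.Lib.Helper42.OeFrame1

set_option autoImplicit false
set_option linter.unusedSectionVars false

namespace Cfsg.Agent.Lib.Helper42.OeFrame

open Cfsg Cfsg.Geo
open scoped Matrix

variable {ι : Type} [Fintype ι] [DecidableEq ι] {F : Type*} [Field F]

/-- pure matrix lemma: a symmetric-type block matrix `[[0, M], [Mᵀ, N]]` whose determinant times a square
is a square forces `(-1)^k` to be a square -/
lemma det_block_aux {k : ℕ} (h2 : (2 : F) ≠ 0) (M N : Matrix (Fin k) (Fin k) F) :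
    ∃ r : F, r ≠ 0 ∧ (Matrix.fromBlocks 0 M Mᵀ N).det * r ^ 2 = (-1) ^ k * (M.det) ^ 2 := by
  set G := Matrix.fromBlocks (0 : Matrix (Fin k) (Fin k) F) M Mᵀ N with hG
  set J : Matrix (Fin k ⊕ Fin k) (Fin k ⊕ Fin k) F := Matrix.fromBlocks 0 1 1 0 with hJ
  set S : Matrix (Fin k ⊕ Fin k) (Fin k ⊕ Fin k) F := Matrix.fromBlocks 1 1 1 (-1) with hS
  have e1 : G * J = Matrix.fromBlocks M 0 N Mᵀ := by
    rw [hG, hJ, Matrix.fromBlocks_multiply]
    simp
  have e2 : S * J * S = Matrix.fromBlocks ((2 : F) • 1) 0 0 ((-2 : F) • 1) := by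
    rw [hS, hJ, Matrix.fromBlocks_multiply, Matrix.fromBlocks_multiply]
    congr 1
    · simp [two_smul]
    · simp
    · simp
    · simp [two_smul, neg_smul]
  have d1 : G.det * J.det = M.det * M.det := by
    rw [← Matrix.det_mul, e1, Matrix.det_fromBlocks_zero₁₂, Matrix.det_transpose]
  have d2 : S.det * J.det * S.det = (2 : F) ^ k * (-2) ^ k := by
    rw [← Matrix.det_mul, ← Matrix.det_mul, e2, Matrix.det_fromBlocks_zero₁₂, Matrix.det_smul,
      Matrix.det_smul, Matrix.det_one, Fintype.card_fin]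
    ring
  have h2k : (2 : F) ^ k ≠ 0 := pow_ne_zero _ h2
  have hSJ : S.det * J.det ≠ 0 := by
    intro h
    have : S.det * J.det * S.det = 0 := by rw [h, zero_mul]
    rw [d2] at this
    have h3 : (-2 : F) ^ k ≠ 0 := pow_ne_zero _ (neg_ne_zero.2 h2)
    exact mul_ne_zero h2k h3 this
  have hS0 : S.det ≠ 0 := left_ne_zero_of_mul hSJ
  have hJ0 : J.det ≠ 0 := right_ne_zero_of_mul hSJ
  refine ⟨S.det * J.det / 2 ^ k, div_ne_zero hSJ h2k, ?_⟩
  have h4 : (-2 : F) ^ k = (-1) ^ k * 2 ^ k := by rw [← mul_pow]; norm_num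
  rw [h4] at d2
  field_simp
  linear_combination (J.det * S.det ^ 2) * d1 + (M.det ^ 2) * d2

end Cfsg.Agent.Lib.Helper42.OeFrame
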