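import Mathlib
import Cfsg.Prelude.Def_GeometricClasses
import Cfsg.Agent.Lib.Helper42.OeFrame1
import Cfsg.Agent.Lib.Helper42.OeFrame2

set_option autoImplicit false
set_option linter.unusedSectionVars false

namespace Cfsg.Agent.Lib.Helper42.OeFrame

open Cfsg Cfsg.Geo
open scoped Matrix

variable {ι : Type} [Fintype ι] [DecidableEq ι] {F : Type*} [Field F]

lemma polar_eq_zero_of_ts {Q : (ι → F) → F} {U : Submodule F (ι → F)}
    (hU : IsTotallySingularQuad Q U) {u v : ι → F} (hu : u ∈ U) (hv : v ∈ U) :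
    QuadraticMap.polar Q u v = 0 := by
  rw [QuadraticMap.polar, hU _ (U.add_mem hu hv), hU _ hu, hU _ hv]; ring

/-- discriminant argument: an orthogonal basis of constant non-zero `Q`-value indexed by `Fin k ⊕ Fin k`
and plus type force `(-1)^k` to be a square -/
lemma isSquare_neg_one_pow_of_plus {Q : (ι → F) → F} (hQ : IsNondegenerateQuadraticForm Q)
    {k : ℕ} (b : Module.Basis (Fin k ⊕ Fin k) F (ι → F)) (a : F) (ha : a ≠ 0) (h2 : (2 : F) ≠ 0)
    (hQb : ∀ i, Q (b i) = a)
    (horth : ∀ i j, i ≠ j → QuadraticMap.polar Q (b i) (b j) = 0)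
    (hp : IsPlusTypeOn Q ⊤) : IsSquare ((-1 : F) ^ k) := by
  classical
  obtain ⟨U, -, hUs, hUd⟩ := hp
  have hfV : Module.finrank F (ι → F) = k + k := by
    rw [Module.finrank_eq_card_basis b]; simp
  have hfU : Module.finrank F U = k := by
    rw [finrank_top] at hUd; omega
  obtain ⟨U', hc⟩ := Submodule.exists_isCompl U
  have hfU' : Module.finrank F U' = k := by
    have := Submodule.finrank_add_eq_of_isCompl hc
    omega
  let bU := Module.finBasisOfFinrankEq F U hfU
  let bU' := Module.finBasisOfFinrankEq F U' hfU'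
  let x : Module.Basis (Fin k ⊕ Fin k) F (ι → F) :=
    (bU.prod bU').map (Submodule.prodEquivOfIsCompl U U' hc)
  have hx_inl : ∀ i, x (Sum.inl i) = (bU i : ι → F) := by
    intro i
    simp [x, Module.Basis.map_apply, Submodule.coe_prodEquivOfIsCompl']
  set G := LinearMap.BilinForm.toMatrix x (polB hQ) with hGdef
  have hG : G = Matrix.fromBlocks 0 G.toBlocks₁₂ G.toBlocks₁₂ᵀ G.toBlocks₂₂ := by
    conv_lhs => rw [← Matrix.fromBlocks_toBlocks G]
    congr 1
    · ext i j
      simp only [Matrix.toBlocks₁₁, Matrix.of_apply, hGdef, LinearMap.BilinForm.toMatrix_apply,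
        Matrix.zero_apply, hx_inl, polB_apply]
      exact polar_eq_zero_of_ts hUs (bU i).2 (bU j).2
    · ext i j
      simp only [Matrix.toBlocks₂₁, Matrix.toBlocks₁₂, Matrix.of_apply, Matrix.transpose_apply, hGdef,
        LinearMap.BilinForm.toMatrix_apply, polB_apply]
      exact QuadraticMap.polar_comm _ _ _
  have hD : LinearMap.BilinForm.toMatrix b (polB hQ) = (2 * a) • (1 : Matrix _ _ F) := by
    ext i j
    rw [LinearMap.BilinForm.toMatrix_apply, Matrix.smul_apply, Matrix.one_apply]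
    by_cases hij : i = j
    · subst hij
      rw [polB_self, hQb]; simp
    · rw [polB_apply, horth i j hij]; simp [hij]
  have key := LinearMap.BilinForm.toMatrix_mul_basis_toMatrix (b := x) b (polB hQ)
  rw [hD] at key
  have hdet := congrArg Matrix.det key
  rw [Matrix.det_mul, Matrix.det_mul, Matrix.det_transpose, Matrix.det_smul, Matrix.det_one,
    mul_one] at hdet
  simp only [Fintype.card_sum, Fintype.card_fin] at hdet
  obtain ⟨r, hr0, hr⟩ := det_block_aux h2 G.toBlocks₁₂ G.toBlocks₂₂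
  rw [← hG] at hr
  rw [← hGdef] at hdet
  have h2a : (2 * a) ^ (k + k) ≠ 0 := pow_ne_zero _ (mul_ne_zero h2 ha)
  have hP0 : (x.toMatrix b).det ≠ 0 := by
    intro h; rw [h] at hdet; simp at hdet; exact h2a hdet.symm
  have hG0 : G.det ≠ 0 := by
    intro h; rw [h] at hdet; simp at hdet; exact h2a hdet.symm
  have hM0 : G.toBlocks₁₂.det ≠ 0 := by
    intro h
    rw [h] at hr
    have : G.det * r ^ 2 ≠ 0 := mul_ne_zero hG0 (pow_ne_zero _ hr0)
    apply this; rw [hr]; ring
  refine ⟨(2 * a) ^ k * r / ((x.toMatrix b).det * G.toBlocks₁₂.det), ?_⟩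
  field_simp
  rw [pow_add] at hdet
  linear_combination ((x.toMatrix b).det ^ 2) * (-hr) + r ^ 2 * hdet

end Cfsg.Agent.Lib.Helper42.OeFrame
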