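import Mathlib
import Cfsg.Prelude.Def_GeometricClasses
import Cfsg.Agent.Lib.Helper42.OeFrame1
import Cfsg.Agent.Lib.Helper42.OeFrame2
import Cfsg.Agent.Lib.Helper42.OeFrame3

set_option autoImplicit false
set_option linter.unusedSectionVars false

namespace Cfsg.Agent.Lib.Helper42.OeFrame

open Cfsg Cfsg.Geo
open scoped Matrix

variable {ι : Type} [Fintype ι] [DecidableEq ι] {F : Type*} [Field F]

/-- an orthogonal decomposition into isometric lines gives an orthogonal basis of constant `Q`-value -/
lemma exists_frame {Q : (ι → F) → F} (hQ : IsNondegenerateQuadraticForm Q)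
    {t : ℕ} (D : Fin t → Submodule F (ι → F)) (hD : IsOrthogonalMDecomposition Q 1 D) :
    ∃ (v : Fin t → ι → F) (a : F), a ≠ 0 ∧ (∀ i, Q (v i) = a) ∧
      (∀ i j, i ≠ j → QuadraticMap.polar Q (v i) (v j) = 0) ∧ LinearIndependent F v ∧
      Submodule.span F (Set.range v) = ⊤ := by
  classical
  have ht := hD.decomp.decomp.two_le
  let i₀ : Fin t := ⟨0, by omega⟩
  obtain ⟨v₀, hv₀, hv₀s⟩ := finrank_eq_one_iff'.1 (hD.decomp.decomp.finrank_eq i₀)
  choose e he using fun i => hD.isometric i₀ i
  have hvne : ∀ i, ((e i v₀ : D i) : ι → F) ≠ 0 := by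
    intro i h
    have : e i v₀ = 0 := Subtype.ext h
    rw [LinearEquiv.map_eq_zero_iff] at this
    exact hv₀ this
  have hvmem : ∀ i, ((e i v₀ : D i) : ι → F) ∈ D i := fun i => (e i v₀).2
  refine ⟨fun i => (e i v₀ : D i), Q (v₀ : ι → F), ?_, fun i => he i v₀, ?_, ?_, ?_⟩
  · -- a ≠ 0
    intro ha
    have hv₀' : (v₀ : ι → F) ≠ 0 := fun h => hv₀ (Subtype.ext h)
    obtain ⟨x, hx, hxv⟩ := (hD.decomp.nondegenerate i₀ v₀ v₀.2 hv₀').1
    obtain ⟨c, hc⟩ := hv₀s ⟨x, hx⟩
    have hx' : x = c • (v₀ : ι → F) := by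
      have := congrArg Subtype.val hc
      simpa using this.symm
    apply hxv
    rw [hx', ← polB_apply hQ, map_smul, LinearMap.smul_apply, polB_self, ha]
    simp
  · intro i j hij
    exact hD.decomp.orthogonal i j hij _ (hvmem i) _ (hvmem j)
  · exact iSupIndep.linearIndependent D hD.decomp.decomp.indep hvmem hvne
  · rw [Submodule.span_range_eq_iSup, ← hD.decomp.decomp.iSup_eq_top]
    congr 1
    funext i
    apply le_antisymm
    · rw [Submodule.span_singleton_le_iff_mem]; exact hvmem i
    · intro w hw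
      have hne : e i v₀ ≠ 0 := fun h => hvne i (by rw [h]; rfl)
      obtain ⟨c, hc⟩ := (finrank_eq_one_iff_of_nonzero' (e i v₀) hne).1
        (hD.decomp.decomp.finrank_eq i) ⟨w, hw⟩
      have hw' : w = c • ((e i v₀ : D i) : ι → F) := by
        have := congrArg Subtype.val hc
        simpa using this.symm
      rw [hw']
      exact Submodule.smul_mem _ _ (Submodule.mem_span_singleton_self _)

lemma two_ne_zero_of_odd_card [Fintype F] (hodd : Odd (Fintype.card F)) : (2 : F) ≠ 0 := by
  intro h
  have h2 : ringChar F = 2 := CharP.ringChar_of_prime_eq_zero Nat.prime_two (by exact_mod_cast h)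
  have := FiniteField.even_card_of_char_two h2
  rcases hodd with ⟨m, hm⟩
  omega

end Cfsg.Agent.Lib.Helper42.OeFrame

namespace Cfsg.Agent.Lib.Helper55.Oe

open Cfsg Cfsg.Geo Cfsg.Agent.Lib.Helper42.OeFrame
open scoped Matrix

variable {n : ℕ} {F : Type*} [Field F] [Fintype F]

/-- ASCHOE-[T-FRAME] (exact sheet statement; proved directly by a discriminant argument, independent of
[T-EVEN] [T-ODD] [T-BLOCKS]). -/
theorem isPlusTypeOn_top_frame_iff {Q : (Fin n → F) → F} (hQ : IsNondegenerateQuadraticForm Q)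
    (hodd : Odd (Fintype.card F)) {t : ℕ} (D : Fin t → Submodule F (Fin n → F))
    (hD : IsOrthogonalMDecomposition Q 1 D) (k : ℕ) (hk : n = 2 * k) :
    IsPlusTypeOn Q ⊤ ↔ (Even k ∨ Fintype.card F % 4 = 1) := by
  classical
  have h2 : (2 : F) ≠ 0 := two_ne_zero_of_odd_card hodd
  obtain ⟨v, a, ha, hQv, horth, hli, hsp⟩ := exists_frame hQ D hD
  let bv : Module.Basis (Fin t) F (Fin n → F) := Module.Basis.mk hli hsp.ge
  have hbv : ∀ i, bv i = v i := fun i => by simp [bv]
  have htn : t = n := by
    have := Module.finrank_eq_card_basis bv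
    simp at this
    omega
  have hmod : Fintype.card F % 4 = 1 ∨ Fintype.card F % 4 = 3 := by
    rcases hodd with ⟨m, hm⟩; omega
  -- a reindexing helper
  have reidx : ∀ {κ : Type} [Fintype κ] [DecidableEq κ], Fintype.card κ = k →
      ∃ b : Module.Basis (κ ⊕ κ) F (Fin n → F), (∀ i, Q (b i) = a) ∧
        (∀ i j, i ≠ j → QuadraticMap.polar Q (b i) (b j) = 0) := by
    intro κ _ _ hκ
    have hcard : Fintype.card (Fin t) = Fintype.card (κ ⊕ κ) := by
      simp [hκ]; omega
    let eq : Fin t ≃ κ ⊕ κ := Fintype.equivOfCardEq hcard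
    refine ⟨bv.reindex eq, fun i => ?_, fun i j hij => ?_⟩
    · rw [Module.Basis.reindex_apply, hbv, hQv]
    · rw [Module.Basis.reindex_apply, Module.Basis.reindex_apply, hbv, hbv]
      exact horth _ _ (fun h => hij (eq.symm.injective h))
  constructor
  · intro hp
    obtain ⟨b, hQb, hob⟩ := reidx (κ := Fin k) (by simp)
    have hsq := isSquare_neg_one_pow_of_plus hQ b a ha h2 hQb hob hp
    rcases Nat.even_or_odd k with hke | hko
    · exact Or.inl hke
    · right
      rw [hko.neg_one_pow] at hsq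
      have := FiniteField.isSquare_neg_one_iff.1 hsq
      rcases hmod with h | h
      · exact h
      · exact absurd h this
  · rintro (hke | hq)
    · obtain ⟨l, hl⟩ := hke
      obtain ⟨b, hQb, hob⟩ := reidx (κ := Fin l × Fin 2) (by simp; omega)
      -- α² + β² = -1
      have hchar := CharP.char_is_prime F (ringChar F)
      have : NeZero (ringChar F) := ⟨hchar.ne_zero⟩
      obtain ⟨α', β', hαβ'⟩ := CharP.sq_add_sq F (ringChar F) (-1)
      set α : F := (α' : F)
      set β : F := (β' : F)
      have hαβ : α ^ 2 + β ^ 2 = -1 := by rw [hαβ']; simp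
      let A : (Fin l × Fin 2 → F) →ₗ[F] (Fin l × Fin 2 → F) :=
        { toFun := fun c p => α * c p + (if p.2 = 0 then -β * c (p.1, 1) else β * c (p.1, 0))
          map_add' := by
            intro c d; funext p
            by_cases hp : p.2 = 0 <;> simp [hp] <;> ring
          map_smul' := by
            intro r c; funext p
            by_cases hp : p.2 = 0 <;> simp [hp] <;> ring }
      have hA : ∀ c, ∑ i, (A c i) ^ 2 = - ∑ i, (c i) ^ 2 := by
        intro c
        rw [Fintype.sum_prod_type, Fintype.sum_prod_type, ← Finset.sum_neg_distrib]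
        apply Finset.sum_congr rfl
        intro j _
        rw [Fin.sum_univ_two, Fin.sum_univ_two]
        simp only [A, LinearMap.coe_mk, AddHom.coe_mk]
        simp
        linear_combination (c (j, 0) ^ 2 + c (j, 1) ^ 2) * hαβ
      exact plus_of_graph hQ b a hQb hob A hA
    · obtain ⟨b, hQb, hob⟩ := reidx (κ := Fin k) (by simp)
      have hsq : IsSquare (-1 : F) := FiniteField.isSquare_neg_one_iff.2 (by omega)
      obtain ⟨s, hs⟩ := hsq
      have hA : ∀ c : Fin k → F, ∑ i, ((s • (LinearMap.id : (Fin k → F) →ₗ[F] (Fin k → F))) c i) ^ 2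
          = - ∑ i, (c i) ^ 2 := by
        intro c
        simp only [LinearMap.smul_apply, LinearMap.id_apply, Pi.smul_apply, smul_eq_mul, mul_pow]
        rw [← Finset.mul_sum, pow_two, ← hs]; ring
      exact plus_of_graph hQ b a hQb hob _ hA

end Cfsg.Agent.Lib.Helper55.Oe
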