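/-
helper42: module PF13-[DICH] of helper16's PF sec.13 project (board #5165, sheet
Lib/Helper16/PF13_MODULES.md wave 4): the Galois / axis dichotomy for one side, at the level of `G`.
-/
import Mathlib
import Cfsg.Agent.Lib.Helper16.PF13Defs
import Cfsg.Agent.Lib.Helper62.PFNineN7
import Cfsg.Agent.Lib.Helper47.PFNineN5
import Cfsg.Agent.Lib.Helper77.PF13Ctx

set_option autoImplicit false

namespace Cfsg.Agent.Lib.Helper42.PF13

open Cfsg Cfsg.Agent.Lib.Helper24.PFCyc Cfsg.Agent.Lib.Helper4.PF Cfsg.Agent.Lib.Helper16.PF13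
open scoped Pointwise

universe u

variable {G : Type u} [Group G] [Fintype G] {S W₁ U W₂ : Subgroup G} [Fintype S]
  {mu : WChar W₁ W₂ → (↥S → ℂ)} {dl : WChar W₁ W₂ → ℂ} {η : WChar W₁ W₂ → (G → ℂ)}

omit [Fintype G] in
theorem le_normalizer_of_comm' {P Q : Subgroup G}
    (hc : ∀ a ∈ P, ∀ b ∈ P, a * b = b * a) (hQ : Q ≤ P) :
    P ≤ Subgroup.normalizer (Q : Set G) := by
  intro a ha
  rw [Subgroup.mem_normalizer_iff]
  intro b
  constructor
  · intro hb
    have h1 : a * b * a⁻¹ = b := by rw [hc a ha b (hQ hb)]; group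
    rwa [h1]
  · intro hb
    have hb' : b ∈ P := by
      have h2 : b = a⁻¹ * (a * b * a⁻¹) * a := by group
      rw [h2]
      exact P.mul_mem (P.mul_mem (P.inv_mem ha) (hQ hb)) ha
    have h1 : a * b * a⁻¹ = b := by rw [hc a ha b hb']; group
    rwa [h1] at hb

theorem side_dichotomy (h : PSide S W₁ U W₂ mu dl η) :
    ((∃ g ∈ U, ∀ x ∈ U, ∃ k : ℕ, ∀ y ∈ fittingHallOf S, x * y * x⁻¹ = g ^ k * y * (g ^ k)⁻¹) ∧
      (∀ x ∈ U, ∀ y ∈ fittingHallOf S, y ≠ 1 → x * y = y * x →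
        x ∈ Subgroup.centralizer ((fittingHallOf S : Subgroup G) : Set G)) ∧
      (U ⊓ Subgroup.centralizer ((fittingHallOf S : Subgroup G) : Set G)).relIndex U ∣
        (Nat.card W₂ ^ Nat.card W₁ - 1) / (Nat.card W₂ - 1)) ∨
    ∃ P₁ : Subgroup G, P₁ ≤ fittingHallOf S ∧ U ≤ Subgroup.normalizer (P₁ : Set G) ∧
      Nat.card P₁ = Nat.card W₂ ∧
      (⨆ w : ↥W₁, MulAut.conj (w : G) • P₁) = fittingHallOf S := by
  classical
  have : Fact (Nat.card W₂).Prime := ⟨h.hp⟩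
  set P : Subgroup G := fittingHallOf S with hPdef
  have hKS : ⁅S, S⁆ ≤ S := h.hP.W₁_compl.1
  have hW₁S : W₁ ≤ S := h.hP.W₁_compl.2.1
  have hPK : P ≤ ⁅S, S⁆ := h.hP.U_compl.1
  have hUK : U ≤ ⁅S, S⁆ := h.hP.U_compl.2.1
  have hUS : U ≤ S := hUK.trans hKS
  have hPS : P ≤ S := hPK.trans hKS
  have hSP : S ≤ Subgroup.normalizer (P : Set G) := by
    intro s hs
    rw [Subgroup.mem_normalizer_iff]
    intro x
    constructor
    · intro hx
      exact Cfsg.Agent.Lib.Helper26.PFEight.conj_mem_fittingHallOf S hs hx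
    · intro hx
      have := Cfsg.Agent.Lib.Helper26.PFEight.conj_mem_fittingHallOf S (S.inv_mem hs) hx
      have e : s⁻¹ * (s * x * s⁻¹) * s⁻¹⁻¹ = x := by group
      rwa [e] at this
  have hElem : Cfsg.IsElementaryAbelian (Nat.card W₂) P :=
    ⟨⟨⟨fun a b => Subtype.ext (h.hPcomm a a.2 b b.2)⟩⟩, h.hPexp⟩
  have hUP : U ≤ Subgroup.normalizer (P : Set G) := hUS.trans hSP
  have hWP : W₁ ≤ Subgroup.normalizer (P : Set G) := hW₁S.trans hSP
  have hWU : W₁ ≤ Subgroup.normalizer (U : Set G) := h.hP.U_normal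
  have hPU : P ⊓ U = ⊥ := h.hP.U_compl.2.2.1
  have hW₂P : W₂ ≤ P := h.hP.W₂_le.trans inf_le_left
  by_cases hred : ∃ Q : Subgroup G, Q ≤ P ∧ U ≤ Subgroup.normalizer (Q : Set G) ∧ Q ≠ ⊥ ∧ Q ≠ P
  · right
    have hchief : ∀ Q : Subgroup G, Q ≤ P → U ⊔ W₁ ≤ Subgroup.normalizer (Q : Set G) →
        Q = ⊥ ∨ Q = P := by
      intro Q hQP hQN
      have hSQ : S ≤ Subgroup.normalizer (Q : Set G) := by
        intro s hs
        obtain ⟨k, hk, w, hw, rfl⟩ := h.hP.W₁_compl.2.2.2 s hs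
        obtain ⟨x, hx, z, hz, rfl⟩ := h.hP.U_compl.2.2.2 k hk
        exact Subgroup.mul_mem _ (Subgroup.mul_mem _
          (le_normalizer_of_comm' h.hPcomm hQP hx) (hQN (Subgroup.mem_sup_left hz)))
          (hQN (Subgroup.mem_sup_right hw))
      have hQS : Q ≤ S := hQP.trans hPS
      have hn : (Q.subgroupOf S).Normal := by
        constructor
        intro n hn g
        rw [Subgroup.mem_subgroupOf] at hn ⊢
        exact (Subgroup.mem_normalizer_iff.mp (hSQ g.2) n).mp hn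
      have hle : Q.subgroupOf S ≤ PS S := by
        intro x hx
        rw [Subgroup.mem_subgroupOf] at hx ⊢
        exact hQP hx
      rcases (Cfsg.Agent.Lib.Helper77.PF13.ctx_bot_of h).2 _ hn bot_le hle with h0 | h0
      · left
        rw [eq_bot_iff]
        intro x hx
        have : (⟨x, hQS hx⟩ : ↥S) ∈ Q.subgroupOf S := Subgroup.mem_subgroupOf.mpr hx
        rw [h0, Subgroup.mem_bot] at this
        rw [Subgroup.mem_bot]
        exact congrArg Subtype.val this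
      · right
        apply le_antisymm hQP
        intro x hx
        have : (⟨x, hPS hx⟩ : ↥S) ∈ PS S := Subgroup.mem_subgroupOf.mpr hx
        rw [← h0] at this
        exact Subgroup.mem_subgroupOf.mp this
    obtain ⟨P₁, hP₁, hmin, hc, hsup⟩ :=
      Cfsg.Agent.Lib.Helper47.PF9N5.exists_isMinInv_card_eq (Nat.card W₂) (Nat.card W₁) h.hq
        P U W₁ hElem h.hPcard hWP hWU hchief hred
    exact ⟨P₁, hP₁, hmin.2.1, hc, hsup⟩
  · left
    have hirr : ∀ Q : Subgroup G, Q ≤ P → U ≤ Subgroup.normalizer (Q : Set G) →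
        Q = ⊥ ∨ Q = P := by
      intro Q h1 h2
      by_contra h3
      push Not at h3
      exact hred ⟨Q, h1, h2, h3.1, h3.2⟩
    have hfpf : ∀ x ∈ W₁, x ≠ 1 → ∀ u ∈ U, x * u = u * x → u = 1 := by
      intro x hx hx1 u hu hxu
      have h1 : u ∈ ⁅S, S⁆ ⊓ Subgroup.centralizer ({x} : Set G) := by
        refine ⟨hUK hu, ?_⟩
        exact Subgroup.mem_centralizer_iff.mpr (fun y hy => by
          rw [Set.mem_singleton_iff] at hy
          rw [hy]; exact hxu)
      rw [h.hP.W₂_centralizer x hx hx1] at h1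
      have h2 : u ∈ P ⊓ U := ⟨hW₂P h1, hu⟩
      rw [hPU, Subgroup.mem_bot] at h2
      exact h2
    obtain ⟨w₀, hw₀, hw₀1⟩ : ∃ w₀ ∈ W₂, w₀ ≠ 1 := by
      by_contra hcon
      push Not at hcon
      apply h.hP.selfNormalizing.2.1
      rw [eq_bot_iff]
      intro x hx
      rw [Subgroup.mem_bot]
      exact hcon x hx
    have hw₀W : ∀ w ∈ W₁, w * w₀ = w₀ * w := fun w hw =>
      h.hP.selfNormalizing.2.2.2.1 w hw w₀ hw₀
    obtain ⟨f1, f2, -, f4⟩ := Cfsg.Agent.Lib.Helper62.PF9.galois_case_facts (Nat.card W₂)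
      (Nat.card W₁) h.hq P U W₁ hElem h.hPcard rfl hUP hWP hWU hfpf h.hP.U_nilpotent hirr
      w₀ (hW₂P hw₀) hw₀1 hw₀W
    exact ⟨f1, f2, f4⟩

end Cfsg.Agent.Lib.Helper42.PF13
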