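import Mathlib
import Cfsg.Agent.Lib.Helper42.PGL2Max
import Cfsg.Agent.Lib.Helper59.MoebiusBasic
import Cfsg.Agent.Lib.Helper41.DicksonMax
import Cfsg.Agent.Lib.Helper41.SL2Borel

set_option autoImplicit false

/-!
# Maximal subgroups of `PGL₂(F)`: the list, and the point stabiliser case (helper42)
-/

namespace Cfsg.Agent.Lib.Helper42

open Cfsg.Agent.Lib.Helper11 Cfsg.Agent.Lib.Helper41 Cfsg.Agent.Lib.Helper59
open scoped LinearAlgebra.Projectivization

/-- the list of isomorphism types of maximal subgroups of `PGL₂(q)`, `q` odd, not containing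
`PSL₂(q)` -/
def PGLList (F : Type*) [Field F] [Fintype F] (M : Type*) [Group M] : Prop :=
  Nat.card M = Fintype.card F * (Fintype.card F - 1) ∨
  (Fintype.card F ≠ 5 ∧ Nonempty (M ≃* DihedralGroup (Fintype.card F - 1))) ∨
  Nonempty (M ≃* DihedralGroup (Fintype.card F + 1)) ∨
  ((Fintype.card F).Prime ∧ (Fintype.card F % 8 = 3 ∨ Fintype.card F % 8 = 5) ∧
    Nonempty (M ≃* Equiv.Perm (Fin 4))) ∨
  (∃ (F₀ : Type) (_ : Field F₀) (_ : Fintype F₀) (r : ℕ), r.Prime ∧ Odd r ∧
    Fintype.card F = Fintype.card F₀ ^ r ∧ Nonempty (M ≃* Matrix.ProjGenLinGroup (Fin 2) F₀))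

theorem PGLList.of_equiv {F : Type*} [Field F] [Fintype F] {M M' : Type*} [Group M] [Group M']
    (e : M ≃* M') (h : PGLList F M') : PGLList F M := by
  rcases h with h | ⟨h1, ⟨f⟩⟩ | ⟨⟨f⟩⟩ | ⟨h1, h2, ⟨f⟩⟩ | ⟨F₀, i1, i2, r, h1, h2, h3, ⟨f⟩⟩
  · left
    rw [Nat.card_congr e.toEquiv]; exact h
  · right; left
    exact ⟨h1, ⟨e.trans f⟩⟩
  · right; right; left
    exact ⟨e.trans f⟩
  · right; right; right; left
    exact ⟨h1, h2, ⟨e.trans f⟩⟩
  · right; right; right; right
    exact ⟨F₀, i1, i2, r, h1, h2, h3, ⟨e.trans f⟩⟩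

variable {F : Type*} [Field F]

local notation "SL2" => Matrix.SpecialLinearGroup (Fin 2) F
local notation "PSL2" => Matrix.ProjectiveSpecialLinearGroup (Fin 2) F
local notation "GL2" => GL (Fin 2) F
local notation "PGL2" => Matrix.ProjGenLinGroup (Fin 2) F

/-- the `(1,0)` entry of `W u(t) W⁻¹` -/
theorem glConj_upperU_apply_10 (W : GL2) (t : F) :
    ((glConj W (upperU t) : SL2) : Matrix (Fin 2) (Fin 2) F) 1 0
      = t * (W : Matrix (Fin 2) (Fin 2) F) 1 0
        * ((W⁻¹ : GL2) : Matrix (Fin 2) (Fin 2) F) 1 0 := by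
  have h1 := congrFun (congrFun (gl_mul_inv W) 1) 0
  rw [Matrix.mul_apply, Fin.sum_univ_two] at h1
  simp only [Matrix.one_apply_ne, ne_eq, one_ne_zero, not_false_eq_true] at h1
  rw [glConj_apply, coe_glConjFun, coe_upperU]
  simp only [Matrix.mul_apply, Fin.sum_univ_two, Matrix.of_apply, Matrix.cons_val', Matrix.cons_val_zero,
    Matrix.cons_val_one, Matrix.cons_val_fin_one]
  linear_combination h1

theorem gl_apply_10_eq_zero_of_inv (W : GL2)
    (h : ((W⁻¹ : GL2) : Matrix (Fin 2) (Fin 2) F) 1 0 = 0) :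
    (W : Matrix (Fin 2) (Fin 2) F) 1 0 = 0 := by
  have h1 := congrFun (congrFun (gl_inv_mul W) 1) 0
  have h2 := congrFun (congrFun (gl_inv_mul W) 1) 1
  rw [Matrix.mul_apply, Fin.sum_univ_two] at h1 h2
  simp only [Matrix.one_apply_ne, ne_eq, one_ne_zero, not_false_eq_true, Matrix.one_apply_eq] at h1 h2
  rw [h, zero_mul, zero_add] at h1 h2
  rcases mul_eq_zero.mp h1 with h3 | h3
  · rw [h3, zero_mul] at h2
    exact absurd h2 zero_ne_one
  · exact h3

theorem mk_smul_infPt_of_apply_10 (W : GL2) (h : (W : Matrix (Fin 2) (Fin 2) F) 1 0 = 0) :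
    (Matrix.ProjGenLinGroup.mk W : PGL2) • infPt F = infPt F := by
  have h00 : (W : Matrix (Fin 2) (Fin 2) F) 0 0 ≠ 0 := by
    intro h0
    have hdet : (W : Matrix (Fin 2) (Fin 2) F).det ≠ 0 := by
      have := (Matrix.GeneralLinearGroup.det W).ne_zero
      simpa using this
    rw [Matrix.det_fin_two, h, h0] at hdet
    simp at hdet
  unfold infPt
  rw [Projectivization.PGL.mk_smul_mk, Projectivization.mk_eq_mk_iff]
  refine ⟨Units.mk0 _ h00, ?_⟩
  rw [Cfsg.Agent.S0266.gl_smul_eq]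
  ext i
  fin_cases i <;> simp [Units.smul_def, Matrix.mulVec, dotProduct, Fin.sum_univ_two, h]

theorem pgl_pretransitive : MulAction.IsPretransitive PGL2 (ℙ F (Fin 2 → F)) := by
  have key : ∀ a : ℙ F (Fin 2 → F), ∃ g : PGL2, g • finPt (0 : F) = a := by
    intro a
    obtain ⟨o, rfl⟩ := (lineEquiv F).surjective a
    cases o with
    | none => exact ⟨swapPGL F, by rw [lineEquiv_none]; exact swapPGL_zero⟩
    | some x =>
      refine ⟨affPGL 1 x one_ne_zero, ?_⟩
      rw [lineEquiv_some, affPGL_finPt]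
      congr 1
      ring
  constructor
  intro a b
  obtain ⟨g, rfl⟩ := key a
  obtain ⟨h, rfl⟩ := key b
  exact ⟨h * g⁻¹, by rw [mul_smul, inv_smul_smul]⟩

theorem card_line [Fintype F] : Nat.card (ℙ F (Fin 2 → F)) = Fintype.card F + 1 := by
  rw [← Nat.card_congr (lineEquiv F), Nat.card_eq_fintype_card, Fintype.card_option]

theorem card_stabilizer_infPt [Fintype F] :
    Nat.card (MulAction.stabilizer PGL2 (infPt F)) = Fintype.card F * (Fintype.card F - 1) := by
  have hfin : Finite PGL2 := finite_PGL2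
  have := pgl_pretransitive (F := F)
  have h1 : (MulAction.stabilizer PGL2 (infPt F)).index = Fintype.card F + 1 := by
    rw [MulAction.index_stabilizer_of_transitive, card_line]
  have h2 := Subgroup.index_mul_card (MulAction.stabilizer PGL2 (infPt F))
  rw [h1, card_PGL2] at h2
  have hq : 1 ≤ Fintype.card F := Fintype.card_pos
  have h3 : Fintype.card F ^ 2 - 1 = (Fintype.card F + 1) * (Fintype.card F - 1) := by
    obtain ⟨a, ha⟩ : ∃ a, Fintype.card F = a + 1 := ⟨Fintype.card F - 1, by omega⟩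
    rw [ha]
    simp only [Nat.add_sub_cancel]
    have : (a + 1) ^ 2 = (a + 1 + 1) * a + 1 := by ring
    rw [this, Nat.add_sub_cancel]
  rw [h3] at h2
  have h4 : (Fintype.card F + 1) * Nat.card (MulAction.stabilizer PGL2 (infPt F))
      = (Fintype.card F + 1) * (Fintype.card F * (Fintype.card F - 1)) := by
    rw [h2]; ring
  exact Nat.eq_of_mul_eq_mul_left (by omega) h4

/-- **Point stabiliser case.** -/
theorem card_of_le_borel [Fintype F] {M : Subgroup PGL2} (D : MaxData F M) {t₀ : F}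
    (ht₀0 : t₀ ≠ 0) (ht₀ : slPGL (upperU t₀) ∈ M)
    (hB : ∀ X : SL2, slPGL X ∈ M → (X : Matrix (Fin 2) (Fin 2) F) 1 0 = 0) :
    Nat.card M = Fintype.card F * (Fintype.card F - 1) := by
  have hW : ∀ W : GL2, Matrix.ProjGenLinGroup.mk W ∈ M → (W : Matrix (Fin 2) (Fin 2) F) 1 0 = 0 := by
    intro W hW
    have hX : slPGL (glConj W (upperU t₀)) ∈ M := by
      rw [← mk_conj_slPGL]
      exact M.mul_mem (M.mul_mem hW ht₀) (M.inv_mem hW)
    have h0 := hB _ hX
    rw [glConj_upperU_apply_10] at h0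
    rcases mul_eq_zero.mp h0 with h1 | h1
    · rcases mul_eq_zero.mp h1 with h2 | h2
      · exact absurd h2 ht₀0
      · exact h2
    · exact gl_apply_10_eq_zero_of_inv W h1
  have hle : M ≤ MulAction.stabilizer PGL2 (infPt F) := by
    intro m hm
    induction m using Matrix.ProjGenLinGroup.induction_on with | mk W =>
    rw [MulAction.mem_stabilizer_iff]
    exact mk_smul_infPt_of_apply_10 W (hW W hm)
  have hne : MulAction.stabilizer PGL2 (infPt F) ≠ ⊤ := by
    intro htop
    have : swapPGL F ∈ MulAction.stabilizer PGL2 (infPt F) := by rw [htop]; trivial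
    rw [MulAction.mem_stabilizer_iff, swapPGL_infPt] at this
    exact finPt_ne_infPt _ this
  have heq : M = MulAction.stabilizer PGL2 (infPt F) := by
    rcases eq_or_lt_of_le hle with h | h
    · exact h
    · exact absurd (D.hM.2 _ h) hne
  rw [heq]
  exact card_stabilizer_infPt

end Cfsg.Agent.Lib.Helper42
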