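import Mathlib
import Cfsg.Agent.Lib.Helper42.PGL2Max
import Cfsg.Agent.Lib.Helper42.PPrimeMain
import Cfsg.Agent.Lib.Helper41.DicksonPGLHom
import Cfsg.Agent.Lib.Helper41.SubfieldPSL
import Cfsg.Agent.S0799

set_option autoImplicit false

/-!
# `PGL₂(q) ≤ PSL₂(q²)` and Dickson's list for subgroups of `PGL₂(q)` (helper42)
-/

namespace Cfsg.Agent.Lib.Helper42

open Cfsg.Agent.Lib.Helper11 Cfsg.Agent.Lib.Helper41

variable {F : Type*} [Field F]

local notation "PGL2" => Matrix.ProjGenLinGroup (Fin 2) F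

theorem exists_pgl_embedding [Fintype F] (p : ℕ) [Fact p.Prime] [CharP F p]
    (hodd : Odd (Fintype.card F)) :
    ∃ (F' : Type) (_ : Field F') (_ : Fintype F') (_ : CharP F' p)
      (ι : PGL2 →* Matrix.ProjectiveSpecialLinearGroup (Fin 2) F'),
      Function.Injective ι ∧ Fintype.card F' = Fintype.card F ^ 2 := by
  classical
  obtain ⟨n, -, hn⟩ := FiniteField.card F p
  have hn0 : 2 * (n : ℕ) ≠ 0 := by
    have := n.pos
    omega
  have hfin : Fintype (GaloisField p (2 * (n : ℕ))) := Fintype.ofFinite _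
  have hcard : Fintype.card (GaloisField p (2 * (n : ℕ))) = Fintype.card F ^ 2 := by
    rw [← Nat.card_eq_fintype_card, GaloisField.card p _ hn0, hn, ← pow_mul, mul_comm]
  obtain ⟨φ⟩ := exists_ringHom_of_card_pow (K := F) (F := GaloisField p (2 * (n : ℕ))) 2
    (by norm_num) hcard.symm
  have hodd' : Odd (Fintype.card (GaloisField p (2 * (n : ℕ)))) := by
    rw [hcard]; exact hodd.pow
  have hsq := exists_sq_of_even_degree φ 2 (by decide) hodd' hcard.symm
  choose δ hδ using hsq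
  refine ⟨GaloisField p (2 * (n : ℕ)), inferInstance, hfin, inferInstance,
    (Subgroup.subtype _).comp (pglHomRangeEquiv φ δ hδ).symm.toMonoidHom, ?_, hcard⟩
  intro x y hxy
  have h1 := Subtype.val_injective hxy
  exact (pglHomRangeEquiv φ δ hδ).symm.injective h1

/-- **Dickson's list for subgroups of `PGL₂(q)`**, via `PGL₂(q) ≤ PSL₂(q²)`. -/
theorem pgl_dlist [Fintype F] (p : ℕ) [Fact p.Prime] [CharP F p] (hodd : Odd (Fintype.card F))
    (M : Subgroup PGL2) :
    ∃ (F' : Type) (_ : Field F') (_ : Fintype F') (_ : CharP F' p),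
      Fintype.card F' = Fintype.card F ^ 2 ∧ Cfsg.Agent.S0799.DList F' p M ∧
      (¬ p ∣ Nat.card M →
        ((∃ k : ℕ, (IsCyclic M ∧ Nat.card M = k) ∨ Nonempty (M ≃* DihedralGroup k)) ∨
        Nonempty (M ≃* alternatingGroup (Fin 4)) ∨ Nonempty (M ≃* Equiv.Perm (Fin 4)) ∨
        Nonempty (M ≃* alternatingGroup (Fin 5)))) := by
  obtain ⟨F', i1, i2, i3, ι, hι, hcard⟩ := exists_pgl_embedding (F := F) p hodd
  refine ⟨F', i1, i2, i3, hcard, ?_, ?_⟩
  · exact Cfsg.Agent.S0799.DList.congr (M.equivMapOfInjective ι hι)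
      (Cfsg.Agent.S0799.dlist p (M.map ι))
  · intro hp
    have e := M.equivMapOfInjective ι hι
    have hp' : ¬ p ∣ Nat.card (M.map ι) := by
      rw [← Nat.card_congr e.toEquiv]; exact hp
    rcases pprime_dickson p hp' with ⟨k, -, h⟩ | ⟨⟨f⟩⟩ | ⟨⟨f⟩⟩ | ⟨⟨f⟩⟩
    · left
      refine ⟨k, ?_⟩
      rcases h with ⟨hc, hk⟩ | ⟨⟨f⟩⟩
      · left
        refine ⟨isCyclic_of_surjective e.symm e.symm.surjective, ?_⟩
        rw [Nat.card_congr e.toEquiv, hk]
      · right
        exact ⟨e.trans f⟩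
    · right; left; exact ⟨e.trans f⟩
    · right; right; left; exact ⟨e.trans f⟩
    · right; right; right; exact ⟨e.trans f⟩

end Cfsg.Agent.Lib.Helper42
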