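import Mathlib
import Cfsg.Agent.Lib.Helper42.PGL2Torus
import Cfsg.Agent.Lib.Helper42.PGL2Gamma
import Cfsg.Agent.Lib.Helper42.PGL2Borel
import Cfsg.Agent.Lib.Helper41.MaxGeneric
import Cfsg.Agent.S0807
import Cfsg.Agent.S0808

set_option autoImplicit false

/-!
# Maximal subgroups of `PGL₂(F)`: the dihedral case (helper42)
-/

namespace Cfsg.Agent.Lib.Helper42

open Cfsg.Agent.Lib.Helper11 Cfsg.Agent.Lib.Helper41 Cfsg.Agent.Lib.Helper14

variable {F : Type*} [Field F]

local notation "SL2" => Matrix.SpecialLinearGroup (Fin 2) F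
local notation "PSL2" => Matrix.ProjectiveSpecialLinearGroup (Fin 2) F
local notation "GL2" => GL (Fin 2) F
local notation "PGL2" => Matrix.ProjGenLinGroup (Fin 2) F

/-- `M`-invariance of `⟨x⟩` passes to `⟨x ^ i⟩` -/
theorem zpowers_pow_invariant {M : Subgroup PGL2} {x : PSL2}
    (hinv : ∀ W : GL2, Matrix.ProjGenLinGroup.mk W ∈ M → glConjBar W x ∈ Subgroup.zpowers x)
    (i : ℕ) (W : GL2) (hW : Matrix.ProjGenLinGroup.mk W ∈ M) (y : PSL2)
    (hy : y ∈ Subgroup.zpowers (x ^ i)) : glConjBar W y ∈ Subgroup.zpowers (x ^ i) := by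
  obtain ⟨j, rfl⟩ := Subgroup.mem_zpowers_iff.mp hy
  obtain ⟨l, hl⟩ := Subgroup.mem_zpowers_iff.mp (hinv W hW)
  rw [map_zpow, map_pow, ← hl]
  apply Subgroup.zpow_mem
  rw [Subgroup.mem_zpowers_iff]
  refine ⟨l, ?_⟩
  rw [← zpow_natCast, ← zpow_natCast, ← zpow_mul, ← zpow_mul, mul_comm]

/-- the core step: a nontrivial `M`-invariant cyclic subgroup `⟨x'⟩` of `M ∩ L` conjugate into a
torus `T` forces a conjugate of the torus normaliser into `M ∩ L` -/
theorem card_le_of_conj_mem_torus [Fintype F] {M : Subgroup PGL2} (D : MaxData F M)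
    {T Dh : Subgroup PSL2} {n : ℕ} (hTP : IsTorusPair T Dh n) (x' : PSL2)
    (hx'H : x' ∈ barH M) (hx'1 : x' ≠ 1)
    (hinv : ∀ W : GL2, Matrix.ProjGenLinGroup.mk W ∈ M → ∀ y ∈ Subgroup.zpowers x',
      glConjBar W y ∈ Subgroup.zpowers x')
    (g : PSL2) (hg : g * x' * g⁻¹ ∈ T) : 2 * n ≤ Nat.card (barH M) := by
  have hfin : Finite PSL2 := finite_PSL2
  obtain ⟨hTD, hcyc, hcardT, ⟨eD⟩, hconj⟩ := hTP
  have hK1 : Subgroup.zpowers x' ≠ ⊥ := by
    intro h
    apply hx'1
    have : x' ∈ Subgroup.zpowers x' := Subgroup.mem_zpowers x'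
    rw [h, Subgroup.mem_bot] at this
    exact this
  have hKH : Subgroup.zpowers x' ≤ barH M := by
    rw [Subgroup.zpowers_le]; exact hx'H
  have hmem : ∀ d ∈ Dh, g⁻¹ * d * g ∈ barH M := by
    intro d hd
    apply D.mem_barH_of_invariant _ hK1 hKH hinv
    intro y hy
    obtain ⟨j, rfl⟩ := Subgroup.mem_zpowers_iff.mp hy
    have h1 : g⁻¹ * d * g * x' * (g⁻¹ * d * g)⁻¹ = g⁻¹ * (d * (g * x' * g⁻¹) * d⁻¹) * g := by
      group
    have h2 : g⁻¹ * d * g * x' * (g⁻¹ * d * g)⁻¹ ∈ Subgroup.zpowers x' := by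
      rw [h1]
      rcases hconj d hd _ hg with h | h
      · rw [h]
        have : g⁻¹ * (g * x' * g⁻¹) * g = x' := by group
        rw [this]; exact Subgroup.mem_zpowers x'
      · rw [h]
        have : g⁻¹ * (g * x' * g⁻¹)⁻¹ * g = x'⁻¹ := by group
        rw [this]; exact Subgroup.inv_mem _ (Subgroup.mem_zpowers x')
    have h3 : g⁻¹ * d * g * x' ^ j * (g⁻¹ * d * g)⁻¹
        = (g⁻¹ * d * g * x' * (g⁻¹ * d * g)⁻¹) ^ j := by
      rw [conj_zpow]
    rw [h3]
    exact Subgroup.zpow_mem _ h2 j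
  have hle : Nat.card Dh ≤ Nat.card (barH M) := by
    apply Nat.card_le_card_of_injective (fun d : Dh => (⟨g⁻¹ * d * g, hmem d d.2⟩ : barH M))
    intro d1 d2 h12
    have h := congrArg Subtype.val h12
    simp only at h
    apply Subtype.ext
    have h' := mul_right_cancel h
    exact mul_left_cancel h'
  rw [Nat.card_congr eD.toEquiv, DihedralGroup.nat_card] at hle
  exact hle

theorem normalizer_le_barH [Fintype F] {M : Subgroup PGL2} (D : MaxData F M)
    (hH1 : barH M ≠ ⊥) : Subgroup.normalizer ((barH M : Subgroup PSL2) : Set PSL2) = barH M := by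
  apply le_antisymm
  · intro z hz
    apply D.mem_barH_of_invariant (barH M) hH1 le_rfl
    · intro W hW y hy
      exact glConjBar_mem_barH hW hy
    · intro y hy
      exact (hz y).mp hy
  · exact Subgroup.le_normalizer

/-- `4 ∣ |PSL₂(q)|` -/
theorem four_dvd_card_PSL2 [Fintype F] (hodd : Odd (Fintype.card F)) :
    4 ∣ Nat.card PSL2 := by
  have h := card_PSL2_two_mul (F := F) hodd
  obtain ⟨m, hm⟩ := hodd
  rw [hm] at h
  simp only [Nat.add_sub_cancel] at h
  have h2 : 2 * Nat.card PSL2 = 2 * (4 * ((2 * m + 1) * (m * (m + 1) / 2))) := by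
    rw [h]
    have : 2 ∣ m * (m + 1) := (Nat.even_mul_succ_self m).two_dvd
    obtain ⟨c, hc⟩ := this
    rw [hc, Nat.mul_div_cancel_left _ (by norm_num : 0 < 2)]
    have : (2 * m + 1) * (2 * m) * (2 * m + 1 + 1) = 4 * (2 * m + 1) * (m * (m + 1)) := by ring
    rw [this, hc]; ring
  have h3 := Nat.eq_of_mul_eq_mul_left (by norm_num : 0 < 2) h2
  exact ⟨_, h3⟩

theorem card_PSL2_mul_two' [Fintype F] (hodd : Odd (Fintype.card F)) :
    Nat.card PSL2 * 2 = Fintype.card F * (Fintype.card F ^ 2 - 1) := by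
  have := card_PSL2_mul_gcd (K := F)
  rwa [gcd_two_pred_of_odd hodd] at this

/-- normalisers of four-groups in `PSL₂(q)`, `q ≡ ±3 (mod 8)` -/
theorem card_normalizer_klein [Fintype F] (hodd : Odd (Fintype.card F))
    (hq : Fintype.card F % 8 = 3 ∨ Fintype.card F % 8 = 5) (V : Subgroup PSL2)
    (hV : IsKleinFour V) : Nat.card (Subgroup.normalizer (V : Set PSL2)) = 12 := by
  have hfin : Finite PSL2 := finite_PSL2
  have h12 := Cfsg.Agent.S0807.result (F := F) rfl hodd
  have hall := (Cfsg.Agent.S0808.result (F := F) rfl hodd).1 hq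
  have hcls : Cfsg.Agent.S0808.cls V = {W : Subgroup PSL2 | IsKleinFour W} :=
    Set.Subset.antisymm (Cfsg.Agent.S0808.cls_subset V hV) (fun W hW => hall V W hV hW)
  have h := Cfsg.Agent.S0808.card_cls_mul V
  rw [hcls] at h
  have hK : Nat.card ({W : Subgroup PSL2 | IsKleinFour W} : Set (Subgroup PSL2))
      = Nat.card {V : Subgroup PSL2 // IsKleinFour V} := rfl
  rw [hK, ← h12] at h
  have hpos : 0 < Nat.card {V : Subgroup PSL2 // IsKleinFour V} := by
    have : Nonempty {V : Subgroup PSL2 // IsKleinFour V} := ⟨⟨V, hV⟩⟩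
    exact Nat.card_pos
  have h' : Nat.card {V : Subgroup PSL2 // IsKleinFour V}
      * Nat.card (Subgroup.normalizer (V : Set PSL2))
      = Nat.card {V : Subgroup PSL2 // IsKleinFour V} * 12 := by rw [h]; ring
  exact Nat.eq_of_mul_eq_mul_left hpos h'

section small

variable [Fintype F] {M : Subgroup (Matrix.ProjGenLinGroup (Fin 2) F)}

theorem barH_card_ne_one (D : MaxData F M) : Nat.card (barH M) ≠ 1 := by
  intro h1
  have hfin : Finite PGL2 := finite_PGL2
  have : Fact (Nat.Prime 2) := ⟨Nat.prime_two⟩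
  have hM2 : Nat.card M = 2 := by rw [D.card_eq, h1]
  have hMp : IsPGroup 2 M := IsPGroup.of_card (n := 1) (by rw [hM2]; norm_num)
  have hG : Nat.card PGL2 = Fintype.card F * (Fintype.card F ^ 2 - 1) := card_PGL2
  obtain ⟨m, hm⟩ := D.hodd
  have hq2 : Fintype.card F ^ 2 - 1 = 4 * (m * (m + 1)) := by
    rw [hm]
    have : (2 * m + 1) ^ 2 = 4 * (m * (m + 1)) + 1 := by ring
    rw [this, Nat.add_sub_cancel]
  have h4 : 2 ^ 2 ∣ Nat.card PGL2 := by
    rw [hG, hq2]
    exact Dvd.dvd.mul_left (Dvd.intro _ rfl) _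
  let S : Sylow 2 PGL2 := default
  have h4S : 2 ^ 2 ∣ Nat.card S := S.pow_dvd_card_of_pow_dvd_card h4
  have hS4 : 4 ≤ Nat.card S := Nat.le_of_dvd Nat.card_pos h4S
  have hStop : (S : Subgroup PGL2) ≠ ⊤ := by
    intro htop
    obtain ⟨e, he⟩ := IsPGroup.iff_card.mp S.isPGroup'
    have he' : Nat.card PGL2 = 2 ^ e := by
      rw [← he, ← Subgroup.card_top (G := PGL2), ← htop]
    have hdvd : Fintype.card F ∣ 2 ^ e := by
      rw [← he', hG]; exact Dvd.intro _ rfl
    have hcop : Nat.Coprime (Fintype.card F) (2 ^ e) := by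
      apply Nat.Coprime.pow_right
      exact (Nat.coprime_comm.mp (Nat.coprime_two_left.mpr D.hodd))
    have := Nat.Coprime.eq_one_of_dvd hcop hdvd
    have h3 := D.h3
    omega
  exact not_coatom_of_pgroup M (S : Subgroup PGL2) D.hM 2 hMp hStop S.not_dvd_index
    (by rw [hM2]; omega)

theorem barH_ne_bot (D : MaxData F M) : barH M ≠ ⊥ := by
  intro h
  apply barH_card_ne_one D
  rw [h, Subgroup.card_bot]

theorem barH_card_ne_two (D : MaxData F M) : Nat.card (barH M) ≠ 2 := by
  intro h2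
  have hfin : Finite PSL2 := finite_PSL2
  have : Fact (Nat.Prime 2) := ⟨Nat.prime_two⟩
  have hN := normalizer_le_barH D (barH_ne_bot D)
  have h4 : 2 ^ (1 + 1) ∣ Nat.card PSL2 := four_dvd_card_PSL2 D.hodd
  have := Sylow.prime_pow_dvd_card_normalizer (p := 2) (n := 1) h4 (H := barH M)
    (by rw [h2]; norm_num)
  rw [hN, h2] at this
  omega

theorem barH_not_klein (D : MaxData F M) (hV : IsKleinFour (barH M)) : False := by
  have hfin : Finite PSL2 := finite_PSL2
  have : Fact (Nat.Prime 2) := ⟨Nat.prime_two⟩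
  have hN := normalizer_le_barH D (barH_ne_bot D)
  have hc4 : Nat.card (barH M) = 4 := hV.card_four
  have hq8 : Fintype.card F % 8 = 1 ∨ Fintype.card F % 8 = 7 ∨ Fintype.card F % 8 = 3
      ∨ Fintype.card F % 8 = 5 := by
    obtain ⟨m, hm⟩ := D.hodd
    omega
  rcases hq8 with h | h | h | h
  · have h8 : 2 ^ (2 + 1) ∣ Nat.card PSL2 :=
      Cfsg.Agent.S0808.arith17 _ _ (card_PSL2_mul_two' D.hodd) (Or.inl h)
    have := Sylow.prime_pow_dvd_card_normalizer (p := 2) (n := 2) h8 (H := barH M)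
      (by rw [hc4]; norm_num)
    rw [hN, hc4] at this
    omega
  · have h8 : 2 ^ (2 + 1) ∣ Nat.card PSL2 :=
      Cfsg.Agent.S0808.arith17 _ _ (card_PSL2_mul_two' D.hodd) (Or.inr h)
    have := Sylow.prime_pow_dvd_card_normalizer (p := 2) (n := 2) h8 (H := barH M)
      (by rw [hc4]; norm_num)
    rw [hN, hc4] at this
    omega
  · have := card_normalizer_klein D.hodd (Or.inl h) (barH M) hV
    rw [hN, hc4] at this
    omega
  · have := card_normalizer_klein D.hodd (Or.inr h) (barH M) hV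
    rw [hN, hc4] at this
    omega

end small

section general

variable [Fintype F] {M : Subgroup (Matrix.ProjGenLinGroup (Fin 2) F)}

/-- general case: an `M`-invariant cyclic subgroup of order `k ≥ 3`, `k ∣ n`, of `M ∩ L` -/
theorem dihedral_general (D : MaxData F M) (n n' : ℕ) (hnn' : n' + 1 = n ∨ n + 1 = n')
    (hL : Nat.card PSL2 = 2 * Fintype.card F * n * n') (hcop : Nat.Coprime (Fintype.card F) n)
    (hqodd : Odd (Fintype.card F))
    {T Dh : Subgroup PSL2} (hTP : IsTorusPair T Dh n)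
    (k : ℕ) (hk : k ∣ n) (hk3 : 3 ≤ k) (x : PSL2) (hxH : x ∈ barH M) (hxk : orderOf x = k)
    (hinv : ∀ W : GL2, Matrix.ProjGenLinGroup.mk W ∈ M → glConjBar W x ∈ Subgroup.zpowers x) :
    2 * n ≤ Nat.card (barH M) := by
  have hfin : Finite PSL2 := finite_PSL2
  have hTD := hTP.1
  have hcardT : Nat.card T = n := hTP.2.2.1
  obtain ⟨eD⟩ := hTP.2.2.2.1
  have hn0 : 0 < n := by rw [← hcardT]; exact Nat.card_pos
  have hkn : k ≤ n := Nat.le_of_dvd hn0 hk
  have hTidx : T.index = 2 * Fintype.card F * n' := by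
    have h1 := Subgroup.index_mul_card T
    rw [hcardT, hL] at h1
    have h2 : T.index * n = (2 * Fintype.card F * n') * n := by rw [h1]; ring
    exact Nat.eq_of_mul_eq_mul_right hn0 h2
  have hDidx : Dh.index = Fintype.card F * n' := by
    have h1 := Subgroup.index_mul_card Dh
    rw [Nat.card_congr eD.toEquiv, DihedralGroup.nat_card, hL] at h1
    have h2 : Dh.index * (2 * n) = (Fintype.card F * n') * (2 * n) := by rw [h1]; ring
    exact Nat.eq_of_mul_eq_mul_right (by omega) h2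
  have hxpow : x ^ k = 1 := by rw [← hxk]; exact pow_orderOf_eq_one x
  rcases Nat.eq_two_pow_or_exists_odd_prime_and_dvd k with ⟨a, ha⟩ | ⟨r, hr, hrk, hrodd⟩
  · -- `k` a power of `2`
    have ha2 : 2 ≤ a := by
      by_contra hlt
      push Not at hlt
      interval_cases a <;> omega
    obtain ⟨b, rfl⟩ : ∃ b, a = b + 2 := ⟨a - 2, by omega⟩
    have hk4 : k = 2 ^ b * 4 := by rw [ha, pow_add]; norm_num
    set x' : PSL2 := x ^ (2 ^ b) with hx'
    have hx'4 : x' ^ (2 ^ 2) = 1 := by
      rw [hx', ← pow_mul]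
      norm_num
      rw [← hk4]; exact hxpow
    have hx'sq : x' * x' ≠ 1 := by
      rw [hx', ← pow_add]
      apply pow_ne_one_of_lt_orderOf
      · positivity
      · rw [hxk, hk4]
        have : 0 < 2 ^ b := by positivity
        omega
    have hx'1 : x' ≠ 1 := by
      intro h
      apply hx'sq
      rw [h, one_mul]
    have hx'H : x' ∈ barH M := Subgroup.pow_mem _ hxH _
    have hneven : 4 ∣ n := dvd_trans ⟨2 ^ b, by rw [hk4]; ring⟩ hk
    have hn'odd : Odd n' := by
      obtain ⟨c, hc⟩ := hneven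
      rcases hnn' with h | h
      · exact ⟨2 * c - 1, by omega⟩
      · exact ⟨2 * c, by omega⟩
    have : Fact (Nat.Prime 2) := ⟨Nat.prime_two⟩
    have hDodd : ¬ 2 ∣ Dh.index := by
      rw [hDidx]
      have : Odd (Fintype.card F * n') := hqodd.mul hn'odd
      rw [← Nat.not_even_iff_odd, even_iff_two_dvd] at this
      exact this
    obtain ⟨g, hg⟩ := exists_conj_mem_of_not_dvd_index Dh 2 hDodd x' 2 hx'4
    have hgT : g * x' * g⁻¹ ∈ T := by
      apply hTP.mem_of_sq_ne_one (by omega) hg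
      intro h
      apply hx'sq
      have : g * x' * g⁻¹ * (g * x' * g⁻¹) = g * (x' * x') * g⁻¹ := by group
      rw [this] at h
      have h2 : x' * x' = g⁻¹ * (g * (x' * x') * g⁻¹) * g := by group
      rw [h2, h]; group
    exact card_le_of_conj_mem_torus D hTP x' hx'H hx'1 (zpowers_pow_invariant hinv _) g hgT
  · -- an odd prime `r ∣ k`
    have : Fact r.Prime := ⟨hr⟩
    obtain ⟨c, hc⟩ := hrk
    have hc0 : 0 < c := by
      rcases Nat.eq_zero_or_pos c with h | h
      · rw [h, mul_zero] at hc; omega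
      · exact h
    set x' : PSL2 := x ^ c with hx'
    have hx'r : x' ^ (r ^ 1) = 1 := by
      rw [pow_one, hx', ← pow_mul, mul_comm, ← hc]; exact hxpow
    have hx'1 : x' ≠ 1 := by
      rw [hx']
      apply pow_ne_one_of_lt_orderOf hc0.ne'
      rw [hxk, hc]
      have := hr.two_le
      nlinarith
    have hx'H : x' ∈ barH M := Subgroup.pow_mem _ hxH _
    have hrn : r ∣ n := dvd_trans ⟨c, hc⟩ hk
    have hr2 : ¬ r ∣ 2 := by
      intro h
      have := (Nat.prime_dvd_prime_iff_eq hr Nat.prime_two).mp h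
      rw [this] at hrodd
      exact absurd hrodd (by decide)
    have hrq : ¬ r ∣ Fintype.card F := by
      intro h
      have := Nat.dvd_gcd h hrn
      rw [hcop.gcd_eq_one] at this
      exact hr.one_lt.ne' (Nat.dvd_one.mp this)
    have hrn' : ¬ r ∣ n' := by
      intro h
      have h1 : r ∣ 1 := by
        rcases hnn' with h' | h'
        · have : r ∣ n' + 1 := h' ▸ hrn
          exact (Nat.dvd_add_right h).mp this
        · have : r ∣ n + 1 := h' ▸ h
          exact (Nat.dvd_add_right hrn).mp this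
      exact hr.one_lt.ne' (Nat.dvd_one.mp h1)
    have hrT : ¬ r ∣ T.index := by
      rw [hTidx]
      intro h
      rcases (Nat.Prime.dvd_mul hr).mp h with h1 | h1
      · rcases (Nat.Prime.dvd_mul hr).mp h1 with h2 | h2
        · exact hr2 h2
        · exact hrq h2
      · exact hrn' h1
    obtain ⟨g, hg⟩ := exists_conj_mem_of_not_dvd_index T r hrT x' 1 hx'r
    exact card_le_of_conj_mem_torus D hTP x' hx'H hx'1 (zpowers_pow_invariant hinv _) g hg

theorem dihedral_case_aux (D : MaxData F M) (n n' : ℕ) (hnn' : n' + 1 = n ∨ n + 1 = n')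
    (hL : Nat.card PSL2 = 2 * Fintype.card F * n * n') (hcop : Nat.Coprime (Fintype.card F) n)
    {T Dh : Subgroup PSL2} (hTP : IsTorusPair T Dh n) (k : ℕ) (hk : k ∣ n)
    (h : (IsCyclic (barH M) ∧ Nat.card (barH M) = k) ∨ Nonempty (barH M ≃* DihedralGroup k)) :
    ∃ x : PSL2, 3 ≤ n ∧ Nonempty (barH M ≃* DihedralGroup n) ∧ x ∈ barH M ∧ orderOf x = n ∧
      (∀ W : GL2, Matrix.ProjGenLinGroup.mk W ∈ M → glConjBar W x ∈ Subgroup.zpowers x) := by
  have hfin : Finite PSL2 := finite_PSL2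
  have hcardT : Nat.card T = n := hTP.2.2.1
  have hn0 : 0 < n := by rw [← hcardT]; exact Nat.card_pos
  have hkn : k ≤ n := Nat.le_of_dvd hn0 hk
  have hpos : 0 < Nat.card (barH M) := Nat.card_pos
  rcases h with ⟨hcyc, hcard⟩ | ⟨⟨e⟩⟩
  · exfalso
    by_cases hk3 : 3 ≤ k
    · obtain ⟨⟨x, hxH⟩, hgen⟩ := IsCyclic.exists_generator (α := barH M)
      have hxk : orderOf x = k := by
        have h1 := orderOf_eq_card_of_forall_mem_zpowers hgen
        rw [hcard] at h1
        rw [← h1]
        exact (Subgroup.orderOf_mk x hxH).symm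
      have hinv : ∀ W : GL2, Matrix.ProjGenLinGroup.mk W ∈ M →
          glConjBar W x ∈ Subgroup.zpowers x := by
        intro W hW
        have hy := glConjBar_mem_barH hW hxH
        obtain ⟨j, hj⟩ := Subgroup.mem_zpowers_iff.mp (hgen ⟨_, hy⟩)
        rw [Subgroup.mem_zpowers_iff]
        refine ⟨j, ?_⟩
        have := congrArg Subtype.val hj
        simpa using this
      have := dihedral_general D n n' hnn' hL hcop D.hodd hTP k hk hk3 x hxH hxk hinv
      omega
    · have h1 := barH_card_ne_one D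
      have h2 := barH_card_ne_two D
      omega
  · by_cases hk3 : 3 ≤ k
    · have hne : NeZero k := ⟨by omega⟩
      set x : PSL2 := ((e.symm (DihedralGroup.r 1) : barH M) : PSL2) with hx
      have hxH : x ∈ barH M := (e.symm (DihedralGroup.r 1)).2
      have hxk : orderOf x = k := by
        rw [hx, Subgroup.orderOf_coe, MulEquiv.orderOf_eq, DihedralGroup.orderOf_r_one]
      have hinv : ∀ W : GL2, Matrix.ProjGenLinGroup.mk W ∈ M →
          glConjBar W x ∈ Subgroup.zpowers x := by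
        intro W hW
        have hy := glConjBar_mem_barH hW hxH
        have hyk : orderOf (e ⟨_, hy⟩) = k := by
          rw [MulEquiv.orderOf_eq, Subgroup.orderOf_mk, MulEquiv.orderOf_eq, hxk]
        have hcase : ∃ j : ZMod k, e ⟨_, hy⟩ = DihedralGroup.r j := by
          cases hc : e ⟨_, hy⟩ with
          | r j => exact ⟨j, rfl⟩
          | sr j =>
            rw [hc, DihedralGroup.orderOf_sr] at hyk
            omega
        obtain ⟨j, hj⟩ := hcase
        have h1 : (⟨_, hy⟩ : barH M) = (e.symm (DihedralGroup.r 1)) ^ j.val := by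
          apply e.injective
          rw [map_pow, MulEquiv.apply_symm_apply, hj, DihedralGroup.r_one_pow,
            ZMod.natCast_zmod_val]
        have h2 := congrArg Subtype.val h1
        rw [Subgroup.coe_pow] at h2
        rw [Subgroup.mem_zpowers_iff]
        exact ⟨j.val, by rw [zpow_natCast]; exact h2.symm⟩
      have h2n := dihedral_general D n n' hnn' hL hcop D.hodd hTP k hk hk3 x hxH hxk hinv
      rw [Nat.card_congr e.toEquiv, DihedralGroup.nat_card] at h2n
      have hkeq : k = n := by omega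
      subst hkeq
      exact ⟨x, hk3, ⟨e⟩, hxH, hxk, hinv⟩
    · exfalso
      have hc : Nat.card (barH M) = 2 * k := by
        rw [Nat.card_congr e.toEquiv, DihedralGroup.nat_card]
      have h1 := barH_card_ne_two D
      have hk2 : k = 2 := by omega
      subst hk2
      apply barH_not_klein D
      exact ⟨by rw [hc], by
        rw [Monoid.exponent_eq_of_mulEquiv e]
        exact IsKleinFour.exponent_two⟩

/-- **Cyclic / dihedral case.** -/
theorem dihedral_case (D : MaxData F M) (k : ℕ)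
    (hk : k ∣ (Fintype.card F + 1) / 2 ∨ k ∣ (Fintype.card F - 1) / 2)
    (h : (IsCyclic (barH M) ∧ Nat.card (barH M) = k) ∨ Nonempty (barH M ≃* DihedralGroup k)) :
    ∃ (n : ℕ) (x : PSL2), 3 ≤ n ∧
      (n = (Fintype.card F - 1) / 2 ∨ n = (Fintype.card F + 1) / 2) ∧
      Nonempty (barH M ≃* DihedralGroup n) ∧ x ∈ barH M ∧ orderOf x = n ∧
      (∀ W : GL2, Matrix.ProjGenLinGroup.mk W ∈ M → glConjBar W x ∈ Subgroup.zpowers x) := by
  have hL := card_PSL2_two_mul (F := F) D.hodd
  obtain ⟨m, hm⟩ := D.hodd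
  have e1 : (Fintype.card F - 1) / 2 = m := by omega
  have e2 : (Fintype.card F + 1) / 2 = m + 1 := by omega
  have e3 : Fintype.card F - 1 = 2 * m := by omega
  have e4 : Fintype.card F + 1 = 2 * (m + 1) := by omega
  rw [e3, e4] at hL
  rcases hk with hk | hk
  · obtain ⟨T, Dh, hTP⟩ := exists_torusPair_plus (F := F) ⟨m, hm⟩
    have hL' : Nat.card PSL2 = 2 * Fintype.card F * ((Fintype.card F + 1) / 2) * m := by
      rw [e2]
      have : 2 * Nat.card PSL2 = 2 * (2 * Fintype.card F * (m + 1) * m) := by rw [hL]; ring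
      exact Nat.eq_of_mul_eq_mul_left (by norm_num) this
    have hcop : Nat.Coprime (Fintype.card F) ((Fintype.card F + 1) / 2) := by
      rw [e2, hm]
      have : 2 * m + 1 = 2 * (m + 1) - 1 := by omega
      rw [Nat.coprime_comm, this]
      apply Nat.Coprime.symm
      rw [Nat.coprime_iff_gcd_eq_one]
      have h1 : Nat.gcd (2 * (m + 1) - 1) (m + 1) ∣ 1 := by
        have ha : Nat.gcd (2 * (m + 1) - 1) (m + 1) ∣ 2 * (m + 1) :=
          Dvd.dvd.mul_left (Nat.gcd_dvd_right _ _) 2
        have hb : Nat.gcd (2 * (m + 1) - 1) (m + 1) ∣ 2 * (m + 1) - 1 := Nat.gcd_dvd_left _ _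
        have : 2 * (m + 1) = (2 * (m + 1) - 1) + 1 := by omega
        rw [this] at ha
        exact (Nat.dvd_add_right hb).mp ha
      exact Nat.dvd_one.mp h1
    obtain ⟨x, h3, he, hxH, hxk, hinv⟩ :=
      dihedral_case_aux D _ m (Or.inl (by omega)) hL' hcop hTP k hk h
    exact ⟨_, x, h3, Or.inr rfl, he, hxH, hxk, hinv⟩
  · obtain ⟨T, Dh, hTP⟩ := exists_torusPair_minus (F := F) ⟨m, hm⟩
    have hL' : Nat.card PSL2 = 2 * Fintype.card F * ((Fintype.card F - 1) / 2) * (m + 1) := by
      rw [e1]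
      have : 2 * Nat.card PSL2 = 2 * (2 * Fintype.card F * m * (m + 1)) := by rw [hL]; ring
      exact Nat.eq_of_mul_eq_mul_left (by norm_num) this
    have hcop : Nat.Coprime (Fintype.card F) ((Fintype.card F - 1) / 2) := by
      rw [e1, hm]
      rw [Nat.coprime_iff_gcd_eq_one]
      have h1 : Nat.gcd (2 * m + 1) m ∣ 1 := by
        have ha : Nat.gcd (2 * m + 1) m ∣ 2 * m := Dvd.dvd.mul_left (Nat.gcd_dvd_right _ _) 2
        have hb : Nat.gcd (2 * m + 1) m ∣ 2 * m + 1 := Nat.gcd_dvd_left _ _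
        exact (Nat.dvd_add_right ha).mp hb
      exact Nat.dvd_one.mp h1
    obtain ⟨x, h3, he, hxH, hxk, hinv⟩ :=
      dihedral_case_aux D _ (m + 1) (Or.inr (by omega)) hL' hcop hTP k hk h
    exact ⟨_, x, h3, Or.inl rfl, he, hxH, hxk, hinv⟩

end general

end Cfsg.Agent.Lib.Helper42
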