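import Mathlib
import Cfsg.Agent.Lib.Helper42.PGL2Gamma
import Cfsg.Agent.Lib.Helper41.DicksonMax2

set_option autoImplicit false

/-!
# Maximal subgroups of `PGL₂(F)`: recognising the isomorphism type of `M` (helper42)
-/

namespace Cfsg.Agent.Lib.Helper42

open Cfsg.Agent.Lib.Helper11 Cfsg.Agent.Lib.Helper41

set_option maxRecDepth 100000 in
theorem a4_no_normal_three : ∀ y : alternatingGroup (Fin 4), y ≠ 1 → y ^ 3 = 1 →
    ∃ g : alternatingGroup (Fin 4), g * y * g⁻¹ ≠ 1 ∧ g * y * g⁻¹ ≠ y ∧ g * y * g⁻¹ ≠ y⁻¹ := by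
  decide

set_option maxRecDepth 100000 in
theorem s4_pow_six : ∀ y : Equiv.Perm (Fin 4), y ^ 6 = 1 → y ^ 2 = 1 ∨ y ^ 3 = 1 := by
  decide

set_option maxRecDepth 100000 in
theorem a5_pow_fifteen : ∀ y : alternatingGroup (Fin 5), y ^ 15 = 1 → y ^ 3 = 1 ∨ y ^ 5 = 1 := by
  decide

/-- two non-involutions of a dihedral group commute -/
theorem dihedral_comm_of_sq_ne_one {j : ℕ} (a b : DihedralGroup j) (ha : a * a ≠ 1)
    (hb : b * b ≠ 1) : a * b = b * a := by
  cases a with
  | sr i => exact absurd (DihedralGroup.sr_mul_self i) ha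
  | r i =>
    cases b with
    | sr k => exact absurd (DihedralGroup.sr_mul_self k) hb
    | r k => rw [DihedralGroup.r_mul_r, DihedralGroup.r_mul_r, add_comm]

/-- a group with two non-commuting non-involutions is neither cyclic nor dihedral -/
theorem not_cyclic_of_noncomm {X : Type*} [Group X] (c1 c2 : X) (hnc : c1 * c2 ≠ c2 * c1)
    (hc : IsCyclic X) : False := by
  obtain ⟨g, hg⟩ := IsCyclic.exists_generator (α := X)
  obtain ⟨i, rfl⟩ := Subgroup.mem_zpowers_iff.mp (hg c1)
  obtain ⟨k, rfl⟩ := Subgroup.mem_zpowers_iff.mp (hg c2)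
  exact hnc (zpow_mul_comm g i k)

theorem not_dihedral_of_noncomm {X : Type*} [Group X] (c1 c2 : X) (h1 : c1 * c1 ≠ 1)
    (h2 : c2 * c2 ≠ 1) (hnc : c1 * c2 ≠ c2 * c1) (j : ℕ) (f : X ≃* DihedralGroup j) : False := by
  apply hnc
  apply f.injective
  rw [map_mul, map_mul]
  apply dihedral_comm_of_sq_ne_one
  · intro h
    apply h1
    apply f.injective
    rw [map_mul, h, map_one]
  · intro h
    apply h2
    apply f.injective
    rw [map_mul, h, map_one]

variable {F : Type*} [Field F]

local notation "SL2" => Matrix.SpecialLinearGroup (Fin 2) F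
local notation "PSL2" => Matrix.ProjectiveSpecialLinearGroup (Fin 2) F
local notation "GL2" => GL (Fin 2) F
local notation "PGL2" => Matrix.ProjGenLinGroup (Fin 2) F

/-- elements of `M ∩ L` as elements of `M` -/
def toM (M : Subgroup PGL2) : barH M →* M where
  toFun y := ⟨pslPGL (y : PSL2), y.2⟩
  map_one' := by
    apply Subtype.ext
    simp
  map_mul' := by
    intro a b
    apply Subtype.ext
    simp

theorem toM_injective (M : Subgroup PGL2) : Function.Injective (toM M) := by
  intro a b hab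
  have h1 := congrArg Subtype.val hab
  exact Subtype.ext (pslPGL_injective h1)

theorem char_dvd_card [Fintype F] (p : ℕ) [Fact p.Prime] [CharP F p] : p ∣ Fintype.card F := by
  obtain ⟨a, -, ha⟩ := FiniteField.card F p
  rw [ha]
  exact dvd_pow_self p a.pos.ne'

theorem char_odd [Fintype F] (p : ℕ) [Fact p.Prime] [CharP F p] (hodd : Odd (Fintype.card F)) :
    p ≠ 2 := by
  rintro rfl
  have := char_dvd_card (F := F) 2
  rcases hodd with ⟨m, hm⟩
  omega

/-- **Recognition of the dihedral groups.** -/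
theorem recog_dihedral [Fintype F] (p : ℕ) [Fact p.Prime] [CharP F p] {M : Subgroup PGL2}
    (D : MaxData F M) (n : ℕ) (h3 : 3 ≤ n)
    (hn : n = (Fintype.card F - 1) / 2 ∨ n = (Fintype.card F + 1) / 2)
    (e : barH M ≃* DihedralGroup n) (x : PSL2) (hxH : x ∈ barH M) (hxn : orderOf x = n)
    (hinv : ∀ W : GL2, Matrix.ProjGenLinGroup.mk W ∈ M → glConjBar W x ∈ Subgroup.zpowers x) :
    Nonempty (M ≃* DihedralGroup (2 * n)) := by
  have hp := (Fact.out : p.Prime)
  have hcard : Nat.card M = 4 * n := by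
    rw [D.card_eq, Nat.card_congr e.toEquiv, DihedralGroup.nat_card]; ring
  have hpq := char_dvd_card (F := F) p
  have hp2 := char_odd (F := F) p D.hodd
  have hpM : ¬ p ∣ Nat.card M := by
    rw [hcard]
    intro h
    rcases (Nat.Prime.dvd_mul hp).mp h with h4 | hpn
    · have : p ∣ 2 ^ 2 := by norm_num; exact h4
      have := (Nat.prime_dvd_prime_iff_eq hp Nat.prime_two).mp (hp.dvd_of_dvd_pow this)
      exact hp2 this
    · obtain ⟨m, hm⟩ := D.hodd
      have h1 : p ∣ 1 := by
        rcases hn with hn | hn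
        · have e1 : n = m := by omega
          have h2 : p ∣ 2 * n := Dvd.dvd.mul_left hpn 2
          have h3 : Fintype.card F = 2 * n + 1 := by omega
          rw [h3] at hpq
          exact (Nat.dvd_add_right h2).mp hpq
        · have e1 : n = m + 1 := by omega
          have h2 : p ∣ 2 * n := Dvd.dvd.mul_left hpn 2
          have h3 : Fintype.card F + 1 = 2 * n := by omega
          rw [← h3] at h2
          exact (Nat.dvd_add_right hpq).mp h2
      exact hp.one_lt.ne' (Nat.dvd_one.mp h1)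
  set X : M := toM M ⟨x, hxH⟩ with hX
  have hXn : orderOf X = n := by
    rw [hX, orderOf_injective (toM M) (toM_injective M), Subgroup.orderOf_mk, hxn]
  have hconjX : ∀ m : M, ∃ i : ℤ, m * X * m⁻¹ = X ^ i := by
    rintro ⟨m, hm⟩
    induction m using Matrix.ProjGenLinGroup.induction_on with | mk W =>
    obtain ⟨i, hi⟩ := Subgroup.mem_zpowers_iff.mp (hinv W hm)
    refine ⟨i, ?_⟩
    apply Subtype.ext
    show Matrix.ProjGenLinGroup.mk W * pslPGL x * (Matrix.ProjGenLinGroup.mk W)⁻¹ = _
    rw [mk_conj_pslPGL, ← hi, map_zpow]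
    simp [hX, toM]
  obtain ⟨F', _, _, _, -, -, hpp⟩ := pgl_dlist p D.hodd M
  rcases hpp hpM with ⟨j, ⟨hcyc, -⟩ | ⟨⟨f⟩⟩⟩ | ⟨⟨f⟩⟩ | ⟨⟨f⟩⟩ | ⟨⟨f⟩⟩
  · -- cyclic
    exfalso
    have hne : NeZero n := ⟨by omega⟩
    apply not_cyclic_of_noncomm (toM M (e.symm (DihedralGroup.r 1)))
      (toM M (e.symm (DihedralGroup.sr 0))) _ hcyc
    intro h
    have h' : toM M (e.symm (DihedralGroup.r 1 * DihedralGroup.sr 0))
        = toM M (e.symm (DihedralGroup.sr 0 * DihedralGroup.r 1)) := by
      rw [map_mul, map_mul, map_mul, map_mul]; exact h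
    have h2 := e.symm.injective (toM_injective M h')
    rw [DihedralGroup.r_mul_sr, DihedralGroup.sr_mul_r] at h2
    have h3 : (0 : ZMod n) - 1 = 0 + 1 := DihedralGroup.sr.inj h2
    have h4 : ((2 : ℕ) : ZMod n) = 0 := by
      push_cast
      linear_combination -h3
    rw [ZMod.natCast_eq_zero_iff] at h4
    have := Nat.le_of_dvd (by norm_num) h4
    omega
  · -- dihedral
    have hj : Nat.card M = 2 * j := by rw [Nat.card_congr f.toEquiv, DihedralGroup.nat_card]
    have hj' : j = 2 * n := by omega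
    subst hj'
    exact ⟨f⟩
  · -- `A₄`
    exfalso
    have h12 := card_of_equiv_A4 f
    have hn3 : n = 3 := by omega
    have hy1 : f X ≠ 1 := by
      intro h
      have : X = 1 := f.injective (by rw [h, map_one])
      rw [this, orderOf_one] at hXn
      omega
    have hy3 : (f X) ^ 3 = 1 := by
      rw [← map_pow, ← hn3, ← hXn, pow_orderOf_eq_one, map_one]
    obtain ⟨g, hg1, hg2, hg3⟩ := a4_no_normal_three (f X) hy1 hy3
    obtain ⟨i, hi⟩ := hconjX (f.symm g)
    have hi' : g * f X * g⁻¹ = (f X) ^ i := by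
      have := congrArg f hi
      rw [map_mul, map_mul, map_inv, MulEquiv.apply_symm_apply, map_zpow] at this
      exact this
    rw [hi', zpow_eq_zpow_emod' i hy3] at hg1 hg2 hg3
    have hmod : i % ((3 : ℕ) : ℤ) = 0 ∨ i % ((3 : ℕ) : ℤ) = 1 ∨ i % ((3 : ℕ) : ℤ) = 2 := by
      omega
    rcases hmod with h | h | h
    · rw [h, zpow_zero] at hg1; exact hg1 rfl
    · rw [h, zpow_one] at hg2; exact hg2 rfl
    · rw [h] at hg3
      apply hg3
      rw [eq_inv_iff_mul_eq_one]
      have : (f X) ^ (2 : ℤ) * f X = (f X) ^ 3 := by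
        rw [zpow_ofNat]; group
      rw [this, hy3]
  · -- `S₄`
    exfalso
    have h24 := card_of_equiv_S4 f
    have hn6 : n = 6 := by omega
    have hy6 : (f X) ^ 6 = 1 := by
      rw [← map_pow, ← hn6, ← hXn, pow_orderOf_eq_one, map_one]
    have ho : orderOf (f X) = 6 := by rw [MulEquiv.orderOf_eq, hXn, hn6]
    rcases s4_pow_six (f X) hy6 with h | h
    · have := orderOf_dvd_of_pow_eq_one h
      rw [ho] at this
      omega
    · have := orderOf_dvd_of_pow_eq_one h
      rw [ho] at this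
      omega
  · -- `A₅`
    exfalso
    have h60 := card_of_equiv_A5 f
    have hn15 : n = 15 := by omega
    have hy15 : (f X) ^ 15 = 1 := by
      rw [← map_pow, ← hn15, ← hXn, pow_orderOf_eq_one, map_one]
    have ho : orderOf (f X) = 15 := by rw [MulEquiv.orderOf_eq, hXn, hn15]
    rcases a5_pow_fifteen (f X) hy15 with h | h
    · have := orderOf_dvd_of_pow_eq_one h
      rw [ho] at this
      omega
    · have := orderOf_dvd_of_pow_eq_one h
      rw [ho] at this
      omega

end Cfsg.Agent.Lib.Helper42
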