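import Mathlib
import Cfsg.Agent.Lib.Helper42.PGL2Borel
import Cfsg.Agent.Lib.Helper41.MaxSubfield
import Cfsg.Agent.Lib.Helper41.MaxCharTwo
import Cfsg.Agent.Lib.Helper41.SubfieldPSL

set_option autoImplicit false

/-!
# Maximal subgroups of `PGL₂(F)`: subfield subgroups (helper42)
-/

namespace Cfsg.Agent.Lib.Helper42

open Cfsg.Agent.Lib.Helper11 Cfsg.Agent.Lib.Helper41

/-- `PGL₂(K) → PGL₂(F)` is injective -/
theorem pglMap_injective {K F : Type*} [Field K] [Field F] (φ : K →+* F) :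
    Function.Injective (Matrix.ProjGenLinGroup.map (n := Fin 2) φ) := by
  rw [injective_iff_map_eq_one]
  intro x hx
  induction x using Matrix.ProjGenLinGroup.induction_on with | mk W =>
  rw [Matrix.ProjGenLinGroup.map_mk, Matrix.ProjGenLinGroup.mk_eq_one,
    Matrix.GeneralLinearGroup.center_eq_range_scalar] at hx
  obtain ⟨u, hu⟩ := hx
  have hent : ∀ i j : Fin 2, φ ((W : Matrix (Fin 2) (Fin 2) K) i j)
      = (Matrix.GeneralLinearGroup.scalar (Fin 2) u : Matrix (Fin 2) (Fin 2) F) i j := by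
    intro i j
    rw [hu]
    rfl
  have h01 : (W : Matrix (Fin 2) (Fin 2) K) 0 1 = 0 := by
    apply φ.injective
    rw [hent, map_zero]
    simp
  have h10 : (W : Matrix (Fin 2) (Fin 2) K) 1 0 = 0 := by
    apply φ.injective
    rw [hent, map_zero]
    simp
  have h11 : (W : Matrix (Fin 2) (Fin 2) K) 1 1 = (W : Matrix (Fin 2) (Fin 2) K) 0 0 := by
    apply φ.injective
    rw [hent, hent]
    simp
  have h00 : (W : Matrix (Fin 2) (Fin 2) K) 0 0 ≠ 0 := by
    intro h0
    have hdet : (W : Matrix (Fin 2) (Fin 2) K).det ≠ 0 := by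
      have := (Matrix.GeneralLinearGroup.det W).ne_zero
      simpa using this
    rw [Matrix.det_fin_two, h10, h0] at hdet
    simp at hdet
  rw [Matrix.ProjGenLinGroup.mk_eq_one, Matrix.GeneralLinearGroup.center_eq_range_scalar]
  refine ⟨Units.mk0 _ h00, ?_⟩
  apply Units.ext
  ext i j
  fin_cases i <;> fin_cases j <;> simp [h01, h10, h11]

variable {F : Type*} [Field F]

local notation "SL2" => Matrix.SpecialLinearGroup (Fin 2) F
local notation "PSL2" => Matrix.ProjectiveSpecialLinearGroup (Fin 2) F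
local notation "GL2" => GL (Fin 2) F
local notation "PGL2" => Matrix.ProjGenLinGroup (Fin 2) F

theorem gl_mul_scalar_apply (W : GL2) (u : Fˣ) (i j : Fin 2) :
    ((W * Matrix.GeneralLinearGroup.scalar (Fin 2) u : GL2) : Matrix (Fin 2) (Fin 2) F) i j
      = (W : Matrix (Fin 2) (Fin 2) F) i j * (u : F) := by
  rw [Units.val_mul, Matrix.GeneralLinearGroup.coe_scalar, Matrix.mul_apply, Fin.sum_univ_two]
  fin_cases j <;> simp

theorem card_fn_lt {a b : ℕ} (ha : 1 ≤ a) (h : a < b) : a * (a ^ 2 - 1) < b * (b ^ 2 - 1) := by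
  have h1 : a ^ 2 - 1 ≤ b ^ 2 - 1 := Nat.sub_le_sub_right (Nat.pow_le_pow_left h.le 2) 1
  have h2 : 0 < b ^ 2 - 1 := by
    have : 2 ^ 2 ≤ b ^ 2 := Nat.pow_le_pow_left (by omega) 2
    omega
  calc a * (a ^ 2 - 1) ≤ a * (b ^ 2 - 1) := Nat.mul_le_mul_left _ h1
    _ < b * (b ^ 2 - 1) := Nat.mul_lt_mul_of_pos_right h h2

theorem card_fn_inj {a b : ℕ} (ha : 1 ≤ a) (hb : 1 ≤ b)
    (h : a * (a ^ 2 - 1) = b * (b ^ 2 - 1)) : a = b := by
  rcases lt_trichotomy a b with h1 | h1 | h1
  · exact absurd h (card_fn_lt ha h1).ne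
  · exact h1
  · exact absurd h (card_fn_lt hb h1).ne'

/-- the subfield subgroup `PGL₂(K)` of `PGL₂(F)` -/
def pglSub (K : Subfield F) : Subgroup PGL2 :=
  (Matrix.ProjGenLinGroup.map (n := Fin 2) K.subtype).range

/-- `PGL₂(K) ≃ pglSub K` -/
noncomputable def pglSubEquiv (K : Subfield F) :
    Matrix.ProjGenLinGroup (Fin 2) K ≃* pglSub K :=
  MonoidHom.ofInjective (pglMap_injective K.subtype)

theorem pglSub_mono {K K₁ : Subfield F} (h : K ≤ K₁) : pglSub K ≤ pglSub K₁ := by
  rintro _ ⟨x, rfl⟩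
  refine ⟨Matrix.ProjGenLinGroup.map (Subfield.inclusion h) x, ?_⟩
  have : K.subtype = K₁.subtype.comp (Subfield.inclusion h) := rfl
  rw [this, Matrix.ProjGenLinGroup.map_comp]
  rfl

theorem card_pglSub [Fintype F] (K : Subfield F) :
    Nat.card (pglSub K) = Nat.card K * (Nat.card K ^ 2 - 1) := by
  classical
  have : Fintype K := Fintype.ofFinite K
  rw [← Nat.card_congr (pglSubEquiv K).toEquiv, card_PGL2, Nat.card_eq_fintype_card]

theorem mk_mem_pglSub (K : Subfield F) (W : GL2) (c : F) (hc : c ≠ 0)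
    (h : ∀ i j, c * (W : Matrix (Fin 2) (Fin 2) F) i j ∈ K) :
    Matrix.ProjGenLinGroup.mk W ∈ pglSub K := by
  set W0 : Matrix (Fin 2) (Fin 2) K := fun i j => ⟨c * (W : Matrix (Fin 2) (Fin 2) F) i j, h i j⟩
    with hW0
  have hmap : W0.map K.subtype = c • (W : Matrix (Fin 2) (Fin 2) F) := by
    ext i j
    rfl
  have hdetW : (W : Matrix (Fin 2) (Fin 2) F).det ≠ 0 := by
    have := (Matrix.GeneralLinearGroup.det W).ne_zero
    simpa using this
  have hdet : W0.det ≠ 0 := by
    intro h0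
    have h1 : K.subtype W0.det = (c • (W : Matrix (Fin 2) (Fin 2) F)).det := by
      rw [← hmap, RingHom.map_det, RingHom.mapMatrix_apply]
    rw [h0, map_zero, Matrix.det_smul] at h1
    have : c ^ Fintype.card (Fin 2) * (W : Matrix (Fin 2) (Fin 2) F).det ≠ 0 :=
      mul_ne_zero (pow_ne_zero _ hc) hdetW
    exact this h1.symm
  refine ⟨Matrix.ProjGenLinGroup.mk (Matrix.GeneralLinearGroup.mkOfDetNeZero W0 hdet), ?_⟩
  rw [Matrix.ProjGenLinGroup.map_mk]
  symm
  rw [Matrix.ProjGenLinGroup.mk_eq_mk_iff]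
  refine ⟨Units.mk0 c hc, ?_⟩
  apply Units.ext
  ext i j
  have h1 : ((Matrix.GeneralLinearGroup.map K.subtype
      (Matrix.GeneralLinearGroup.mkOfDetNeZero W0 hdet) : GL2) : Matrix (Fin 2) (Fin 2) F) i j
      = c * (W : Matrix (Fin 2) (Fin 2) F) i j := by
    rw [Matrix.GeneralLinearGroup.map_apply]
    rfl
  rw [h1, gl_mul_scalar_apply, Units.val_mk0, mul_comm]

theorem pglSub_le_pglL (K : Subfield F) (hsq : ∀ x : K, ∃ d : F, d ^ 2 = (x : F)) :
    pglSub K ≤ pglL F := by
  rintro _ ⟨x, rfl⟩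
  induction x using Matrix.ProjGenLinGroup.induction_on with | mk W0 =>
  rw [Matrix.ProjGenLinGroup.map_mk]
  obtain ⟨d, hd⟩ := hsq (W0 : Matrix (Fin 2) (Fin 2) K).det
  have hdet0 : (W0 : Matrix (Fin 2) (Fin 2) K).det ≠ 0 := by
    have := (Matrix.GeneralLinearGroup.det W0).ne_zero
    simpa using this
  have hd0 : d ≠ 0 := by
    rintro rfl
    apply hdet0
    have : ((W0 : Matrix (Fin 2) (Fin 2) K).det : F) = 0 := by rw [← hd]; ring
    exact_mod_cast this
  set Wm : Matrix (Fin 2) (Fin 2) F := (W0 : Matrix (Fin 2) (Fin 2) K).map K.subtype with hWm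
  have hdetWm : Wm.det = d ^ 2 := by
    rw [hd, hWm]
    have := RingHom.map_det K.subtype (W0 : Matrix (Fin 2) (Fin 2) K)
    rw [RingHom.mapMatrix_apply] at this
    rw [← this]
    rfl
  have hdetX : (d⁻¹ • Wm).det = 1 := by
    rw [Matrix.det_smul, hdetWm]
    simp only [Fintype.card_fin]
    field_simp
  refine ⟨⟨d⁻¹ • Wm, hdetX⟩, ?_⟩
  show Matrix.ProjGenLinGroup.mk (Matrix.SpecialLinearGroup.toGL ⟨d⁻¹ • Wm, hdetX⟩)
    = Matrix.ProjGenLinGroup.mk (Matrix.GeneralLinearGroup.map K.subtype W0)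
  rw [Matrix.ProjGenLinGroup.mk_eq_mk_iff]
  refine ⟨Units.mk0 d hd0, ?_⟩
  apply Units.ext
  ext i j
  have h1 : ((Matrix.GeneralLinearGroup.map K.subtype W0 : GL2) : Matrix (Fin 2) (Fin 2) F) i j
      = Wm i j := by
    rw [Matrix.GeneralLinearGroup.map_apply]
    rfl
  have h2 : ((Matrix.SpecialLinearGroup.toGL (⟨d⁻¹ • Wm, hdetX⟩ : SL2) : GL2) :
      Matrix (Fin 2) (Fin 2) F) i j = d⁻¹ * Wm i j := rfl
  rw [h1, gl_mul_scalar_apply, Units.val_mk0, h2]
  field_simp

/-- **Subfield case, end game.**  If every element of the preimage of `M` in `GL₂(F)` is a scalar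
multiple of a matrix over the proper subfield `K`, then `M = PGL₂(K)` and `|F| = |K|^r` with `r` an
odd prime. -/
theorem subfield_endgame [Fintype F] {M : Subgroup PGL2} (D : MaxData F M) (K : Subfield F)
    (hK : K ≠ ⊤)
    (hMK : ∀ W : GL2, Matrix.ProjGenLinGroup.mk W ∈ M →
      ∃ c : F, c ≠ 0 ∧ ∀ i j, c * (W : Matrix (Fin 2) (Fin 2) F) i j ∈ K) :
    M = pglSub K ∧ ∃ (F₀ : Type) (_ : Field F₀) (_ : Fintype F₀) (r : ℕ), r.Prime ∧ Odd r ∧
      Fintype.card F = Fintype.card F₀ ^ r ∧ Nat.card K = Fintype.card F₀ ∧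
      Nonempty (M ≃* Matrix.ProjGenLinGroup (Fin 2) F₀) := by
  classical
  have hfin : Finite PGL2 := finite_PGL2
  have hFK : Fintype K := Fintype.ofFinite K
  have hcardG : Nat.card PGL2 = Fintype.card F * (Fintype.card F ^ 2 - 1) := card_PGL2
  have hKlt : ∀ K₁ : Subfield F, K₁ ≠ ⊤ → Nat.card K₁ < Fintype.card F := by
    intro K₁ hK₁
    rw [← Nat.card_eq_fintype_card (α := F)]
    have hne : (K₁ : Set F) ≠ Set.univ := by
      intro h
      apply hK₁
      rw [eq_top_iff]
      intro x _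
      have : x ∈ (K₁ : Set F) := by rw [h]; trivial
      exact this
    obtain ⟨x, hx⟩ := (Set.ne_univ_iff_exists_notMem _).mp hne
    have hlt : (K₁ : Set F).ncard < (Set.univ : Set F).ncard :=
      Set.ncard_lt_ncard (Set.ssubset_univ_iff.mpr hne) (Set.toFinite _)
    rw [Set.ncard_univ] at hlt
    rw [← Nat.card_coe_set_eq] at hlt
    exact hlt
  have hne_top : ∀ K₁ : Subfield F, K₁ ≠ ⊤ → pglSub K₁ ≠ ⊤ := by
    intro K₁ hK₁ htop
    have h1 := card_pglSub K₁
    rw [htop, Subgroup.card_top, hcardG] at h1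
    have hK1 : 1 ≤ Nat.card K₁ := Nat.card_pos
    have := card_fn_lt hK1 (hKlt K₁ hK₁)
    omega
  have hle : M ≤ pglSub K := by
    intro m hm
    induction m using Matrix.ProjGenLinGroup.induction_on with | mk W =>
    obtain ⟨c, hc, h⟩ := hMK W hm
    exact mk_mem_pglSub K W c hc h
  have heq : M = pglSub K := by
    rcases eq_or_lt_of_le hle with h | h
    · exact h
    · exact absurd (D.hM.2 _ h) (hne_top K hK)
  have hmax : ∀ K₁ : Subfield F, K ≤ K₁ → K₁ = K ∨ K₁ = ⊤ := by
    intro K₁ hKK₁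
    by_contra hcon
    push Not at hcon
    have h1 : M ≤ pglSub K₁ := heq ▸ pglSub_mono hKK₁
    have h2 : M = pglSub K₁ := by
      rcases eq_or_lt_of_le h1 with h | h
      · exact h
      · exact absurd (D.hM.2 _ h) (hne_top K₁ hcon.2)
    have h3 : Nat.card (pglSub K) = Nat.card (pglSub K₁) := by rw [← heq, ← h2]
    rw [card_pglSub, card_pglSub] at h3
    have h4 : Nat.card K = Nat.card K₁ := card_fn_inj Nat.card_pos Nat.card_pos h3
    apply hcon.1
    symm
    apply SetLike.coe_injective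
    apply Set.eq_of_subset_of_ncard_le hKK₁ _ (Set.toFinite _)
    rw [← Nat.card_coe_set_eq, ← Nat.card_coe_set_eq]
    exact h4.ge
  obtain ⟨r, hr, hFr⟩ := exists_prime_card_pow_of_no_intermediate K hK hmax
  obtain ⟨K', i1, i2, ⟨e⟩⟩ := exists_type_zero_ringEquiv K
  have hcardK' : Fintype.card K' = Nat.card K := by
    rw [← Nat.card_eq_fintype_card]; exact Nat.card_congr e.toEquiv
  have hr2 : r ≠ 2 := by
    rintro rfl
    have hsq : ∀ x : K, ∃ d : F, d ^ 2 = (x : F) := by
      intro x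
      have := exists_sq_of_even_degree K.subtype 2 (by decide) D.hodd
        (by rw [hFr, Nat.card_eq_fintype_card]) x
      exact this
    have hML : M ≤ pglL F := heq ▸ pglSub_le_pglL K hsq
    have hsup : M ⊔ pglL F = ⊤ := by
      by_contra hne
      have hlt : M < M ⊔ pglL F := by
        apply lt_of_le_of_ne le_sup_left
        intro heq'
        apply D.hML
        rw [heq']
        exact le_sup_right
      exact hne (D.hM.2 _ hlt)
    rw [sup_eq_right.mpr hML] at hsup
    have := index_pglL D.hodd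
    rw [hsup, Subgroup.index_top] at this
    omega
  refine ⟨heq, K', i1, i2, r, hr, hr.odd_of_ne_two hr2, by rw [hcardK', hFr], hcardK'.symm, ?_⟩
  have e1 : Matrix.ProjGenLinGroup (Fin 2) K' ≃* Matrix.ProjGenLinGroup (Fin 2) K :=
    { toFun := Matrix.ProjGenLinGroup.map e.toRingHom
      invFun := Matrix.ProjGenLinGroup.map e.symm.toRingHom
      left_inv := by
        intro x
        have : (Matrix.ProjGenLinGroup.map (n := Fin 2) e.symm.toRingHom).comp
            (Matrix.ProjGenLinGroup.map e.toRingHom) = MonoidHom.id _ := by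
          rw [← Matrix.ProjGenLinGroup.map_comp]
          have : e.symm.toRingHom.comp e.toRingHom = RingHom.id K' := by
            ext y; simp
          rw [this, Matrix.ProjGenLinGroup.map_id]
        exact DFunLike.congr_fun this x
      right_inv := by
        intro x
        have : (Matrix.ProjGenLinGroup.map (n := Fin 2) e.toRingHom).comp
            (Matrix.ProjGenLinGroup.map e.symm.toRingHom) = MonoidHom.id _ := by
          rw [← Matrix.ProjGenLinGroup.map_comp]
          have : e.toRingHom.comp e.symm.toRingHom = RingHom.id K := by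
            ext y; simp
          rw [this, Matrix.ProjGenLinGroup.map_id]
        exact DFunLike.congr_fun this x
      map_mul' := map_mul _ }
  exact ⟨((MulEquiv.subgroupCongr heq).trans (pglSubEquiv K).symm).trans e1.symm⟩

end Cfsg.Agent.Lib.Helper42
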