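import Mathlib
import Cfsg.Agent.Lib.Helper42.PGL2Recog
import Cfsg.Agent.Lib.Helper42.PGL2Subfield
import Cfsg.Agent.Lib.Helper41.DicksonSmall
import Cfsg.Agent.Lib.Helper41.DicksonGenericType
import Cfsg.Agent.Lib.Helper41.MaxCharTwo
import Cfsg.Agent.Lib.Helper41.DicksonMax3

set_option autoImplicit false

/-!
# Maximal subgroups of `PGL₂(F)`: `M ∩ L ≅ S₄, A₅` is impossible; `M ∩ L ≅ A₄` gives `S₄` (helper42)
-/

namespace Cfsg.Agent.Lib.Helper42

open Cfsg.Agent.Lib.Helper11 Cfsg.Agent.Lib.Helper41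
open scoped commutatorElement

/-! ### small permutation groups -/

def a4c1 : alternatingGroup (Fin 4) :=
  ⟨Equiv.swap 0 1 * Equiv.swap 1 2, by rw [Equiv.Perm.mem_alternatingGroup]; decide⟩

def a4c2 : alternatingGroup (Fin 4) :=
  ⟨Equiv.swap 0 1 * Equiv.swap 1 3, by rw [Equiv.Perm.mem_alternatingGroup]; decide⟩

theorem a4_noncomm : a4c1 * a4c1 ≠ 1 ∧ a4c2 * a4c2 ≠ 1 ∧ a4c1 * a4c2 ≠ a4c2 * a4c1 := by
  decide

def s4c1 : Equiv.Perm (Fin 4) := Equiv.swap 0 1 * Equiv.swap 1 2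

def s4c2 : Equiv.Perm (Fin 4) := Equiv.swap 0 1 * Equiv.swap 1 3

theorem s4_noncomm : s4c1 * s4c1 ≠ 1 ∧ s4c2 * s4c2 ≠ 1 ∧ s4c1 * s4c2 ≠ s4c2 * s4c1 := by
  decide

theorem s4_derived : ∃ a b c d : Equiv.Perm (Fin 4), ⁅⁅a, b⁆, ⁅c, d⁆⁆ ≠ 1 :=
  ⟨Equiv.swap 0 1, Equiv.swap 1 2, Equiv.swap 0 1, Equiv.swap 1 3, by decide⟩

def a5c1 : alternatingGroup (Fin 5) :=
  ⟨Equiv.swap 0 1 * Equiv.swap 1 2, by rw [Equiv.Perm.mem_alternatingGroup]; decide⟩

def a5c2 : alternatingGroup (Fin 5) :=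
  ⟨Equiv.swap 0 1 * Equiv.swap 1 3, by rw [Equiv.Perm.mem_alternatingGroup]; decide⟩

theorem a5_noncomm : a5c1 * a5c1 ≠ 1 ∧ a5c2 * a5c2 ≠ 1 ∧ a5c1 * a5c2 ≠ a5c2 * a5c1 := by
  decide

def a5d1 : alternatingGroup (Fin 5) :=
  ⟨Equiv.swap 0 1 * Equiv.swap 3 4, by rw [Equiv.Perm.mem_alternatingGroup]; decide⟩

def a5d2 : alternatingGroup (Fin 5) :=
  ⟨Equiv.swap 1 2 * Equiv.swap 3 4, by rw [Equiv.Perm.mem_alternatingGroup]; decide⟩

def a5d3 : alternatingGroup (Fin 5) :=
  ⟨Equiv.swap 0 1 * Equiv.swap 2 4, by rw [Equiv.Perm.mem_alternatingGroup]; decide⟩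

def a5d4 : alternatingGroup (Fin 5) :=
  ⟨Equiv.swap 1 3 * Equiv.swap 2 4, by rw [Equiv.Perm.mem_alternatingGroup]; decide⟩

set_option maxRecDepth 100000 in
theorem a5_derived : ∃ a b c d : alternatingGroup (Fin 5), ⁅⁅a, b⁆, ⁅c, d⁆⁆ ≠ 1 :=
  ⟨a5d1, a5d2, a5d3, a5d4, by decide⟩

/-! ### the Borel subgroup is metabelian -/

section borel

variable {F : Type*} [Field F]

local notation "SL2" => Matrix.SpecialLinearGroup (Fin 2) F

theorem borel_comm_mem_uniSub {x y : SL2} (hx : x ∈ borelSub F) (hy : y ∈ borelSub F) :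
    ⁅x, y⁆ ∈ uniSub F := by
  have hmem : ⁅x, y⁆ ∈ borelSub F := by
    rw [commutatorElement_def]
    exact (borelSub F).mul_mem ((borelSub F).mul_mem ((borelSub F).mul_mem hx hy)
      ((borelSub F).inv_mem hx)) ((borelSub F).inv_mem hy)
  refine ⟨hmem, ?_⟩
  have hx' : (x : Matrix (Fin 2) (Fin 2) F) 1 0 = 0 := hx
  have hy' : (y : Matrix (Fin 2) (Fin 2) F) 1 0 = 0 := hy
  have h1 := borel_mul_diag hx
  have h2 := borel_mul_diag hy
  rw [commutatorElement_def, mul_apply_00, mul_apply_00, mul_apply_00, mul_apply_01, mul_apply_01,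
    inv_apply_00, inv_apply_10, inv_apply_00, inv_apply_10, mul_apply_00, hx', hy']
  linear_combination (x : Matrix (Fin 2) (Fin 2) F) 0 0 * (x : Matrix (Fin 2) (Fin 2) F) 1 1 * h2
    + h1

theorem uniSub_comm {u v : SL2} (hu : u ∈ uniSub F) (hv : v ∈ uniSub F) : ⁅u, v⁆ = 1 := by
  rw [commutatorElement_eq_one_iff_mul_comm]
  have hu11 := uniSub_apply_11 hu
  have hv11 := uniSub_apply_11 hv
  obtain ⟨hu10, hu00⟩ := hu
  obtain ⟨hv10, hv00⟩ := hv
  apply sl2_ext
  · rw [mul_apply_00, mul_apply_00, hu10, hv10, hu00, hv00]; ring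
  · rw [mul_apply_01, mul_apply_01, hu00, hv00, hu11, hv11]; ring
  · rw [mul_apply_10, mul_apply_10, hu10, hv10]; ring
  · rw [mul_apply_11, mul_apply_11, hu10, hv10, hu11, hv11]; ring

theorem borel_derived {x y z w : SL2} (hx : x ∈ borelSub F) (hy : y ∈ borelSub F)
    (hz : z ∈ borelSub F) (hw : w ∈ borelSub F) : ⁅⁅x, y⁆, ⁅z, w⁆⁆ = 1 :=
  uniSub_comm (borel_comm_mem_uniSub hx hy) (borel_comm_mem_uniSub hz hw)

end borel

section main

variable {F : Type*} [Field F] [Fintype F]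

local notation "SL2" => Matrix.SpecialLinearGroup (Fin 2) F
local notation "PSL2" => Matrix.ProjectiveSpecialLinearGroup (Fin 2) F
local notation "GL2" => GL (Fin 2) F
local notation "PGL2" => Matrix.ProjGenLinGroup (Fin 2) F

/-- orders of `PSL₂(K)`, `PGL₂(K)` in characteristic `3` are not `48` or `120` -/
theorem card_ne_of_char_three {K : Type} [Field K] [Fintype K] (N : ℕ)
    (hK : Fintype.card K ∣ 3 ^ N) {X : Type*} [Group X]
    (h : Nonempty (X ≃* Matrix.ProjectiveSpecialLinearGroup (Fin 2) K) ∨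
      Nonempty (X ≃* Matrix.ProjGenLinGroup (Fin 2) K))
    (hX : Nat.card X = 48 ∨ Nat.card X = 120) : False := by
  obtain ⟨j, -, hj⟩ := (Nat.dvd_prime_pow Nat.prime_three).mp hK
  have hk2 : 2 ≤ Fintype.card K := Fintype.one_lt_card
  have hj1 : 1 ≤ j := by
    rcases Nat.eq_zero_or_pos j with h0 | h0
    · rw [h0, pow_zero] at hj; omega
    · exact h0
  have hodd : Odd (Fintype.card K) := by rw [hj]; exact (by decide : Odd 3).pow
  have hcases : Fintype.card K = 3 ∨ 504 < Fintype.card K * (Fintype.card K ^ 2 - 1) := by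
    rcases Nat.eq_or_lt_of_le hj1 with h1 | h1
    · left; rw [hj, ← h1, pow_one]
    · right
      have h9 : 9 ≤ Fintype.card K := by
        rw [hj]
        calc 9 = 3 ^ 2 := by norm_num
          _ ≤ 3 ^ j := Nat.pow_le_pow_right (by norm_num) h1
      have := card_fn_lt (a := 8) (b := Fintype.card K) (by norm_num) (by omega)
      norm_num at this
      exact this
  rcases h with ⟨⟨f⟩⟩ | ⟨⟨f⟩⟩
  · have h1 := card_PSL2_mul_gcd (K := K)
    rw [gcd_two_pred_of_odd hodd, ← Nat.card_congr f.toEquiv] at h1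
    rcases hcases with h3 | h3
    · rw [h3] at h1; norm_num at h1; omega
    · omega
  · have h1 := card_PGL2 (K := K)
    rw [← Nat.card_congr f.toEquiv] at h1
    rcases hcases with h3 | h3
    · rw [h3] at h1; norm_num at h1; omega
    · omega

/-- **`M ∩ L ≅ S₄` or `A₅` is impossible.** -/
theorem not_exceptional (p : ℕ) [Fact p.Prime] [CharP F p]
    {M : Subgroup (Matrix.ProjGenLinGroup (Fin 2) F)} (D : MaxData F M)
    {Y : Type*} [Group Y] (e : barH M ≃* Y) (hcard : Nat.card Y = 24 ∨ Nat.card Y = 60)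
    (c1 c2 : Y) (hc : c1 * c1 ≠ 1 ∧ c2 * c2 ≠ 1 ∧ c1 * c2 ≠ c2 * c1)
    (hder : ∃ a b c d : Y, ⁅⁅a, b⁆, ⁅c, d⁆⁆ ≠ 1)
    (hp3 : p ∣ Nat.card M → p = 3) : False := by
  classical
  have hp2 := char_odd (F := F) p D.hodd
  have hcardM : Nat.card M = 48 ∨ Nat.card M = 120 := by
    rw [D.card_eq, Nat.card_congr e.toEquiv]
    omega
  have hnc : (toM M) (e.symm c1) * (toM M) (e.symm c2)
      ≠ (toM M) (e.symm c2) * (toM M) (e.symm c1) := by
    intro h
    apply hc.2.2
    have h' : toM M (e.symm (c1 * c2)) = toM M (e.symm (c2 * c1)) := by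
      rw [map_mul, map_mul, map_mul, map_mul]; exact h
    exact e.symm.injective (toM_injective M h')
  have hsq1 : (toM M) (e.symm c1) * (toM M) (e.symm c1) ≠ 1 := by
    intro h
    apply hc.1
    have h' : toM M (e.symm (c1 * c1)) = toM M (e.symm 1) := by
      rw [map_mul, map_mul, map_one, map_one]; exact h
    exact e.symm.injective (toM_injective M h')
  have hsq2 : (toM M) (e.symm c2) * (toM M) (e.symm c2) ≠ 1 := by
    intro h
    apply hc.2.1
    have h' : toM M (e.symm (c2 * c2)) = toM M (e.symm 1) := by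
      rw [map_mul, map_mul, map_one, map_one]; exact h
    exact e.symm.injective (toM_injective M h')
  by_cases hpM : p ∣ Nat.card M
  · have hp3' := hp3 hpM
    subst hp3'
    obtain ⟨F', i1, i2, i3, ι, hι, hcardF'⟩ := exists_pgl_embedding (F := F) 3 D.hodd
    set M' := M.map ι with hM'
    have e' : M ≃* M' := M.equivMapOfInjective ι hι
    have hpM' : 3 ∣ Nat.card M' := by rw [← Nat.card_congr e'.toEquiv]; exact hpM
    obtain ⟨g, t, ht0, ht⟩ := exists_conj_upperU_mem 3 M' hpM'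
    set M'' := M'.map (MulAut.conj g).toMonoidHom with hM''
    have e'' : M' ≃* M'' := M'.equivMapOfInjective _ (MulAut.conj g).injective
    have hcardM'' : Nat.card M'' = 48 ∨ Nat.card M'' = 120 := by
      rw [← Nat.card_congr e''.toEquiv, ← Nat.card_congr e'.toEquiv]; exact hcardM
    have hpM'' : 3 ∣ Nat.card M'' := by
      rw [← Nat.card_congr e''.toEquiv]; exact hpM'
    set Ht := M''.comap prj with hHt
    have hmap : Ht.map prj = M'' := Subgroup.map_comap_eq_self_of_surjective prj_surjective M''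
    by_cases hB : Ht ≤ borelSub F'
    · obtain ⟨a, b, c, d, hne⟩ := hder
      apply hne
      set Φ : Y →* Matrix.ProjectiveSpecialLinearGroup (Fin 2) F' :=
        (MulAut.conj g).toMonoidHom.comp (ι.comp (M.subtype.comp ((toM M).comp
          e.symm.toMonoidHom))) with hΦ
      have hΦinj : Function.Injective Φ := by
        intro y1 y2 h12
        have h1 : ι ((toM M (e.symm y1) : M) : PGL2) = ι ((toM M (e.symm y2) : M) : PGL2) :=
          (MulAut.conj g).injective h12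
        have h2 := Subtype.ext (hι h1)
        exact e.symm.injective (toM_injective M h2)
      have hΦmem : ∀ y : Y, ∃ A : Matrix.SpecialLinearGroup (Fin 2) F',
          A ∈ borelSub F' ∧ Φ y = prj A := by
        intro y
        have hy : Φ y ∈ M'' := ⟨ι ((toM M (e.symm y) : M) : PGL2),
          ⟨_, (toM M (e.symm y)).2, rfl⟩, rfl⟩
        obtain ⟨A, hA⟩ := prj_surjective (Φ y)
        refine ⟨A, hB ?_, hA.symm⟩
        show prj A ∈ M''
        rw [hA]; exact hy
      obtain ⟨A, hA, hΦa⟩ := hΦmem a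
      obtain ⟨B, hB', hΦb⟩ := hΦmem b
      obtain ⟨C, hC, hΦc⟩ := hΦmem c
      obtain ⟨E, hE, hΦd⟩ := hΦmem d
      apply hΦinj
      rw [map_one, map_commutatorElement, map_commutatorElement, map_commutatorElement, hΦa, hΦb,
        hΦc, hΦd, ← map_commutatorElement, ← map_commutatorElement, ← map_commutatorElement,
        borel_derived hA hB' hC hE, map_one]
    · have hZ : Subgroup.center (Matrix.SpecialLinearGroup (Fin 2) F') ≤ Ht := by
        intro z hz
        show prj z ∈ M''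
        rw [prj_eq_one_iff.mpr hz]; exact M''.one_mem
      by_cases hq : 4 ≤ Nat.card (uSet Ht)
      · obtain ⟨K, j1, j2, m, hm, h⟩ := psl_or_pgl_of_not_le_borel_type 3 Ht hZ hq hB
        obtain ⟨n, -, hn⟩ := FiniteField.card F 3
        have hm0 : m ≠ 0 := by
          rintro rfl
          rw [pow_zero] at hm
          have : 2 ≤ Fintype.card F' := Fintype.one_lt_card
          omega
        have hKdvd : Fintype.card K ∣ 3 ^ (2 * (n : ℕ)) := by
          have h1 : Fintype.card K ∣ Fintype.card K ^ m := dvd_pow_self _ hm0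
          rw [hm, hcardF', hn, ← pow_mul, mul_comm] at h1
          exact h1
        apply card_ne_of_char_three (X := M'') _ hKdvd _ hcardM''
        rcases h with ⟨⟨f⟩⟩ | ⟨⟨f⟩⟩
        · exact Or.inl ⟨(MulEquiv.subgroupCongr hmap.symm).trans f⟩
        · exact Or.inr ⟨(MulEquiv.subgroupCongr hmap.symm).trans f⟩
      · rcases clause_ac_of_small 3 M'' ht0 ht (not_le.mp hq) hB with
          ⟨k, hk, h⟩ | ⟨⟨f⟩⟩ | ⟨⟨f⟩⟩ | ⟨⟨f⟩⟩
        · exact not_clause_a_of_dvd 3 (by norm_num) hpM'' k hk h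
        · have := card_of_equiv_A4 f; omega
        · have := card_of_equiv_S4 f; omega
        · have := card_of_equiv_A5 f; omega
  · obtain ⟨F', _, _, _, -, -, hpp⟩ := pgl_dlist p D.hodd M
    rcases hpp hpM with ⟨j, ⟨hcyc, -⟩ | ⟨⟨f⟩⟩⟩ | ⟨⟨f⟩⟩ | ⟨⟨f⟩⟩ | ⟨⟨f⟩⟩
    · exact not_cyclic_of_noncomm _ _ hnc hcyc
    · exact not_dihedral_of_noncomm _ _ hsq1 hsq2 hnc j f
    · have := card_of_equiv_A4 f; omega
    · have := card_of_equiv_S4 f; omega
    · have := card_of_equiv_A5 f; omega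

/-- **`M ∩ L ≅ A₄` and `p ≥ 5` give `M ≅ S₄`.** -/
theorem recog_S4 (p : ℕ) [Fact p.Prime] [CharP F p]
    {M : Subgroup (Matrix.ProjGenLinGroup (Fin 2) F)} (D : MaxData F M)
    (e : barH M ≃* alternatingGroup (Fin 4)) (hp : ¬ p ∣ 24) :
    Nonempty (M ≃* Equiv.Perm (Fin 4)) := by
  have hcardM : Nat.card M = 24 := by
    rw [D.card_eq, card_of_equiv_A4 e]
  have hpM : ¬ p ∣ Nat.card M := by rw [hcardM]; exact hp
  have hc := a4_noncomm
  have hnc : (toM M) (e.symm a4c1) * (toM M) (e.symm a4c2)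
      ≠ (toM M) (e.symm a4c2) * (toM M) (e.symm a4c1) := by
    intro h
    apply hc.2.2
    have h' : toM M (e.symm (a4c1 * a4c2)) = toM M (e.symm (a4c2 * a4c1)) := by
      rw [map_mul, map_mul, map_mul, map_mul]; exact h
    exact e.symm.injective (toM_injective M h')
  have hsq1 : (toM M) (e.symm a4c1) * (toM M) (e.symm a4c1) ≠ 1 := by
    intro h
    apply hc.1
    have h' : toM M (e.symm (a4c1 * a4c1)) = toM M (e.symm 1) := by
      rw [map_mul, map_mul, map_one, map_one]; exact h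
    exact e.symm.injective (toM_injective M h')
  have hsq2 : (toM M) (e.symm a4c2) * (toM M) (e.symm a4c2) ≠ 1 := by
    intro h
    apply hc.2.1
    have h' : toM M (e.symm (a4c2 * a4c2)) = toM M (e.symm 1) := by
      rw [map_mul, map_mul, map_one, map_one]; exact h
    exact e.symm.injective (toM_injective M h')
  obtain ⟨F', _, _, _, -, -, hpp⟩ := pgl_dlist p D.hodd M
  rcases hpp hpM with ⟨j, ⟨hcyc, -⟩ | ⟨⟨f⟩⟩⟩ | ⟨⟨f⟩⟩ | ⟨⟨f⟩⟩ | ⟨⟨f⟩⟩
  · exact absurd hcyc (fun h => not_cyclic_of_noncomm _ _ hnc h)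
  · exact absurd (not_dihedral_of_noncomm _ _ hsq1 hsq2 hnc j f) id
  · have := card_of_equiv_A4 f; omega
  · exact ⟨f⟩
  · have := card_of_equiv_A5 f; omega

end main

end Cfsg.Agent.Lib.Helper42
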