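import Mathlib
import Cfsg.Agent.Lib.Helper42.PGL2Subfield
import Cfsg.Agent.Lib.Helper41.DicksonNormalForm
import Cfsg.Agent.Lib.Helper41.MaxInM
import Cfsg.Agent.Lib.Helper41.MaxExcMain

set_option autoImplicit false

/-!
# Maximal subgroups of `PGL₂(F)`: the generic (subfield) case (helper42)

`normal_form_explicit` is helper41's `normal_form_of_not_le_borel` with the automorphism made
explicit (same proof).
-/

namespace Cfsg.Agent.Lib.Helper42

open Cfsg.Agent.Lib.Helper11 Cfsg.Agent.Lib.Helper41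

variable {F : Type*} [Field F]

local notation "SL2" => Matrix.SpecialLinearGroup (Fin 2) F
local notation "PSL2" => Matrix.ProjectiveSpecialLinearGroup (Fin 2) F
local notation "GL2" => GL (Fin 2) F
local notation "PGL2" => Matrix.ProjGenLinGroup (Fin 2) F

/-- **Normal form, generic case**, with explicit automorphism. -/
theorem normal_form_explicit [Finite F] (p : ℕ) [Fact p.Prime] [CharP F p]
    (H : Subgroup SL2) (hZH : Subgroup.center SL2 ≤ H)
    (hq : 4 ≤ Nat.card (uSet H)) (hnB : ¬ H ≤ borelSub F) :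
    ∃ (c : Fˣ) (g : SL2) (K : Subfield F),
      (∀ s : Matrix.SpecialLinearGroup (Fin 2) K,
        Matrix.SpecialLinearGroup.map K.subtype s
          ∈ H.map ((diagAut c) * (MulAut.conj g) : MulAut SL2).toMonoidHom) ∧
      (∀ l ∈ H.map ((diagAut c) * (MulAut.conj g) : MulAut SL2).toMonoidHom, InM K.subtype l) ∧
      (∀ t : F, upperU t ∈ H.map ((diagAut c) * (MulAut.conj g) : MulAut SL2).toMonoidHom ↔ t ∈ K) ∧
      Nat.card K = Nat.card (uSet H) := by
  classical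
  have hfinSL : Finite SL2 := by
    have : Finite (Matrix (Fin 2) (Fin 2) F) := inferInstance
    exact Finite.of_injective (fun g : SL2 => (g : Matrix (Fin 2) (Fin 2) F)) Subtype.val_injective
  -- a nontrivial element of `H ∩ U`
  obtain ⟨t₀, ht₀0, ht₀⟩ : ∃ t : F, t ≠ 0 ∧ upperU t ∈ H := by
    by_contra hno
    push Not at hno
    have : ∀ t : uSet H, t = 0 := by
      intro t
      by_contra ht
      exact hno t (fun h => ht (Subtype.ext h)) t.2
    have hsub : Subsingleton (uSet H) := ⟨fun a b => by rw [this a, this b]⟩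
    have : Nat.card (uSet H) ≤ 1 := Finite.card_le_one_iff_subsingleton.mpr hsub
    omega
  -- an element outside `B`
  obtain ⟨h, hhH, hhB⟩ := SetLike.not_le_iff_exists.mp hnB
  have hc : (h : Matrix (Fin 2) (Fin 2) F) 1 0 ≠ 0 := hhB
  -- conjugate by `g = u(-h₀₀ / h₁₀)`
  set g : SL2 := upperU (-((h : Matrix (Fin 2) (Fin 2) F) 0 0 / (h : Matrix (Fin 2) (Fin 2) F) 1 0))
    with hg
  set H₁ : Subgroup SL2 := H.map (MulAut.conj g).toMonoidHom with hH₁
  have hmem₁ : ∀ x : SL2, x ∈ H₁ ↔ g⁻¹ * x * g ∈ H := by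
    intro x
    constructor
    · rintro ⟨y, hy, rfl⟩
      have : g⁻¹ * ((MulAut.conj g).toMonoidHom y) * g = y := by
        show g⁻¹ * (g * y * g⁻¹) * g = y
        group
      rw [this]; exact hy
    · intro hx
      refine ⟨g⁻¹ * x * g, hx, ?_⟩
      show g * (g⁻¹ * x * g) * g⁻¹ = x
      group
  have hZH₁ : Subgroup.center SL2 ≤ H₁ := by
    intro z hz
    rw [hmem₁]
    have hzc := Subgroup.mem_center_iff.mp hz g
    have : g⁻¹ * z * g = z := by
      rw [mul_assoc, ← hzc, ← mul_assoc, inv_mul_cancel, one_mul]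
    rw [this]; exact hZH hz
  -- `uSet` is unchanged
  have hU₁ : ∀ t : F, upperU t ∈ H₁ ↔ upperU t ∈ H := by
    intro t
    rw [hmem₁]
    have : g⁻¹ * upperU t * g = upperU t := by
      rw [hg, ← upperU_neg, ← upperU_add, ← upperU_add]
      congr 1
      ring
    rw [this]
  have huSet : uSet H₁ = uSet H := by
    ext t
    exact hU₁ t
  have hfin₁ : Finite H₁ := Subtype.finite
  -- the element `h₁ = g h g⁻¹`
  set h₁ : SL2 := g * h * g⁻¹ with hh₁
  have hh₁H : h₁ ∈ H₁ := by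
    rw [hmem₁, hh₁]
    have : g⁻¹ * (g * h * g⁻¹) * g = h := by group
    rw [this]; exact hhH
  have hh₁00 : (h₁ : Matrix (Fin 2) (Fin 2) F) 0 0 = 0 := by
    rw [hh₁, mul_apply_00, mul_apply_00, mul_apply_01, inv_apply_00, inv_apply_10, hg, coe_upperU]
    simp only [Matrix.of_apply, Matrix.cons_val', Matrix.cons_val_zero, Matrix.cons_val_one,
      Matrix.cons_val_fin_one]
    field_simp
    ring
  have hh₁10 : (h₁ : Matrix (Fin 2) (Fin 2) F) 1 0 ≠ 0 := apply_10_ne_zero_of_apply_00 hh₁00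
  have hx₀1 : upperU t₀ ≠ 1 := by
    intro h1
    rw [← upperU_zero] at h1
    exact ht₀0 (upperU_injective h1)
  have hx₀U : upperU t₀ ∈ uniSub F := by
    refine ⟨?_, ?_⟩ <;> simp [coe_upperU]
  have hB : BruhatProp H₁ h₁ :=
    bruhatProp_of_card p H₁ hZH₁ (upperU t₀) ((hU₁ t₀).mpr ht₀) hx₀U hx₀1
      (by rw [huSet]; exact hq) hh₁H hh₁10
  obtain ⟨K, c, a, hw, haK, hUK, hlK⟩ :=
    exists_subfield_of_bruhat' H₁ hh₁H hh₁00 hB ⟨t₀, ht₀0, (hU₁ t₀).mpr ht₀⟩
  set H₂ : Subgroup SL2 := H₁.map (diagAut c).toMonoidHom with hH₂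
  have hH₂ : H.map ((diagAut c) * (MulAut.conj g) : MulAut SL2).toMonoidHom = H₂ := by
    rw [hH₂, hH₁, Subgroup.map_map]
    rfl
  refine ⟨c, g, K, ?_⟩
  rw [hH₂]
  have hu : ∀ k : K, upperU (K.subtype k) ∈ H₂ := fun k => (hUK _).mpr k.2
  have hl : ∀ l ∈ H₂, (l : Matrix (Fin 2) (Fin 2) F) 1 0 ≠ 0 →
      ∃ k : K, (l : Matrix (Fin 2) (Fin 2) F) 0 0
        = K.subtype k * (l : Matrix (Fin 2) (Fin 2) F) 1 0 := by
    intro l hl hl10
    obtain ⟨k, hk, hk'⟩ := hlK l hl hl10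
    exact ⟨⟨k, hk⟩, hk'⟩
  have h1 : upperU (1 : F) ∈ H₂ := by
    have := hu 1
    rwa [map_one] at this
  refine ⟨?_, ?_, hUK, ?_⟩
  · exact map_mem_of_antiD K.subtype H₂ a hw ⟨(a : F) ^ 2, haK⟩ rfl hu
  · intro l hlH
    exact inM_of_mem K.subtype H₂ h1 a hw ⟨(a : F) ^ 2, haK⟩ rfl hl hlH
  · rw [← huSet]
    have hmem₂ : ∀ t : F, t ∈ uSet H₁ ↔ (c : F) * t ∈ K := by
      intro t
      rw [← hUK, ← diagAut_upperU]
      constructor
      · intro ht
        exact ⟨upperU t, ht, rfl⟩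
      · rintro ⟨y, hy, hyt⟩
        have : y = upperU t := (diagAut c).injective hyt
        show upperU t ∈ H₁
        rw [← this]; exact hy
    symm
    apply Nat.card_congr
    refine ⟨fun t => ⟨(c : F) * t, (hmem₂ t).mp t.2⟩,
      fun k => ⟨((c⁻¹ : Fˣ) : F) * k, (hmem₂ _).mpr ?_⟩, ?_, ?_⟩
    · rw [← mul_assoc, ← Units.val_mul, mul_inv_cancel, Units.val_one, one_mul]
      exact k.2
    · intro t
      apply Subtype.ext
      show ((c⁻¹ : Fˣ) : F) * ((c : F) * t) = t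
      rw [← mul_assoc, ← Units.val_mul, inv_mul_cancel, Units.val_one, one_mul]
    · intro k
      apply Subtype.ext
      show (c : F) * (((c⁻¹ : Fˣ) : F) * k) = k
      rw [← mul_assoc, ← Units.val_mul, mul_inv_cancel, Units.val_one, one_mul]


/-- `diag(c, 1)` -/
noncomputable def diagGL (c : Fˣ) : GL2 :=
  Matrix.GeneralLinearGroup.mkOfDetNeZero !![(c : F), 0; 0, 1]
    (by rw [Matrix.det_fin_two_of]; simp)

theorem coe_diagGL (c : Fˣ) : ((diagGL c : GL2) : Matrix (Fin 2) (Fin 2) F) = !![(c : F), 0; 0, 1] :=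
  rfl

theorem diagAut_eq_glConj (c : Fˣ) : diagAut c = glConj (diagGL c) := by
  ext x : 1
  symm
  apply glConj_eq_of_mul_eq
  rw [diagAut_apply, coe_diagAutFun, coe_diagGL]
  have hc : ((c⁻¹ : Fˣ) : F) * (c : F) = 1 := by rw [← Units.val_mul, inv_mul_cancel, Units.val_one]
  ext i j
  fin_cases i <;> fin_cases j <;> simp [Matrix.mul_apply, Fin.sum_univ_two]
  · ring
  · have hc0 : (c : F) ≠ 0 := c.ne_zero
    field_simp

theorem conj_eq_glConj (g : SL2) : MulAut.conj g = glConj (Matrix.SpecialLinearGroup.toGL g) := by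
  ext x : 1
  rw [glConj_toGL]
  rfl

theorem comap_prj_barH_map_conj (M : Subgroup PGL2) (W : GL2) :
    (barH (M.map (MulAut.conj (Matrix.ProjGenLinGroup.mk W)).toMonoidHom)).comap prj
      = ((barH M).comap prj).map (glConj W).toMonoidHom := by
  rw [barH_map_conj]
  ext X
  constructor
  · rintro ⟨y, hy, hyX⟩
    refine ⟨(glConj W).symm X, ?_, MulEquiv.apply_symm_apply _ _⟩
    have h1 : glConjBar W (prj ((glConj W).symm X)) = glConjBar W y := by
      rw [glConjBar_prj, MulEquiv.apply_symm_apply]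
      exact hyX.symm
    have h2 := (glConjBar W).injective h1
    show prj ((glConj W).symm X) ∈ barH M
    rw [h2]; exact hy
  · rintro ⟨X0, hX0, rfl⟩
    exact ⟨prj X0, hX0, glConjBar_prj W X0⟩

/-- **Lemma R.** -/
theorem exists_scalar_of_conj (K : Subfield F) (W : GL2)
    (hP : ∀ a i j b : Fin 2, (W : Matrix (Fin 2) (Fin 2) F) a i
      * ((W⁻¹ : GL2) : Matrix (Fin 2) (Fin 2) F) j b ∈ K) :
    ∃ c : F, c ≠ 0 ∧ ∀ i j, c * (W : Matrix (Fin 2) (Fin 2) F) i j ∈ K := by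
  have hex : ∃ j b : Fin 2, ((W⁻¹ : GL2) : Matrix (Fin 2) (Fin 2) F) j b ≠ 0 := by
    by_contra hno
    push Not at hno
    have h1 := congrFun (congrFun (gl_mul_inv W) 0) 0
    rw [Matrix.mul_apply, Fin.sum_univ_two, hno, hno] at h1
    simp at h1
  obtain ⟨j, b, hjb⟩ := hex
  refine ⟨_, hjb, fun a i => ?_⟩
  rw [mul_comm]
  exact hP a i j b

theorem glConj_upperU_apply (W : GL2) (t : F) (a b : Fin 2) :
    ((glConj W (upperU t) : SL2) : Matrix (Fin 2) (Fin 2) F) a b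
      = (1 : Matrix (Fin 2) (Fin 2) F) a b + t * ((W : Matrix (Fin 2) (Fin 2) F) a 0
        * ((W⁻¹ : GL2) : Matrix (Fin 2) (Fin 2) F) 1 b) := by
  have h1 := congrFun (congrFun (gl_mul_inv W) a) b
  rw [Matrix.mul_apply, Fin.sum_univ_two] at h1
  rw [glConj_apply, coe_glConjFun, coe_upperU, ← h1]
  simp only [Matrix.mul_apply, Fin.sum_univ_two, Matrix.of_apply, Matrix.cons_val', Matrix.cons_val_zero,
    Matrix.cons_val_one, Matrix.cons_val_fin_one]
  ring

theorem glConj_lowerU_apply (W : GL2) (t : F) (a b : Fin 2) :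
    ((glConj W (lowerU t) : SL2) : Matrix (Fin 2) (Fin 2) F) a b
      = (1 : Matrix (Fin 2) (Fin 2) F) a b + t * ((W : Matrix (Fin 2) (Fin 2) F) a 1
        * ((W⁻¹ : GL2) : Matrix (Fin 2) (Fin 2) F) 0 b) := by
  have h1 := congrFun (congrFun (gl_mul_inv W) a) b
  rw [Matrix.mul_apply, Fin.sum_univ_two] at h1
  rw [glConj_apply, coe_glConjFun, coe_lowerU, ← h1]
  simp only [Matrix.mul_apply, Fin.sum_univ_two, Matrix.of_apply, Matrix.cons_val', Matrix.cons_val_zero,
    Matrix.cons_val_one, Matrix.cons_val_fin_one]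
  ring

/-- an element of `inMSub K` of trace in `K \ {0}` has entries in `K` -/
theorem entries_mem_of_inM (K : Subfield F) {X : SL2} (hX : InM K.subtype X) (ht : tr2 X ∈ K)
    (ht0 : tr2 X ≠ 0) (a b : Fin 2) : (X : Matrix (Fin 2) (Fin 2) F) a b ∈ K := by
  obtain ⟨c, g', hc, hg'⟩ := hX
  have hent : ∀ i j : Fin 2, ((g' i j : K) : F) = c * (X : Matrix (Fin 2) (Fin 2) F) i j := by
    intro i j
    have := congrFun (congrFun hg' i) j
    simpa [Matrix.map_apply, Matrix.smul_apply] using this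
  have hct : c * tr2 X ∈ K := by
    have : c * tr2 X = ((g' 0 0 : K) : F) + ((g' 1 1 : K) : F) := by
      rw [hent, hent, tr2]; ring
    rw [this]
    exact K.add_mem (g' 0 0).2 (g' 1 1).2
  have hcK : c ∈ K := by
    have : c = (c * tr2 X) * (tr2 X)⁻¹ := by field_simp
    rw [this]
    exact K.mul_mem hct (K.inv_mem ht)
  have : (X : Matrix (Fin 2) (Fin 2) F) a b = c⁻¹ * ((g' a b : K) : F) := by
    rw [hent]; field_simp
  rw [this]
  exact K.mul_mem (K.inv_mem hcK) (g' a b).2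

theorem tr2_upperU (t : F) : tr2 (upperU t) = 2 := by
  rw [tr2, coe_upperU]
  simp
  norm_num

theorem tr2_lowerU (t : F) : tr2 (lowerU t) = 2 := by
  rw [tr2, coe_lowerU]
  simp
  norm_num

/-- if `u(1), l(1) ∈ Ĥ ≤ inMSub K` and `W` normalises `Ĥ` then `W ∈ F^× GL₂(K)` -/
theorem exists_scalar_of_normalizes (K : Subfield F) (h2 : (2 : F) ≠ 0) (Ht : Subgroup SL2)
    (hu : upperU 1 ∈ Ht) (hl : lowerU 1 ∈ Ht) (hInM : ∀ X ∈ Ht, InM K.subtype X)
    (W : GL2) (hW : ∀ X ∈ Ht, glConj W X ∈ Ht) :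
    ∃ c : F, c ≠ 0 ∧ ∀ i j, c * (W : Matrix (Fin 2) (Fin 2) F) i j ∈ K := by
  have h2K : (2 : F) ∈ K := by
    have : (2 : F) = 1 + 1 := by norm_num
    rw [this]; exact K.add_mem K.one_mem K.one_mem
  have h1K : ∀ a b : Fin 2, (1 : Matrix (Fin 2) (Fin 2) F) a b ∈ K := by
    intro a b
    by_cases hab : a = b
    · rw [hab, Matrix.one_apply_eq]; exact K.one_mem
    · rw [Matrix.one_apply_ne hab]; exact K.zero_mem
  have hA : ∀ a b : Fin 2, (W : Matrix (Fin 2) (Fin 2) F) a 0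
      * ((W⁻¹ : GL2) : Matrix (Fin 2) (Fin 2) F) 1 b ∈ K := by
    intro a b
    have h1 := entries_mem_of_inM K (hInM _ (hW _ hu))
      (by rw [tr2_glConj, tr2_upperU]; exact h2K) (by rw [tr2_glConj, tr2_upperU]; exact h2) a b
    rw [glConj_upperU_apply, one_mul] at h1
    have := K.sub_mem h1 (h1K a b)
    rwa [add_sub_cancel_left] at this
  have hB : ∀ a b : Fin 2, (W : Matrix (Fin 2) (Fin 2) F) a 1
      * ((W⁻¹ : GL2) : Matrix (Fin 2) (Fin 2) F) 0 b ∈ K := by
    intro a b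
    have h1 := entries_mem_of_inM K (hInM _ (hW _ hl))
      (by rw [tr2_glConj, tr2_lowerU]; exact h2K) (by rw [tr2_glConj, tr2_lowerU]; exact h2) a b
    rw [glConj_lowerU_apply, one_mul] at h1
    have := K.sub_mem h1 (h1K a b)
    rwa [add_sub_cancel_left] at this
  have hVW := gl_inv_mul W
  have h00 := congrFun (congrFun hVW 0) 0
  have h11 := congrFun (congrFun hVW 1) 1
  rw [Matrix.mul_apply, Fin.sum_univ_two] at h00 h11
  simp only [Matrix.one_apply_eq] at h00 h11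
  apply exists_scalar_of_conj K W
  intro a i j b
  fin_cases i <;> fin_cases j
  · -- (0,0)
    show (W : Matrix (Fin 2) (Fin 2) F) a 0 * ((W⁻¹ : GL2) : Matrix (Fin 2) (Fin 2) F) 0 b ∈ K
    have h := K.add_mem (K.mul_mem (hA a 0) (hB 0 b)) (K.mul_mem (hA a 1) (hB 1 b))
    have e : (W : Matrix (Fin 2) (Fin 2) F) a 0 * ((W⁻¹ : GL2) : Matrix (Fin 2) (Fin 2) F) 0 b
        = (W : Matrix (Fin 2) (Fin 2) F) a 0 * ((W⁻¹ : GL2) : Matrix (Fin 2) (Fin 2) F) 1 0
            * ((W : Matrix (Fin 2) (Fin 2) F) 0 1 * ((W⁻¹ : GL2) : Matrix (Fin 2) (Fin 2) F) 0 b)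
          + (W : Matrix (Fin 2) (Fin 2) F) a 0 * ((W⁻¹ : GL2) : Matrix (Fin 2) (Fin 2) F) 1 1
            * ((W : Matrix (Fin 2) (Fin 2) F) 1 1 * ((W⁻¹ : GL2) : Matrix (Fin 2) (Fin 2) F) 0 b) := by
      linear_combination (-(W : Matrix (Fin 2) (Fin 2) F) a 0
        * ((W⁻¹ : GL2) : Matrix (Fin 2) (Fin 2) F) 0 b) * h11
    rw [e]; exact h
  · exact hA a b
  · exact hB a b
  · show (W : Matrix (Fin 2) (Fin 2) F) a 1 * ((W⁻¹ : GL2) : Matrix (Fin 2) (Fin 2) F) 1 b ∈ K
    have h := K.add_mem (K.mul_mem (hB a 0) (hA 0 b)) (K.mul_mem (hB a 1) (hA 1 b))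
    have e : (W : Matrix (Fin 2) (Fin 2) F) a 1 * ((W⁻¹ : GL2) : Matrix (Fin 2) (Fin 2) F) 1 b
        = (W : Matrix (Fin 2) (Fin 2) F) a 1 * ((W⁻¹ : GL2) : Matrix (Fin 2) (Fin 2) F) 0 0
            * ((W : Matrix (Fin 2) (Fin 2) F) 0 0 * ((W⁻¹ : GL2) : Matrix (Fin 2) (Fin 2) F) 1 b)
          + (W : Matrix (Fin 2) (Fin 2) F) a 1 * ((W⁻¹ : GL2) : Matrix (Fin 2) (Fin 2) F) 0 1
            * ((W : Matrix (Fin 2) (Fin 2) F) 1 0 * ((W⁻¹ : GL2) : Matrix (Fin 2) (Fin 2) F) 1 b) := by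
      linear_combination (-(W : Matrix (Fin 2) (Fin 2) F) a 1
        * ((W⁻¹ : GL2) : Matrix (Fin 2) (Fin 2) F) 1 b) * h00
    rw [e]; exact h

theorem center_le_comap_prj (H : Subgroup PSL2) : Subgroup.center SL2 ≤ H.comap prj := by
  intro z hz
  show prj z ∈ H
  rw [prj_eq_one_iff.mpr hz]; exact H.one_mem

/-- **Generic case**: `M` is conjugate to a subfield subgroup `PGL₂(K)`. -/
theorem generic_case [Fintype F] (p : ℕ) [Fact p.Prime] [CharP F p] {M : Subgroup PGL2}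
    (D : MaxData F M) (hq : 4 ≤ Nat.card (uSet ((barH M).comap prj)))
    (hnB : ¬ (barH M).comap prj ≤ borelSub F) :
    ∃ (W0 : GL2) (K : Subfield F), K ≠ ⊤ ∧
      M.map (MulAut.conj (Matrix.ProjGenLinGroup.mk W0)).toMonoidHom = pglSub K ∧
      ∃ (F₀ : Type) (_ : Field F₀) (_ : Fintype F₀) (r : ℕ), r.Prime ∧ Odd r ∧
        Fintype.card F = Fintype.card F₀ ^ r ∧ Nat.card K = Fintype.card F₀ ∧
        Nonempty (M ≃* Matrix.ProjGenLinGroup (Fin 2) F₀) := by
  classical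
  set Ht : Subgroup SL2 := (barH M).comap prj with hHt
  obtain ⟨c, g, K, hSL, hInM, hU, -⟩ :=
    normal_form_explicit p Ht (center_le_comap_prj _) hq hnB
  set W0 : GL2 := diagGL c * Matrix.SpecialLinearGroup.toGL g with hW0
  have hα : ((diagAut c) * (MulAut.conj g) : MulAut SL2) = glConj W0 := by
    rw [diagAut_eq_glConj, conj_eq_glConj, hW0, glConj_mul]
  rw [hα] at hSL hInM hU
  set M' : Subgroup PGL2 := M.map (MulAut.conj (Matrix.ProjGenLinGroup.mk W0)).toMonoidHom with hM'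
  have D' : MaxData F M' := D.conj _
  have hHt' : (barH M').comap prj = Ht.map (glConj W0).toMonoidHom :=
    comap_prj_barH_map_conj M W0
  rw [← hHt'] at hSL hInM hU
  have hu1 : upperU 1 ∈ (barH M').comap prj := (hU 1).mpr K.one_mem
  have hl1 : lowerU 1 ∈ (barH M').comap prj := by
    have := hSL (lowerU 1)
    rwa [map_lowerU, map_one] at this
  have hK : K ≠ ⊤ := by
    intro htop
    apply D'.barH_ne_top
    rw [eq_top_iff]
    intro y _
    obtain ⟨X, rfl⟩ := prj_surjective y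
    have hu : ∀ s : F, upperU s ∈ (barH M').comap prj := by
      intro s
      rw [hU, htop]; trivial
    have hl : ∀ s : F, lowerU s ∈ (barH M').comap prj := by
      intro s
      have := hSL (lowerU ⟨s, by rw [htop]; trivial⟩)
      rw [map_lowerU] at this
      exact this
    have := map_mem_of_upper_lower (RingHom.id F) _ hu hl X
    have hid : Matrix.SpecialLinearGroup.map (RingHom.id F) X = X := by
      apply Subtype.ext
      rw [coe_map_sl]
      ext i j
      simp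
    rwa [hid] at this
  have h2 : (2 : F) ≠ 0 := two_ne_zero_of_odd_card D.hodd
  have hMK : ∀ W : GL2, Matrix.ProjGenLinGroup.mk W ∈ M' →
      ∃ c : F, c ≠ 0 ∧ ∀ i j, c * (W : Matrix (Fin 2) (Fin 2) F) i j ∈ K := by
    intro W hW
    apply exists_scalar_of_normalizes K h2 _ hu1 hl1 hInM W
    intro X hX
    show prj (glConj W X) ∈ barH M'
    rw [← glConjBar_prj]
    exact glConjBar_mem_barH hW hX
  obtain ⟨heq, F₀, i1, i2, r, hr, hr2, hFr, hKF₀, ⟨e⟩⟩ := subfield_endgame D' K hK hMK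
  have e0 : M ≃* M' := M.equivMapOfInjective _ (MulAut.conj _).injective
  exact ⟨W0, K, hK, heq, F₀, i1, i2, r, hr, hr2, hFr, hKF₀, ⟨e0.trans e⟩⟩

end Cfsg.Agent.Lib.Helper42
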