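import Mathlib
import Cfsg.Agent.Lib.Helper42.PGL2Generic
import Cfsg.Agent.Lib.Helper42.PGL2Exc
import Cfsg.Agent.Lib.Helper42.PGL2Dihedral
import Cfsg.Agent.Lib.Helper41.MaxExcMain

set_option autoImplicit false

/-!
# Maximal subgroups of `PGL₂(F)`: the case `M ∩ L ≅ A₄` (helper42)
-/

namespace Cfsg.Agent.Lib.Helper42

open Cfsg.Agent.Lib.Helper11 Cfsg.Agent.Lib.Helper41

variable {F : Type*} [Field F]

local notation "SL2" => Matrix.SpecialLinearGroup (Fin 2) F
local notation "PSL2" => Matrix.ProjectiveSpecialLinearGroup (Fin 2) F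
local notation "GL2" => GL (Fin 2) F
local notation "PGL2" => Matrix.ProjGenLinGroup (Fin 2) F

/-- helper41's `exists_frame` with the automorphism given by an explicit element of `GL₂(F)` -/
theorem exists_frame_explicit [Fintype F] (h2 : (2 : F) ≠ 0) (K : Subfield F) (i j : SL2)
    (hi : tr2 i = 0) (hj : tr2 j = 0) (hij : tr2 (i * j) = 0) (a b : F) (ha : a ∈ K) (hb : b ∈ K)
    (hab : a ^ 2 + b ^ 2 = -1) :
    ∃ (W0 : GL2) (a' b' : F) (hab' : a' ^ 2 + b' ^ 2 = -1), a' ∈ K ∧ b' ∈ K ∧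
      glConj W0 i = frameI ∧ glConj W0 j = frameJ a' b' hab' := by
  have h4 : (tr2 i) ^ 2 ≠ 4 := by
    rw [hi]
    intro h
    apply h2
    have : (2 : F) * 2 = 0 := by linear_combination -h
    rcases mul_eq_zero.mp this with h' | h' <;> exact h'
  obtain ⟨P, hP⟩ := exists_conj_companion i h4
  rw [hi, companion_zero] at hP
  have hPi : P⁻¹ * i * P = frameI := by
    rw [mul_assoc, hP, ← mul_assoc, inv_mul_cancel, one_mul]
  set j' : SL2 := P⁻¹ * j * P with hj'def
  have htj' : tr2 j' = 0 := by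
    have := tr2_conj P⁻¹ j
    rw [inv_inv] at this
    rw [hj'def, this, hj]
  have htij' : tr2 (frameI * j') = 0 := by
    have e : frameI * j' = P⁻¹ * (i * j) * P⁻¹⁻¹ := by
      rw [← hPi, hj'def, inv_inv]; group
    rw [e, tr2_conj, hij]
  set x := (j' : Matrix (Fin 2) (Fin 2) F) 0 0 with hx
  set y := (j' : Matrix (Fin 2) (Fin 2) F) 0 1 with hy
  have h11 : (j' : Matrix (Fin 2) (Fin 2) F) 1 1 = -x := by
    have : x + (j' : Matrix (Fin 2) (Fin 2) F) 1 1 = 0 := htj'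
    linear_combination this
  have h10 : (j' : Matrix (Fin 2) (Fin 2) F) 1 0 = y := by
    rw [tr2_mul, coe_frameI] at htij'
    simp only [Matrix.of_apply, Matrix.cons_val', Matrix.cons_val_zero, Matrix.cons_val_one,
      Matrix.cons_val_fin_one] at htij'
    linear_combination -htij'
  have hjmat : (j' : Matrix (Fin 2) (Fin 2) F) = !![x, y; y, -x] := by
    ext r c
    fin_cases r <;> fin_cases c <;> simp [hx, hy, h10, h11]
  have hconj : ∀ g : SL2, glConj (Matrix.SpecialLinearGroup.toGL P⁻¹) g = P⁻¹ * g * P := by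
    intro g
    rw [glConj_toGL, inv_inv]
  by_cases hne : a * x + b * y ≠ 1
  · obtain ⟨W, hW1, hW2⟩ := exists_rotate h2 j' x y hjmat a b hab hne
    refine ⟨W * Matrix.SpecialLinearGroup.toGL P⁻¹, a, b, hab, ha, hb, ?_, ?_⟩
    · rw [glConj_mul, MulAut.mul_apply, hconj, hPi, hW1]
    · rw [glConj_mul, MulAut.mul_apply, hconj, hW2]
  · have hne' : a * x + b * y = 1 := not_not.mp hne
    have hab' : (-a) ^ 2 + (-b) ^ 2 = -1 := by linear_combination hab
    have hne'' : (-a) * x + (-b) * y ≠ 1 := by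
      intro h
      apply h2
      linear_combination -hne' - h
    obtain ⟨W, hW1, hW2⟩ := exists_rotate h2 j' x y hjmat (-a) (-b) hab' hne''
    refine ⟨W * Matrix.SpecialLinearGroup.toGL P⁻¹, -a, -b, hab', K.neg_mem ha, K.neg_mem hb, ?_, ?_⟩
    · rw [glConj_mul, MulAut.mul_apply, hconj, hPi, hW1]
    · rw [glConj_mul, MulAut.mul_apply, hconj, hW2]

/-- entries of a lift of an element of `PSL₂` -/
theorem entries_mem_of_prj_eq (K : Subfield F) {X Y : SL2}
    (hX : ∀ i j, (X : Matrix (Fin 2) (Fin 2) F) i j ∈ K) (h : prj Y = prj X) (i j : Fin 2) :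
    (Y : Matrix (Fin 2) (Fin 2) F) i j ∈ K := by
  rcases (mk_eq_mk_iff Y X).mp h with h1 | h1
  · rw [h1]; exact hX i j
  · rw [h1, Matrix.neg_apply]; exact K.neg_mem (hX i j)

theorem mem_of_two_mul_mem (K : Subfield F) (h2 : (2 : F) ≠ 0) {x : F} (h : 2 * x ∈ K) : x ∈ K := by
  have h2K : (2 : F) ∈ K := by
    have : (2 : F) = 1 + 1 := by norm_num
    rw [this]; exact K.add_mem K.one_mem K.one_mem
  have : x = (2 : F)⁻¹ * (2 * x) := by field_simp
  rw [this]
  exact K.mul_mem (K.inv_mem h2K) h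

/-- if conjugation by `W` maps the standard frame into matrices over `K` then
`W ∈ F^× GL₂(K)` -/
theorem exists_scalar_of_frame (K : Subfield F) (h2 : (2 : F) ≠ 0) {a b : F} (ha : a ∈ K)
    (hb : b ∈ K) (hab : a ^ 2 + b ^ 2 = -1) (W : GL2)
    (hI : ∀ i j, ((glConj W frameI : SL2) : Matrix (Fin 2) (Fin 2) F) i j ∈ K)
    (hJ : ∀ i j, ((glConj W (frameJ a b hab) : SL2) : Matrix (Fin 2) (Fin 2) F) i j ∈ K) :
    ∃ c : F, c ≠ 0 ∧ ∀ i j, c * (W : Matrix (Fin 2) (Fin 2) F) i j ∈ K := by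
  have hIJ : ∀ i j, ((glConj W (frameI * frameJ a b hab) : SL2) :
      Matrix (Fin 2) (Fin 2) F) i j ∈ K := by
    intro i j
    rw [map_mul, Matrix.SpecialLinearGroup.coe_mul, Matrix.mul_apply, Fin.sum_univ_two]
    exact K.add_mem (K.mul_mem (hI _ _) (hJ _ _)) (K.mul_mem (hI _ _) (hJ _ _))
  have h1K : ∀ a' b' : Fin 2, (1 : Matrix (Fin 2) (Fin 2) F) a' b' ∈ K := by
    intro a' b'
    by_cases h : a' = b'
    · rw [h, Matrix.one_apply_eq]; exact K.one_mem
    · rw [Matrix.one_apply_ne h]; exact K.zero_mem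
  apply exists_scalar_of_conj K W
  intro a' i j b'
  have e0 := congrFun (congrFun (gl_mul_inv W) a') b'
  rw [Matrix.mul_apply, Fin.sum_univ_two] at e0
  have e1 : ((glConj W frameI : SL2) : Matrix (Fin 2) (Fin 2) F) a' b'
      = -((W : Matrix (Fin 2) (Fin 2) F) a' 0 * ((W⁻¹ : GL2) : Matrix (Fin 2) (Fin 2) F) 1 b')
        + (W : Matrix (Fin 2) (Fin 2) F) a' 1 * ((W⁻¹ : GL2) : Matrix (Fin 2) (Fin 2) F) 0 b' := by
    rw [glConj_apply, coe_glConjFun, coe_frameI]
    simp only [Matrix.mul_apply, Fin.sum_univ_two, Matrix.of_apply, Matrix.cons_val',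
      Matrix.cons_val_zero, Matrix.cons_val_one, Matrix.cons_val_fin_one]
    ring
  have e2 : ((glConj W (frameJ a b hab) : SL2) : Matrix (Fin 2) (Fin 2) F) a' b'
      = a * ((W : Matrix (Fin 2) (Fin 2) F) a' 0 * ((W⁻¹ : GL2) : Matrix (Fin 2) (Fin 2) F) 0 b')
        + b * ((W : Matrix (Fin 2) (Fin 2) F) a' 0 * ((W⁻¹ : GL2) : Matrix (Fin 2) (Fin 2) F) 1 b')
        + b * ((W : Matrix (Fin 2) (Fin 2) F) a' 1 * ((W⁻¹ : GL2) : Matrix (Fin 2) (Fin 2) F) 0 b')
        - a * ((W : Matrix (Fin 2) (Fin 2) F) a' 1 * ((W⁻¹ : GL2) : Matrix (Fin 2) (Fin 2) F) 1 b') := by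
    rw [glConj_apply, coe_glConjFun, coe_frameJ]
    simp only [Matrix.mul_apply, Fin.sum_univ_two, Matrix.of_apply, Matrix.cons_val',
      Matrix.cons_val_zero, Matrix.cons_val_one, Matrix.cons_val_fin_one]
    ring
  have e3 : ((glConj W (frameI * frameJ a b hab) : SL2) : Matrix (Fin 2) (Fin 2) F) a' b'
      = -b * ((W : Matrix (Fin 2) (Fin 2) F) a' 0 * ((W⁻¹ : GL2) : Matrix (Fin 2) (Fin 2) F) 0 b')
        + a * ((W : Matrix (Fin 2) (Fin 2) F) a' 0 * ((W⁻¹ : GL2) : Matrix (Fin 2) (Fin 2) F) 1 b')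
        + a * ((W : Matrix (Fin 2) (Fin 2) F) a' 1 * ((W⁻¹ : GL2) : Matrix (Fin 2) (Fin 2) F) 0 b')
        + b * ((W : Matrix (Fin 2) (Fin 2) F) a' 1 * ((W⁻¹ : GL2) : Matrix (Fin 2) (Fin 2) F) 1 b') := by
    rw [glConj_apply, coe_glConjFun, Matrix.SpecialLinearGroup.coe_mul, coe_frameI, coe_frameJ]
    simp only [Matrix.mul_apply, Fin.sum_univ_two, Matrix.of_apply, Matrix.cons_val',
      Matrix.cons_val_zero, Matrix.cons_val_one, Matrix.cons_val_fin_one]
    ring
  have m0 := h1K a' b'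
  have m1 := hI a' b'
  have m2 := hJ a' b'
  have m3 := hIJ a' b'
  set s0 := (1 : Matrix (Fin 2) (Fin 2) F) a' b' with hs0
  set s1 := ((glConj W frameI : SL2) : Matrix (Fin 2) (Fin 2) F) a' b' with hs1
  set s2 := ((glConj W (frameJ a b hab) : SL2) : Matrix (Fin 2) (Fin 2) F) a' b' with hs2
  set s3 := ((glConj W (frameI * frameJ a b hab) : SL2) : Matrix (Fin 2) (Fin 2) F) a' b' with hs3
  set p00 := (W : Matrix (Fin 2) (Fin 2) F) a' 0 * ((W⁻¹ : GL2) : Matrix (Fin 2) (Fin 2) F) 0 b'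
  set p01 := (W : Matrix (Fin 2) (Fin 2) F) a' 0 * ((W⁻¹ : GL2) : Matrix (Fin 2) (Fin 2) F) 1 b'
  set p10 := (W : Matrix (Fin 2) (Fin 2) F) a' 1 * ((W⁻¹ : GL2) : Matrix (Fin 2) (Fin 2) F) 0 b'
  set p11 := (W : Matrix (Fin 2) (Fin 2) F) a' 1 * ((W⁻¹ : GL2) : Matrix (Fin 2) (Fin 2) F) 1 b'
  fin_cases i <;> fin_cases j
  · show p00 ∈ K
    apply mem_of_two_mul_mem K h2
    have : 2 * p00 = s0 + b * s3 - a * s2 := by
      linear_combination e0 + a * e2 - b * e3 + (p00 - p11) * hab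
    rw [this]
    exact K.sub_mem (K.add_mem m0 (K.mul_mem hb m3)) (K.mul_mem ha m2)
  · show p01 ∈ K
    apply mem_of_two_mul_mem K h2
    have : 2 * p01 = -s1 - (b * s2 + a * s3) := by
      linear_combination e1 + b * e2 + a * e3 + (p01 + p10) * hab
    rw [this]
    exact K.sub_mem (K.neg_mem m1) (K.add_mem (K.mul_mem hb m2) (K.mul_mem ha m3))
  · show p10 ∈ K
    apply mem_of_two_mul_mem K h2
    have : 2 * p10 = s1 - (b * s2 + a * s3) := by
      linear_combination (-1 : F) * e1 + b * e2 + a * e3 + (p01 + p10) * hab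
    rw [this]
    exact K.sub_mem m1 (K.add_mem (K.mul_mem hb m2) (K.mul_mem ha m3))
  · show p11 ∈ K
    apply mem_of_two_mul_mem K h2
    have : 2 * p11 = s0 - b * s3 + a * s2 := by
      linear_combination e0 + b * e3 - a * e2 + (p11 - p00) * hab
    rw [this]
    exact K.add_mem (K.sub_mem m0 (K.mul_mem hb m3)) (K.mul_mem ha m2)

/-- the four-group of `M ∩ L ≅ A₄` -/
def kleinSub (M : Subgroup PGL2) (e : barH M ≃* alternatingGroup (Fin 4)) : Subgroup PSL2 :=
  (kleinA4.map e.symm.toMonoidHom).map (barH M).subtype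

theorem mem_kleinSub_iff (M : Subgroup PGL2) (e : barH M ≃* alternatingGroup (Fin 4)) (y : PSL2) :
    y ∈ kleinSub M e ↔ y ∈ barH M ∧ y ^ 2 = 1 := by
  constructor
  · rintro ⟨_, ⟨k, hk, rfl⟩, rfl⟩
    refine ⟨(e.symm k).2, ?_⟩
    show ((e.symm k : barH M) : PSL2) ^ 2 = 1
    rw [← Subgroup.coe_pow, ← map_pow, (mem_kleinA4_iff k).mp hk, map_one, Subgroup.coe_one]
  · rintro ⟨hy, hy2⟩
    refine ⟨⟨y, hy⟩, ⟨e ⟨y, hy⟩, ?_, ?_⟩, rfl⟩
    · show (e ⟨y, hy⟩) ^ 2 = 1
      rw [← map_pow]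
      have : (⟨y, hy⟩ : barH M) ^ 2 = 1 := Subtype.ext (by simpa using hy2)
      rw [this, map_one]
    · exact e.symm_apply_apply _

theorem card_kleinSub (M : Subgroup PGL2) (e : barH M ≃* alternatingGroup (Fin 4)) :
    Nat.card (kleinSub M e) = 4 := by
  unfold kleinSub
  rw [← Nat.card_congr ((kleinA4.map e.symm.toMonoidHom).equivMapOfInjective _
      (barH M).subtype_injective).toEquiv,
    ← Nat.card_congr (kleinA4.equivMapOfInjective _ e.symm.injective).toEquiv, card_kleinA4]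

theorem kleinSub_le (M : Subgroup PGL2) (e : barH M ≃* alternatingGroup (Fin 4)) :
    kleinSub M e ≤ barH M := fun y hy => ((mem_kleinSub_iff M e y).mp hy).1

theorem kleinSub_invariant {M : Subgroup PGL2} (e : barH M ≃* alternatingGroup (Fin 4)) (W : GL2)
    (hW : Matrix.ProjGenLinGroup.mk W ∈ M) (y : PSL2) (hy : y ∈ kleinSub M e) :
    glConjBar W y ∈ kleinSub M e := by
  rw [mem_kleinSub_iff] at hy ⊢
  refine ⟨glConjBar_mem_barH hW hy.1, ?_⟩
  rw [← map_pow, hy.2, map_one]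

theorem tr2_frameI : tr2 (frameI : SL2) = 0 := by
  unfold tr2
  rw [coe_frameI]
  simp

theorem tr2_frameJ (a b : F) (hab : a ^ 2 + b ^ 2 = -1) : tr2 (frameJ a b hab) = 0 := by
  unfold tr2
  rw [coe_frameJ]
  simp

theorem prj_frameI_ne_prj_frameJ (h2 : (2 : F) ≠ 0) (a b : F) (hab : a ^ 2 + b ^ 2 = -1) :
    prj (frameI : SL2) ≠ prj (frameJ a b hab) := by
  intro h
  rcases (mk_eq_mk_iff _ _).mp h with h1 | h1
  · have e1 := congrFun (congrFun h1 0) 1
    have e2 := congrFun (congrFun h1 1) 0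
    rw [coe_frameI, coe_frameJ] at e1 e2
    simp at e1 e2
    apply h2
    linear_combination e2 - e1
  · have e1 := congrFun (congrFun h1 0) 1
    have e2 := congrFun (congrFun h1 1) 0
    rw [coe_frameI, coe_frameJ] at e1 e2
    simp at e1 e2
    apply h2
    linear_combination e2 + e1

/-- **The case `M ∩ L ≅ A₄`.** -/
theorem a4_case [Fintype F] (p : ℕ) [Fact p.Prime] [CharP F p]
    {M : Subgroup (Matrix.ProjGenLinGroup (Fin 2) F)} (D : MaxData F M)
    (e : barH M ≃* alternatingGroup (Fin 4)) :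
    ((Fintype.card F).Prime ∧ (Fintype.card F % 8 = 3 ∨ Fintype.card F % 8 = 5) ∧
      Nonempty (M ≃* Equiv.Perm (Fin 4))) ∨
    (∃ (W0 : GL2) (K : Subfield F), K ≠ ⊤ ∧
      M.map (MulAut.conj (Matrix.ProjGenLinGroup.mk W0)).toMonoidHom = pglSub K ∧
      ∃ (F₀ : Type) (_ : Field F₀) (_ : Fintype F₀) (r : ℕ), r.Prime ∧ Odd r ∧
        Fintype.card F = Fintype.card F₀ ^ r ∧ Nat.card K = Fintype.card F₀ ∧
        Nonempty (M ≃* Matrix.ProjGenLinGroup (Fin 2) F₀)) := by
  classical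
  have hfin : Finite PSL2 := finite_PSL2
  have hp := (Fact.out : p.Prime)
  have h2 : (2 : F) ≠ 0 := two_ne_zero_of_odd_card D.hodd
  set K0 : Subfield F := fix1 (F := F) p with hK0def
  by_cases hK0 : K0 = ⊤
  · left
    have hq : Fintype.card F = p := card_of_fix1_eq_top p hK0
    have hp5 : 5 ≤ p := by
      have h3 := D.h3
      obtain ⟨m, hm⟩ := D.hodd
      rw [hq] at h3 hm
      have : p ≠ 4 := by omega
      omega
    have hp24 : ¬ p ∣ 24 := by
      intro h
      have h24 : (24 : ℕ) = 2 ^ 3 * 3 := by norm_num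
      rw [h24] at h
      rcases (Nat.Prime.dvd_mul hp).mp h with h' | h'
      · have := (Nat.prime_dvd_prime_iff_eq hp Nat.prime_two).mp (hp.dvd_of_dvd_pow h')
        omega
      · have := (Nat.prime_dvd_prime_iff_eq hp Nat.prime_three).mp h'
        omega
    refine ⟨by rw [hq]; exact hp, ?_, recog_S4 p D e hp24⟩
    by_contra hq8
    have hq8' : Fintype.card F % 8 = 1 ∨ Fintype.card F % 8 = 7 := by
      obtain ⟨m, hm⟩ := D.hodd
      omega
    have : Fact (Nat.Prime 2) := ⟨Nat.prime_two⟩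
    have h8 : 2 ^ (2 + 1) ∣ Nat.card PSL2 :=
      Cfsg.Agent.S0808.arith17 _ _ (card_PSL2_mul_two' D.hodd) hq8'
    have hV4 := card_kleinSub M e
    have hdvd := Sylow.prime_pow_dvd_card_normalizer (p := 2) (n := 2) h8 (H := kleinSub M e)
      (by rw [hV4]; norm_num)
    have hV1 : kleinSub M e ≠ ⊥ := by
      intro h
      rw [h, Subgroup.card_bot] at hV4
      omega
    have hle : Subgroup.normalizer ((kleinSub M e : Subgroup PSL2) : Set PSL2) ≤ barH M := by
      intro z hz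
      apply D.mem_barH_of_invariant (kleinSub M e) hV1 (kleinSub_le M e) (kleinSub_invariant e)
      intro y hy
      exact (hz y).mp hy
    have h12 := Subgroup.card_dvd_of_le hle
    rw [card_of_equiv_A4 e] at h12
    have := dvd_trans hdvd h12
    omega
  · right
    obtain ⟨a, b, ha, hb, hab⟩ := exists_sq_add_sq_mem p K0
    obtain ⟨i, j, hiM, hjM, -, -, hi, hj, hij⟩ := exists_frame_of_equiv (barH M) e a4s1 a4s2
      (by decide) (by decide) (by decide) (by decide) (by decide) (by decide)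
    obtain ⟨W0, a', b', hab', ha', hb', hWi, hWj⟩ :=
      exists_frame_explicit h2 K0 i j hi hj hij a b ha hb hab
    set M' : Subgroup PGL2 := M.map (MulAut.conj (Matrix.ProjGenLinGroup.mk W0)).toMonoidHom
      with hM'
    have D' : MaxData F M' := D.conj _
    have hbar : barH M' = (barH M).map (glConjBar W0).toMonoidHom := barH_map_conj M W0
    have hI' : prj (frameI : SL2) ∈ barH M' := by
      rw [hbar]
      exact ⟨prj i, hiM, by rw [← hWi]; exact glConjBar_prj W0 i⟩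
    have hJ' : prj (frameJ a' b' hab') ∈ barH M' := by
      rw [hbar]
      exact ⟨prj j, hjM, by rw [← hWj]; exact glConjBar_prj W0 j⟩
    have e' : barH M' ≃* alternatingGroup (Fin 4) :=
      ((MulEquiv.subgroupCongr hbar).trans
        ((barH M).equivMapOfInjective _ (glConjBar W0).injective).symm).trans e
    set pI : PSL2 := prj (frameI : SL2) with hpI
    set pJ : PSL2 := prj (frameJ a' b' hab') with hpJ
    have hpII : pI * pI = 1 := Cfsg.Agent.S0807.proj_mul_self_of_tr2_zero _ tr2_frameI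
    have hpJJ : pJ * pJ = 1 := Cfsg.Agent.S0807.proj_mul_self_of_tr2_zero _ (tr2_frameJ a' b' hab')
    have hpI1 : pI ≠ 1 := Cfsg.Agent.S0807.proj_ne_one_of_tr2_zero h2 _ tr2_frameI
    have hpJ1 : pJ ≠ 1 := Cfsg.Agent.S0807.proj_ne_one_of_tr2_zero h2 _ (tr2_frameJ a' b' hab')
    have hpIJ : pI ≠ pJ := prj_frameI_ne_prj_frameJ h2 a' b' hab'
    have hIV : pI ∈ kleinSub M' e' := (mem_kleinSub_iff M' e' pI).mpr ⟨hI', by rw [sq]; exact hpII⟩
    have hJV : pJ ∈ kleinSub M' e' := (mem_kleinSub_iff M' e' pJ).mpr ⟨hJ', by rw [sq]; exact hpJJ⟩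
    have hVeq : ((kleinSub M' e' : Subgroup PSL2) : Set PSL2) = {1, pI, pJ, pI * pJ} := by
      symm
      apply Set.eq_of_subset_of_ncard_le _ _ (Set.toFinite _)
      · rintro x (rfl | rfl | rfl | rfl)
        · exact (kleinSub M' e').one_mem
        · exact hIV
        · exact hJV
        · exact (kleinSub M' e').mul_mem hIV hJV
      · rw [Cfsg.Agent.S0807.ncard_four pI pJ hpII hpI1 hpJ1 hpIJ, ← Nat.card_coe_set_eq]
        exact (card_kleinSub M' e').le
    have hentI : ∀ r c : Fin 2, ((frameI : SL2) : Matrix (Fin 2) (Fin 2) F) r c ∈ K0 := by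
      intro r c
      rw [coe_frameI]
      fin_cases r <;> fin_cases c <;> simp [K0.zero_mem, K0.one_mem, K0.neg_mem]
    have hentJ : ∀ r c : Fin 2, ((frameJ a' b' hab' : SL2) : Matrix (Fin 2) (Fin 2) F) r c ∈ K0 := by
      intro r c
      rw [coe_frameJ]
      fin_cases r <;> fin_cases c <;> simp [ha', hb', K0.neg_mem]
    have hent1 : ∀ r c : Fin 2, ((1 : SL2) : Matrix (Fin 2) (Fin 2) F) r c ∈ K0 := by
      intro r c
      rw [Matrix.SpecialLinearGroup.coe_one]
      by_cases h : r = c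
      · rw [h, Matrix.one_apply_eq]; exact K0.one_mem
      · rw [Matrix.one_apply_ne h]; exact K0.zero_mem
    have hentIJ : ∀ r c : Fin 2,
        ((frameI * frameJ a' b' hab' : SL2) : Matrix (Fin 2) (Fin 2) F) r c ∈ K0 := by
      intro r c
      rw [Matrix.SpecialLinearGroup.coe_mul, Matrix.mul_apply, Fin.sum_univ_two]
      exact K0.add_mem (K0.mul_mem (hentI _ _) (hentJ _ _)) (K0.mul_mem (hentI _ _) (hentJ _ _))
    have hconj_ent : ∀ X : SL2, prj X ∈ kleinSub M' e' → ∀ W : GL2,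
        Matrix.ProjGenLinGroup.mk W ∈ M' → ∀ r c : Fin 2,
        ((glConj W X : SL2) : Matrix (Fin 2) (Fin 2) F) r c ∈ K0 := by
      intro X hX W hW r c
      have h1 : prj (glConj W X) ∈ ((kleinSub M' e' : Subgroup PSL2) : Set PSL2) := by
        rw [← glConjBar_prj]
        exact kleinSub_invariant e' W hW _ hX
      rw [hVeq] at h1
      rcases h1 with h1 | h1 | h1 | h1
      · exact entries_mem_of_prj_eq K0 hent1 (by rw [h1, map_one]) r c
      · exact entries_mem_of_prj_eq K0 hentI h1 r c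
      · exact entries_mem_of_prj_eq K0 hentJ h1 r c
      · exact entries_mem_of_prj_eq K0 hentIJ (by rw [h1, map_mul]) r c
    have hMK : ∀ W : GL2, Matrix.ProjGenLinGroup.mk W ∈ M' →
        ∃ c : F, c ≠ 0 ∧ ∀ i j, c * (W : Matrix (Fin 2) (Fin 2) F) i j ∈ K0 := by
      intro W hW
      exact exists_scalar_of_frame K0 h2 ha' hb' hab' W (hconj_ent _ hIV W hW)
        (hconj_ent _ hJV W hW)
    obtain ⟨heq, F₀, i1, i2, r, hr, hr2, hFr, hKF₀, ⟨f⟩⟩ := subfield_endgame D' K0 hK0 hMK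
    have e0 : M ≃* M' := M.equivMapOfInjective _ (MulAut.conj _).injective
    exact ⟨W0, K0, hK0, heq, F₀, i1, i2, r, hr, hr2, hFr, hKF₀, ⟨e0.trans f⟩⟩

end Cfsg.Agent.Lib.Helper42
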