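import Mathlib
import Cfsg.Agent.Lib.Helper42.PGL2Frame

set_option autoImplicit false

/-!
# Maximal subgroups of `PGL₂(F)`, `|F|` odd, not containing `PSL₂(F)` (helper42)
-/

namespace Cfsg.Agent.Lib.Helper42

open Cfsg.Agent.Lib.Helper11 Cfsg.Agent.Lib.Helper41

variable {F : Type*} [Field F]

local notation "SL2" => Matrix.SpecialLinearGroup (Fin 2) F
local notation "PSL2" => Matrix.ProjectiveSpecialLinearGroup (Fin 2) F
local notation "GL2" => GL (Fin 2) F
local notation "PGL2" => Matrix.ProjGenLinGroup (Fin 2) F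

/-- a small nontrivial `uSet` forces `p = 3` -/
theorem char_eq_three_of_small_uSet [Fintype F] (p : ℕ) [Fact p.Prime] [CharP F p]
    (hodd : Odd (Fintype.card F)) (H : Subgroup SL2) {t : F} (ht0 : t ≠ 0) (ht : upperU t ∈ H)
    (hq : Nat.card (uSet H) < 4) : p = 3 := by
  have hp := (Fact.out : p.Prime)
  have hp2 := char_odd (F := F) p hodd
  obtain ⟨n, -, hn⟩ := FiniteField.card F p
  have hdvd : Nat.card (uSet H) ∣ Nat.card F := AddSubgroup.card_addSubgroup_dvd_card (uSet H)
  rw [Nat.card_eq_fintype_card (α := F), hn] at hdvd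
  obtain ⟨j, -, hj⟩ := (Nat.dvd_prime_pow hp).mp hdvd
  have h2 : 2 ≤ Nat.card (uSet H) := by
    have : Nontrivial (uSet H) := ⟨⟨⟨t, ht⟩, 0, fun h => ht0 (congrArg Subtype.val h)⟩⟩
    exact Finite.one_lt_card
  have hj1 : 1 ≤ j := by
    rcases Nat.eq_zero_or_pos j with h0 | h0
    · rw [h0, pow_zero] at hj; omega
    · exact h0
  have hple : p ≤ Nat.card (uSet H) := by
    rw [hj]
    calc p = p ^ 1 := (pow_one p).symm
      _ ≤ p ^ j := Nat.pow_le_pow_right hp.pos hj1
  have := hp.two_le
  omega

/-- **Maximal subgroups of `PGL₂(q)`, `q > 3` odd, not containing `PSL₂(q)`.** -/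
theorem pgl_max_main [Fintype F] (p : ℕ) [Fact p.Prime] [CharP F p]
    {M : Subgroup (Matrix.ProjGenLinGroup (Fin 2) F)} (D : MaxData F M) : PGLList F M := by
  classical
  have hp := (Fact.out : p.Prime)
  have hp2 := char_odd (F := F) p D.hodd
  have hgcd : Nat.gcd 2 (Fintype.card F - 1) = 2 := gcd_two_pred_of_odd D.hodd
  -- the conclusion in the `A₄` case
  have hA4 : ∀ {M' : Subgroup PGL2} (D' : MaxData F M')
      (f : barH M' ≃* alternatingGroup (Fin 4)), PGLList F M' := by
    intro M' D' f
    rcases a4_case p D' f with ⟨h1, h2, h3⟩ | ⟨W1, K, hK, heq, F₀, i1, i2, r, hr, hr2, hFr, -, h⟩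
    · right; right; right; left
      exact ⟨h1, h2, h3⟩
    · right; right; right; right
      exact ⟨F₀, i1, i2, r, hr, hr2, hFr, h⟩
  by_cases hpH : p ∣ Nat.card (barH M)
  · obtain ⟨g, t, ht0, ht⟩ := exists_conj_upperU_mem p (barH M) hpH
    obtain ⟨G0, rfl⟩ := prj_surjective g
    set W0 : GL2 := Matrix.SpecialLinearGroup.toGL G0 with hW0
    set M' : Subgroup PGL2 := M.map (MulAut.conj (Matrix.ProjGenLinGroup.mk W0)).toMonoidHom
      with hM'
    have D' : MaxData F M' := D.conj _
    have e0 : M ≃* M' := M.equivMapOfInjective _ (MulAut.conj _).injective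
    have hbar : barH M' = (barH M).map (MulAut.conj (prj G0)).toMonoidHom := by
      rw [hM', barH_map_conj]
      congr 1
      ext y
      exact glConjBar_toGL G0 y
    have ht' : prj (upperU t) ∈ barH M' := by rw [hbar]; exact ht
    have hpH' : p ∣ Nat.card (barH M') := by
      rw [hbar, ← Nat.card_congr ((barH M).equivMapOfInjective _
        (MulAut.conj (prj G0)).injective).toEquiv]
      exact hpH
    apply PGLList.of_equiv e0
    by_cases hB : (barH M').comap prj ≤ borelSub F
    · left
      exact card_of_le_borel D' ht0 ht' (fun X hX => hB hX)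
    · by_cases hq : 4 ≤ Nat.card (uSet ((barH M').comap prj))
      · obtain ⟨W1, K, hK, heq, F₀, i1, i2, r, hr, hr2, hFr, -, h⟩ := generic_case p D' hq hB
        right; right; right; right
        exact ⟨F₀, i1, i2, r, hr, hr2, hFr, h⟩
      · have hp3 : p = 3 :=
          char_eq_three_of_small_uSet p D.hodd ((barH M').comap prj) ht0 ht' (not_le.mp hq)
        rcases clause_ac_of_small p (barH M') ht0 ht' (not_le.mp hq) hB with
          ⟨k, hk, h⟩ | ⟨⟨f⟩⟩ | ⟨⟨f⟩⟩ | ⟨⟨f⟩⟩
        · exact absurd (not_clause_a_of_dvd p hp2 hpH' k hk h) id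
        · exact hA4 D' f
        · exact absurd (not_exceptional p D' f (Or.inl (by
            rw [Nat.card_perm, Nat.card_eq_fintype_card, Fintype.card_fin]; rfl))
            s4c1 s4c2 s4_noncomm s4_derived (fun _ => hp3)) id
        · exact absurd (not_exceptional p D' f (Or.inr (by
            rw [nat_card_alternatingGroup, Nat.card_eq_fintype_card, Fintype.card_fin]; rfl))
            a5c1 a5c2 a5_noncomm a5_derived (fun _ => hp3)) id
  · have hpM : ¬ p ∣ Nat.card M := by
      rw [D.card_eq]
      intro h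
      rcases (Nat.Prime.dvd_mul hp).mp h with h' | h'
      · exact hp2 ((Nat.prime_dvd_prime_iff_eq hp Nat.prime_two).mp h')
      · exact hpH h'
    rcases pprime_dickson p hpH with ⟨k, hk, h⟩ | ⟨⟨f⟩⟩ | ⟨⟨f⟩⟩ | ⟨⟨f⟩⟩
    · rw [hgcd] at hk
      obtain ⟨n, x, h3, hn, ⟨e⟩, hxH, hxn, hinv⟩ := dihedral_case D k hk h
      obtain ⟨f⟩ := recog_dihedral p D n h3 hn e x hxH hxn hinv
      obtain ⟨m, hm⟩ := D.hodd
      rcases hn with hn | hn
      · right; left
        have e1 : 2 * n = Fintype.card F - 1 := by omega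
        rw [← e1]
        exact ⟨by omega, ⟨f⟩⟩
      · right; right; left
        have e1 : 2 * n = Fintype.card F + 1 := by omega
        rw [← e1]
        exact ⟨f⟩
    · exact hA4 D f
    · exact absurd (not_exceptional p D f (Or.inl (by
        rw [Nat.card_perm, Nat.card_eq_fintype_card, Fintype.card_fin]; rfl))
        s4c1 s4c2 s4_noncomm s4_derived (fun h => absurd h hpM)) id
    · exact absurd (not_exceptional p D f (Or.inr (by
        rw [nat_card_alternatingGroup, Nat.card_eq_fintype_card, Fintype.card_fin]; rfl))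
        a5c1 a5c2 a5_noncomm a5_derived (fun h => absurd h hpM)) id

end Cfsg.Agent.Lib.Helper42
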