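import Mathlib
import Cfsg.Agent.Lib.Helper42.DicksonMax
import Cfsg.Agent.S4203
import Cfsg.Agent.S0061

set_option autoImplicit false

/-!
# Solvable subgroups of `PSL₂(q)` (helper42)

Dihedral groups, the Borel subgroup, Sylow `p`-normalizers of `PSL₂(F)`, and `PSL₂`/`PGL₂` over
the fields with `2` and `3` elements are solvable.
-/

namespace Cfsg.Agent.Lib.Helper42

open Cfsg.Agent.Lib.Helper41 Cfsg.Agent.Lib.Helper11 Cfsg.Agent.Lib.Helper14

section Dihedral

/-- the sign homomorphism of a dihedral group: rotations to `1`, reflections to `-1` -/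
def dihedralSign (k : ℕ) : DihedralGroup k →* ℤˣ where
  toFun x := match x with
    | DihedralGroup.r _ => 1
    | DihedralGroup.sr _ => -1
  map_one' := rfl
  map_mul' x y := by
    cases x <;> cases y <;> simp [DihedralGroup.r_mul_r, DihedralGroup.r_mul_sr,
      DihedralGroup.sr_mul_r, DihedralGroup.sr_mul_sr]

theorem mem_ker_dihedralSign {k : ℕ} (x : DihedralGroup k) :
    x ∈ (dihedralSign k).ker ↔ ∃ i, x = DihedralGroup.r i := by
  rw [MonoidHom.mem_ker]
  cases x with
  | r i => exact ⟨fun _ => ⟨i, rfl⟩, fun _ => rfl⟩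
  | sr i =>
    constructor
    · intro h
      exfalso
      have : (-1 : ℤˣ) = 1 := h
      exact absurd this (by decide)
    · rintro ⟨j, hj⟩
      exact absurd hj (by simp)

theorem isSolvable_dihedral (k : ℕ) : Group.IsSolvable (DihedralGroup k) := by
  have hker : Group.IsSolvable (dihedralSign k).ker := by
    apply Group.isSolvable_of_comm
    rintro ⟨a, ha⟩ ⟨b, hb⟩
    obtain ⟨i, rfl⟩ := (mem_ker_dihedralSign a).mp ha
    obtain ⟨j, rfl⟩ := (mem_ker_dihedralSign b).mp hb
    apply Subtype.ext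
    show DihedralGroup.r i * DihedralGroup.r j = DihedralGroup.r j * DihedralGroup.r i
    rw [DihedralGroup.r_mul_r, DihedralGroup.r_mul_r, add_comm]
  refine Group.isSolvable_of_ker_le_range (dihedralSign k).ker.subtype (dihedralSign k) ?_
  rw [Subgroup.range_subtype]

end Dihedral

section Borel

variable {F : Type*} [Field F]

local notation "SL2" => Matrix.SpecialLinearGroup (Fin 2) F
local notation "PSL2" => Matrix.ProjectiveSpecialLinearGroup (Fin 2) F

theorem isSolvable_borelSub : Group.IsSolvable (borelSub F) := by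
  have hker : Group.IsSolvable ((uniSub F).subgroupOf (borelSub F)) := by
    apply Group.isSolvable_of_comm
    rintro ⟨a, ha⟩ ⟨b, hb⟩
    rw [Subgroup.mem_subgroupOf] at ha hb
    apply Subtype.ext
    apply Subtype.ext
    have := uniSub_comm ha hb
    simpa using this
  refine Group.isSolvable_of_ker_le_range ((uniSub F).subgroupOf (borelSub F)).subtype
    (Abelianization.of (G := borelSub F)) ?_
  rw [Abelianization.ker_of, Subgroup.range_subtype, commutator_def, Subgroup.commutator_le]
  rintro ⟨a, ha⟩ - ⟨b, hb⟩ -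
  rw [Subgroup.mem_subgroupOf, commutatorElement_def]
  have h1 := tr2_comm_of_borel ha hb
  have h2 : a * b * a⁻¹ * b⁻¹ ∈ borelSub F :=
    (borelSub F).mul_mem ((borelSub F).mul_mem ((borelSub F).mul_mem ha hb)
      ((borelSub F).inv_mem ha)) ((borelSub F).inv_mem hb)
  exact mem_uniSub_of_tr2 h2 h1

theorem isSolvable_borelBar : Group.IsSolvable (borelBar F) := by
  have := isSolvable_borelSub (F := F)
  have hsurj : Function.Surjective
      ((QuotientGroup.mk' (Subgroup.center SL2)).subgroupMap (borelSub F)) :=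
    MonoidHom.subgroupMap_surjective _ _
  exact Group.isSolvable_of_surjective hsurj

end Borel

section SylowNormalizer

variable {F : Type*} [Field F] [Fintype F]

local notation "SL2" => Matrix.SpecialLinearGroup (Fin 2) F
local notation "PSL2" => Matrix.ProjectiveSpecialLinearGroup (Fin 2) F

/-- every Sylow `p`-normalizer of `PSL₂(F)` is conjugate into the Borel subgroup -/
theorem exists_conj_normalizer_sylow_le_borelBar (p : ℕ) [Fact p.Prime] [CharP F p]
    (P : Sylow p (Matrix.ProjectiveSpecialLinearGroup (Fin 2) F)) :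
    ∃ g : PSL2, ∀ x : PSL2, x ∈ Subgroup.normalizer ((P : Subgroup PSL2) : Set PSL2) →
      g⁻¹ * x * g ∈ borelBar F := by
  have hP : IsPGroup p (upperBar F) := isPGroup_upperBar p
  have hidx := not_dvd_index_upperBar (F := F) p
  set P0 : Sylow p PSL2 := hP.toSylow hidx with hP0
  have hP0coe : (P0 : Subgroup PSL2) = upperBar F := IsPGroup.toSylow_coe _ _
  obtain ⟨g, hg⟩ := MulAction.exists_smul_eq PSL2 P0 P
  refine ⟨g, ?_⟩
  intro x hx
  rw [← normalizer_upperBar, ← hP0coe, Subgroup.mem_normalizer_iff]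
  intro y
  have h1 := (Subgroup.mem_normalizer_iff.mp hx) (g * y * g⁻¹)
  have e1 : g * y * g⁻¹ ∈ (P : Subgroup PSL2) ↔ y ∈ (P0 : Subgroup PSL2) := by
    show g * y * g⁻¹ ∈ P ↔ y ∈ P0
    rw [← hg, mem_sylow_smul_iff]
    have : g⁻¹ * (g * y * g⁻¹) * g = y := by group
    rw [this]
  have e2 : x * (g * y * g⁻¹) * x⁻¹ ∈ (P : Subgroup PSL2) ↔
      g⁻¹ * x * g * y * (g⁻¹ * x * g)⁻¹ ∈ (P0 : Subgroup PSL2) := by
    show x * (g * y * g⁻¹) * x⁻¹ ∈ P ↔ g⁻¹ * x * g * y * (g⁻¹ * x * g)⁻¹ ∈ P0
    rw [← hg, mem_sylow_smul_iff]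
    have : g⁻¹ * (x * (g * y * g⁻¹) * x⁻¹) * g = g⁻¹ * x * g * y * (g⁻¹ * x * g)⁻¹ := by group
    rw [this]
  rw [← e1, ← e2]
  exact h1

theorem isSolvable_normalizer_sylow (p : ℕ) [Fact p.Prime] [CharP F p]
    (P : Sylow p (Matrix.ProjectiveSpecialLinearGroup (Fin 2) F)) :
    Group.IsSolvable (Subgroup.normalizer ((P : Subgroup PSL2) : Set PSL2)) := by
  obtain ⟨g, hg⟩ := exists_conj_normalizer_sylow_le_borelBar p P
  have := isSolvable_borelBar (F := F)
  let f : Subgroup.normalizer ((P : Subgroup PSL2) : Set PSL2) →* borelBar F :=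
    ((MulAut.conj g⁻¹).toMonoidHom.comp (Subgroup.subtype _)).codRestrict (borelBar F) (by
      intro x
      have := hg x x.2
      simpa [MulAut.conj_apply] using this)
  have hf : Function.Injective f := by
    intro x y hxy
    have h1 := congrArg (fun t : borelBar F => (t : PSL2)) hxy
    simp only [f, MonoidHom.codRestrict_apply, MonoidHom.comp_apply, Subgroup.coe_subtype,
      MulEquiv.coe_toMonoidHom] at h1
    exact Subtype.ext ((MulAut.conj g⁻¹).injective h1)
  exact Group.isSolvable_of_isSolvable_injective hf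

end SylowNormalizer

section Proper

variable {F : Type*} [Field F] [Fintype F]

local notation "SL2" => Matrix.SpecialLinearGroup (Fin 2) F
local notation "PSL2" => Matrix.ProjectiveSpecialLinearGroup (Fin 2) F

theorem gcd_two_pos (n : ℕ) : 0 < Nat.gcd 2 n := Nat.gcd_pos_of_pos_left _ (by norm_num)

/-- `PSL₂` and `PGL₂` over fields with at most three elements are solvable -/
theorem isSolvable_PSL2_PGL2_small {K : Type*} [Field K] [Fintype K] (hK : Fintype.card K ≤ 3) :
    Group.IsSolvable (Matrix.ProjectiveSpecialLinearGroup (Fin 2) K) ∧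
      Group.IsSolvable (Matrix.ProjGenLinGroup (Fin 2) K) := by
  have hk2 : 2 ≤ Fintype.card K := Fintype.one_lt_card
  have h1 := natCard_PSL2_mul (F := K)
  have h2 := natCard_PGL2 (F := K)
  have hfin : Finite (Matrix.ProjGenLinGroup (Fin 2) K) := by
    apply Nat.finite_of_card_ne_zero
    rw [h2]
    have : 1 ≤ Fintype.card K ^ 2 - 1 := by
      have : 4 ≤ Fintype.card K ^ 2 := by nlinarith
      omega
    positivity
  have hcases : Fintype.card K = 2 ∨ Fintype.card K = 3 := by omega
  rcases hcases with hk | hk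
  · rw [hk] at h1 h2
    norm_num at h1 h2
    exact ⟨Cfsg.Agent.S0061.result 2 3 1 Nat.prime_two Nat.prime_three (by rw [h1]; norm_num),
      Cfsg.Agent.S0061.result 2 3 1 Nat.prime_two Nat.prime_three (by rw [h2]; norm_num)⟩
  · rw [hk] at h1 h2
    norm_num at h1 h2
    have h1' : Nat.card (Matrix.ProjectiveSpecialLinearGroup (Fin 2) K) = 12 := by omega
    exact ⟨Cfsg.Agent.S0061.result 2 3 2 Nat.prime_two Nat.prime_three (by rw [h1']; norm_num),
      Cfsg.Agent.S0061.result 2 3 3 Nat.prime_two Nat.prime_three (by rw [h2]; norm_num)⟩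

/-- a proper subgroup of `PSL₂(F)` which is not `A₅`, where every proper "subfield order" of
`|F|` is at most `3`, is solvable -/
theorem isSolvable_of_ne_top (p : ℕ) [Fact p.Prime] [CharP F p]
    (H : Subgroup (Matrix.ProjectiveSpecialLinearGroup (Fin 2) F)) (hH : H ≠ ⊤)
    (hA5 : ¬ Nonempty (H ≃* alternatingGroup (Fin 5)))
    (hq : ∀ k m : ℕ, k ^ m = Fintype.card F → k ≠ Fintype.card F → k ≤ 3) :
    Group.IsSolvable H := by
  rcases Cfsg.Agent.S0799.result (F := F) rfl p H with
    ⟨k, _, (⟨hcyc, _⟩ | ⟨⟨e⟩⟩)⟩ | ⟨P, K, hK, ⟨e⟩⟩ | ⟨⟨e⟩⟩ | ⟨⟨e⟩⟩ | h | ⟨K, _, _, m, hKm, hK⟩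
  · apply Group.isSolvable_of_comm
    intro a b
    have := hcyc
    exact (Std.Commutative.comm (op := ((· * ·) : H → H → H)) a b)
  · have := isSolvable_dihedral k
    exact Group.isSolvable_of_isSolvable_injective (f := e.toMonoidHom) e.injective
  · have := isSolvable_normalizer_sylow p P
    have h1 : Group.IsSolvable K :=
      Group.isSolvable_of_isSolvable_injective (Subgroup.inclusion_injective hK)
    exact Group.isSolvable_of_isSolvable_injective (f := e.toMonoidHom) e.injective
  · have := Cfsg.Agent.S4203.isSolvable_alt_fin_four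
    exact Group.isSolvable_of_isSolvable_injective (f := e.toMonoidHom) e.injective
  · have := Cfsg.Agent.S4203.isSolvable_perm_four
    exact Group.isSolvable_of_isSolvable_injective (f := e.toMonoidHom) e.injective
  · exact absurd h hA5
  · by_cases hkq : Fintype.card K = Fintype.card F
    · exfalso
      apply hH
      apply Subgroup.eq_top_of_le_card
      have hG := natCard_PSL2_mul (F := F)
      have hg := gcd_two_pos (Fintype.card F - 1)
      rcases hK with ⟨⟨e⟩⟩ | ⟨⟨e⟩⟩
      · have h1 := natCard_PSL2_mul (F := K)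
        rw [hkq, ← hG, ← Nat.card_congr e.toEquiv] at h1
        exact le_of_eq (Nat.eq_of_mul_eq_mul_right hg h1).symm
      · have h1 := natCard_PGL2 (F := K)
        rw [hkq, ← hG, ← Nat.card_congr e.toEquiv] at h1
        rw [h1]
        exact Nat.le_mul_of_pos_right _ hg
    · have hk3 := hq _ m hKm hkq
      obtain ⟨h1, h2⟩ := isSolvable_PSL2_PGL2_small hk3
      rcases hK with ⟨⟨e⟩⟩ | ⟨⟨e⟩⟩
      · exact Group.isSolvable_of_isSolvable_injective (f := e.toMonoidHom) e.injective
      · exact Group.isSolvable_of_isSolvable_injective (f := e.toMonoidHom) e.injective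

end Proper

section NonSolvable

theorem not_isSolvable_alt_five : ¬ Group.IsSolvable (alternatingGroup (Fin 5)) := by
  intro h
  apply Equiv.Perm.not_isSolvable_fin_5
  refine Group.isSolvable_of_ker_le_range (alternatingGroup (Fin 5)).subtype
    (Equiv.Perm.sign (α := Fin 5)) ?_
  rw [Subgroup.range_subtype]
  exact le_of_eq rfl

variable {F : Type*} [Field F] [Fintype F]

local notation "SL2" => Matrix.SpecialLinearGroup (Fin 2) F
local notation "PSL2" => Matrix.ProjectiveSpecialLinearGroup (Fin 2) F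

theorem card_lt_card_PSL2 (hF : 4 ≤ Fintype.card F) :
    Fintype.card F < Nat.card (Matrix.ProjectiveSpecialLinearGroup (Fin 2) F) := by
  have hG := natCard_PSL2_mul (F := F)
  have hg : Nat.gcd 2 (Fintype.card F - 1) ≤ 2 := Nat.le_of_dvd (by norm_num) (Nat.gcd_dvd_left _ _)
  have h1 : 15 ≤ Fintype.card F ^ 2 - 1 := by
    have : 16 ≤ Fintype.card F ^ 2 := by nlinarith
    omega
  have h2 : Fintype.card F * 15 ≤ Fintype.card F * (Fintype.card F ^ 2 - 1) :=
    Nat.mul_le_mul_left _ h1
  have h3 : Nat.card (Matrix.ProjectiveSpecialLinearGroup (Fin 2) F) *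
      Nat.gcd 2 (Fintype.card F - 1) ≤ Nat.card (Matrix.ProjectiveSpecialLinearGroup (Fin 2) F) * 2 :=
    Nat.mul_le_mul_left _ hg
  omega

theorem not_isMulCommutative_PSL2 (hF : 4 ≤ Fintype.card F) :
    ¬ IsMulCommutative (Matrix.ProjectiveSpecialLinearGroup (Fin 2) F) := by
  intro hc
  have hsimple : IsSimpleGroup PSL2 :=
    Matrix.ProjectiveSpecialLinearGroup.rank_two_simple (by
      rw [Nat.card_eq_fintype_card]; exact hF)
  have hn : (upperBar F).Normal := by
    refine ⟨fun n hn g => ?_⟩
    have : g * n * g⁻¹ = n := by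
      rw [mul_comm' g n, mul_assoc, mul_inv_cancel, mul_one]
    rw [this]; exact hn
  have hcard := card_upperBar (F := F)
  rcases hn.eq_bot_or_eq_top with h | h
  · rw [h, Subgroup.card_bot] at hcard
    omega
  · rw [h, Subgroup.card_top] at hcard
    have := card_lt_card_PSL2 hF
    omega

theorem not_isSolvable_PSL2 (hF : 4 ≤ Fintype.card F) :
    ¬ Group.IsSolvable (Matrix.ProjectiveSpecialLinearGroup (Fin 2) F) := by
  intro hs
  have hsimple : IsSimpleGroup PSL2 :=
    Matrix.ProjectiveSpecialLinearGroup.rank_two_simple (by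
      rw [Nat.card_eq_fintype_card]; exact hF)
  apply not_isMulCommutative_PSL2 hF
  exact ⟨⟨IsSimpleGroup.comm_iff_isSolvable.mpr hs⟩⟩

end NonSolvable

end Cfsg.Agent.Lib.Helper42
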