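-- helper42: S4125-[U1a] (hedge for helper65 / helper75): in a q-Baer group with a q-element of
-- index q^a > 1, the Sylow q-subgroup is normal (equal to O_q(G)).
import Mathlib
import Cfsg.Prelude.Def_Solvable
import Cfsg.Agent.Lib.Helper84.QBaerW
import Cfsg.Agent.Lib.Helper76.SylowNorm
import Cfsg.Agent.Lib.Helper97.Cores

set_option autoImplicit false
set_option linter.unusedSectionVars false

namespace Cfsg.Agent.Lib.Helper42.QBaerU1

variable {G : Type*} [Group G]

/-- A subgroup contained in the union of two subgroups is contained in one of them. -/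
theorem le_or_le_of_forall_mem_or (Q A B : Subgroup G) (h : ∀ u ∈ Q, u ∈ A ∨ u ∈ B) :
    Q ≤ A ∨ Q ≤ B := by
  by_contra hcon
  push Not at hcon
  obtain ⟨hA, hB⟩ := hcon
  obtain ⟨a, haQ, haA⟩ := SetLike.not_le_iff_exists.mp hA
  obtain ⟨b, hbQ, hbB⟩ := SetLike.not_le_iff_exists.mp hB
  have haB : a ∈ B := (h a haQ).resolve_left haA
  have hbA : b ∈ A := (h b hbQ).resolve_right hbB
  rcases h (a * b) (Q.mul_mem haQ hbQ) with hab | hab
  · exact haA (by simpa using A.mul_mem hab (A.inv_mem hbA))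
  · exact hbB (by simpa using B.mul_mem (B.inv_mem haB) hab)

variable [Finite G]

/-- An element whose centralizer has index prime to `q` centralizes `O_q(G)`. -/
theorem commute_pCore_of_not_dvd_index (q : ℕ) [Fact q.Prime] (u : G)
    (h : ¬ q ∣ (Subgroup.centralizer ({u} : Set G)).index) :
    ∀ o ∈ Cfsg.pCore q G, o * u = u * o := by
  obtain ⟨Q₁, hQ₁⟩ := Cfsg.Agent.Lib.Helper76.exists_sylow_le_of_not_dvd_index q _ h
  intro o ho
  have h1 : o ∈ Subgroup.centralizer ({u} : Set G) :=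
    hQ₁ (Cfsg.Agent.Lib.Helper97.pCore_le_sylow' Q₁ ho)
  rw [Subgroup.mem_centralizer_iff] at h1
  exact (h1 u rfl).symm

/-- elements of a Sylow subgroup have prime power order -/
theorem exists_orderOf_eq_of_mem_sylow (q : ℕ) [hq : Fact q.Prime] (Q : Sylow q G) (u : G)
    (hu : u ∈ (Q : Subgroup G)) : ∃ k : ℕ, orderOf u = q ^ k := by
  obtain ⟨k, hk⟩ := Q.2 ⟨u, hu⟩
  have h1 : u ^ q ^ k = 1 := by simpa using congrArg Subtype.val hk
  obtain ⟨j, _, hj⟩ := (Nat.dvd_prime_pow hq.out).mp (orderOf_dvd_of_pow_eq_one h1)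
  exact ⟨j, hj⟩

/-- [U1a] -/
theorem sylow_eq_pCore_of_exists_q (q : ℕ) [Fact q.Prime]
    (hBaer : ∀ x : G, (∃ k : ℕ, orderOf x = q ^ k) → ∃ (r : ℕ) (a : ℕ), r.Prime ∧
      (Subgroup.centralizer ({x} : Set G)).index = r ^ a)
    (x : G) (hx : ∃ k : ℕ, orderOf x = q ^ k) (a : ℕ) (ha : 0 < a)
    (hxa : (Subgroup.centralizer ({x} : Set G)).index = q ^ a) (Q : Sylow q G) :
    (Q : Subgroup G) = Cfsg.pCore q G := by
  have hq : q.Prime := Fact.out
  have hxO : x ∈ Cfsg.pCore q G :=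
    Cfsg.Agent.Lib.Helper84.QBaer.mem_pCore_of_index_pow q x hx ⟨a, hxa⟩
  have hcase : ∀ u ∈ (Q : Subgroup G),
      u ∈ Cfsg.pCore q G ∨ u ∈ Subgroup.centralizer ((Cfsg.pCore q G : Subgroup G) : Set G) := by
    intro u hu
    have hu' : ∃ k, orderOf u = q ^ k := exists_orderOf_eq_of_mem_sylow q Q u hu
    obtain ⟨r, b, hr, hrb⟩ := hBaer u hu'
    by_cases hrq : r = q
    · left
      rw [hrq] at hrb
      exact Cfsg.Agent.Lib.Helper84.QBaer.mem_pCore_of_index_pow q u hu' ⟨b, hrb⟩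
    · right
      have hnd : ¬ q ∣ (Subgroup.centralizer ({u} : Set G)).index := by
        rw [hrb]
        intro hd
        exact hrq ((Nat.prime_dvd_prime_iff_eq hq hr).mp (hq.dvd_of_dvd_pow hd)).symm
      rw [Subgroup.mem_centralizer_iff]
      intro o ho
      exact commute_pCore_of_not_dvd_index q u hnd o ho
  rcases le_or_le_of_forall_mem_or _ _ _ hcase with h | h
  · exact le_antisymm h (Cfsg.Agent.Lib.Helper97.pCore_le_sylow' Q)
  · exfalso
    have hQx : (Q : Subgroup G) ≤ Subgroup.centralizer ({x} : Set G) := by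
      intro u hu
      have h1 := h hu
      rw [Subgroup.mem_centralizer_iff] at h1 ⊢
      intro y hy
      rw [Set.mem_singleton_iff] at hy
      subst hy
      exact h1 y hxO
    have hdvd : (Subgroup.centralizer ({x} : Set G)).index ∣ (Q : Subgroup G).index :=
      Subgroup.index_dvd_of_le hQx
    rw [hxa] at hdvd
    exact Q.not_dvd_index ((dvd_pow_self q ha.ne').trans hdvd)

/-- [U1a] normality form -/
theorem sylow_normal_of_exists_q (q : ℕ) [Fact q.Prime]
    (hBaer : ∀ x : G, (∃ k : ℕ, orderOf x = q ^ k) → ∃ (r : ℕ) (a : ℕ), r.Prime ∧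
      (Subgroup.centralizer ({x} : Set G)).index = r ^ a)
    (x : G) (hx : ∃ k : ℕ, orderOf x = q ^ k) (a : ℕ) (ha : 0 < a)
    (hxa : (Subgroup.centralizer ({x} : Set G)).index = q ^ a) (Q : Sylow q G) :
    (Q : Subgroup G).Normal := by
  rw [sylow_eq_pCore_of_exists_q q hBaer x hx a ha hxa Q]
  exact Cfsg.Agent.Lib.Helper97.pCore_normal q

end Cfsg.Agent.Lib.Helper42.QBaerU1
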