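-- helper42: S4125-[U1b] (hedge for helper65 / helper75): with a normal Sylow q-subgroup Q and a
-- complement H, every element of q-power index is Q-conjugate into the centralizer of H.
import Mathlib
import Cfsg.Prelude.Def_Solvable
import Cfsg.Agent.S0001

set_option autoImplicit false

namespace Cfsg.Agent.Lib.Helper42.QBaerU1

open scoped Pointwise

variable {G : Type*} [Group G] [Finite G]

/-- [U1b] -/
theorem exists_conj_commute_complement (q : ℕ) [Fact q.Prime] (Q : Sylow q G)
    [hQn : (Q : Subgroup G).Normal] (H : Subgroup G)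
    (hH : Subgroup.IsComplement' (Q : Subgroup G) H) (u : G) (b : ℕ)
    (hub : (Subgroup.centralizer ({u} : Set G)).index = q ^ b) :
    ∃ c ∈ (Q : Subgroup G), ∀ h ∈ H, h * (c * u * c⁻¹) = (c * u * c⁻¹) * h := by
  have hq : q.Prime := Fact.out
  set C := Subgroup.centralizer ({u} : Set G) with hC
  let K : Subgroup C := (Q : Subgroup G).subgroupOf C
  have hKn : K.Normal := inferInstance
  have hKp : IsPGroup q K := Q.2.comap_subtype
  obtain ⟨j, hj⟩ := IsPGroup.iff_card.mp hKp
  obtain ⟨s, hs⟩ := IsPGroup.iff_card.mp Q.2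
  have hQidx : ¬ q ∣ (Q : Subgroup G).index := Q.not_dvd_index
  have hKdvd : K.index ∣ (Q : Subgroup G).index := Subgroup.relIndex_dvd_index_of_normal _ _
  have hKidx : ¬ q ∣ K.index := fun h => hQidx (h.trans hKdvd)
  have hcop : (Nat.card K).Coprime K.index := by
    rw [hj]; exact Nat.Coprime.pow_left _ ((Nat.Prime.coprime_iff_not_dvd hq).mpr hKidx)
  obtain ⟨H₁', hH₁'⟩ := Subgroup.exists_right_complement'_of_coprime hcop
  set H₁ : Subgroup G := H₁'.map C.subtype with hH₁
  have hcard1 : Nat.card H₁ = Nat.card H₁' :=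
    Subgroup.card_map_of_injective C.subtype_injective
  have hcard2 : K.index = Nat.card H₁' := hH₁'.symm.index_eq_card
  have hcardC : Nat.card K * Nat.card H₁' = Nat.card C := hH₁'.card_mul_card
  have hcardG : Nat.card C * q ^ b = Nat.card G := by
    rw [← hub]; exact Subgroup.card_mul_index C
  have hcardQ : Nat.card (Q : Subgroup G) * (Q : Subgroup G).index = Nat.card G :=
    Subgroup.card_mul_index _
  have hXY : (Q : Subgroup G).index = Nat.card H₁' := by
    apply Nat.dvd_antisymm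
    · have h1 : (Q : Subgroup G).index ∣ (q ^ (j + b)) * Nat.card H₁' := by
        refine ⟨Nat.card (Q : Subgroup G), ?_⟩
        rw [pow_add, ← hj]
        calc Nat.card K * q ^ b * Nat.card H₁' = (Nat.card K * Nat.card H₁') * q ^ b := by ring
          _ = Nat.card G := by rw [hcardC, hcardG]
          _ = (Q : Subgroup G).index * Nat.card (Q : Subgroup G) := by rw [← hcardQ]; ring
      have h2 : ((Q : Subgroup G).index).Coprime (q ^ (j + b)) :=
        Nat.Coprime.pow_right _ ((Nat.Prime.coprime_iff_not_dvd hq).mpr hQidx).symm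
      exact h2.dvd_of_dvd_mul_left h1
    · rw [← hcard2]; exact hKdvd
  have hN : (Nat.card (Q : Subgroup G)).Coprime (Q : Subgroup G).index := by
    rw [hs]; exact Nat.Coprime.pow_left _ ((Nat.Prime.coprime_iff_not_dvd hq).mpr hQidx)
  have hcompl : Subgroup.IsComplement' (Q : Subgroup G) H₁ := by
    apply Subgroup.isComplement'_of_coprime
    · rw [hcard1, ← hXY]; exact hcardQ
    · rw [hcard1, ← hXY]; exact hN
  have hsolv : Group.IsSolvable (Q : Subgroup G) := by
    have : Group.IsNilpotent (Q : Subgroup G) := Q.2.isNilpotent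
    infer_instance
  obtain ⟨g, hg⟩ := Cfsg.Agent.S0001.result (Q : Subgroup G) hN (Or.inl hsolv) H H₁ hH hcompl
  obtain ⟨⟨⟨c, hc⟩, ⟨h₀, hh₀⟩⟩, hgc, _⟩ := Subgroup.isComplement_iff_existsUnique.mp hH g
  simp only at hgc
  refine ⟨c⁻¹, (Q : Subgroup G).inv_mem hc, ?_⟩
  intro h hh
  have hh' : h₀⁻¹ * h * h₀ ∈ H := H.mul_mem (H.mul_mem (H.inv_mem hh₀) hh) hh₀
  have h1 : MulAut.conj g • (h₀⁻¹ * h * h₀) ∈ MulAut.conj g • H :=
    Subgroup.smul_mem_pointwise_smul _ _ _ hh'
  rw [hg] at h1
  obtain ⟨y, _, hy⟩ := h1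
  have h2 : c * h * c⁻¹ ∈ C := by
    have h3 : MulAut.conj g • (h₀⁻¹ * h * h₀) = c * h * c⁻¹ := by
      rw [MulAut.smul_def, MulAut.conj_apply, ← hgc]; group
    rw [← h3, ← hy]; exact y.2
  rw [hC, Subgroup.mem_centralizer_iff] at h2
  have h3 := h2 u rfl
  rw [inv_inv]
  calc h * (c⁻¹ * u * c) = c⁻¹ * ((c * h * c⁻¹) * u) * c := by group
    _ = c⁻¹ * (u * (c * h * c⁻¹)) * c := by rw [h3]
    _ = (c⁻¹ * u * c) * h := by group

end Cfsg.Agent.Lib.Helper42.QBaerU1
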