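-- helper42: S4125-[U1] (hedge for helper65 / helper75): in a q-Baer group, a q-element of index
-- q^a > 1 forces all q-elements to have q-power index.
import Mathlib
import Cfsg.Prelude.Def_Solvable
import Cfsg.Agent.Lib.Helper42.QBaerU1a
import Cfsg.Agent.Lib.Helper42.QBaerU1b
import Cfsg.Agent.Lib.Helper80.ItoMichler

set_option autoImplicit false

namespace Cfsg.Agent.Lib.Helper42.QBaerU1

variable {G : Type*} [Group G] [Finite G]

/-- [U1] -/
theorem all_q_of_exists_q (q : ℕ) [Fact q.Prime]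
    (hBaer : ∀ x : G, (∃ k : ℕ, orderOf x = q ^ k) → ∃ (r : ℕ) (a : ℕ), r.Prime ∧
      (Subgroup.centralizer ({x} : Set G)).index = r ^ a)
    (x : G) (hx : ∃ k : ℕ, orderOf x = q ^ k) (a : ℕ) (ha : 0 < a)
    (hxa : (Subgroup.centralizer ({x} : Set G)).index = q ^ a)
    (y : G) (hy : ∃ k : ℕ, orderOf y = q ^ k) :
    ∃ b : ℕ, (Subgroup.centralizer ({y} : Set G)).index = q ^ b := by
  have hq : q.Prime := Fact.out
  obtain ⟨Q⟩ : Nonempty (Sylow q G) := inferInstance
  have hQO : ∀ P : Sylow q G, (P : Subgroup G) = Cfsg.pCore q G :=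
    sylow_eq_pCore_of_exists_q q hBaer x hx a ha hxa
  have hQn : (Q : Subgroup G).Normal := sylow_normal_of_exists_q q hBaer x hx a ha hxa Q
  -- every q-element lies in Q
  have hmemQ : ∀ u : G, (∃ k, orderOf u = q ^ k) → u ∈ (Q : Subgroup G) := by
    intro u hu
    have hup : IsPGroup q (Subgroup.zpowers u) := by
      obtain ⟨k, hk⟩ := hu
      rw [IsPGroup.iff_card, Nat.card_zpowers]
      exact ⟨k, hk⟩
    obtain ⟨P, hP⟩ := hup.exists_le_sylow
    rw [hQO Q, ← hQO P]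
    exact hP (Subgroup.mem_zpowers u)
  have hxQ : x ∈ (Q : Subgroup G) := hmemQ x hx
  obtain ⟨s, hs⟩ := IsPGroup.iff_card.mp Q.2
  have hQidx : ¬ q ∣ (Q : Subgroup G).index := Q.not_dvd_index
  have hN : (Nat.card (Q : Subgroup G)).Coprime (Q : Subgroup G).index := by
    rw [hs]; exact Nat.Coprime.pow_left _ ((Nat.Prime.coprime_iff_not_dvd hq).mpr hQidx)
  obtain ⟨H, hH⟩ := Subgroup.exists_right_complement'_of_coprime hN
  -- it suffices that H centralizes Q
  suffices hcent : ∀ u ∈ (Q : Subgroup G), ∀ h ∈ H, h * u = u * h by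
    have hyQ := hmemQ y hy
    have hHle : H ≤ Subgroup.centralizer ({y} : Set G) := by
      intro h hh
      rw [Subgroup.mem_centralizer_iff]
      intro z hz
      rw [Set.mem_singleton_iff] at hz
      subst hz
      exact (hcent z hyQ h hh).symm
    have hdvd : (Subgroup.centralizer ({y} : Set G)).index ∣ H.index :=
      Subgroup.index_dvd_of_le hHle
    rw [hH.index_eq_card, hs] at hdvd
    obtain ⟨b, _, hb⟩ := (Nat.dvd_prime_pow hq).mp hdvd
    exact ⟨b, hb⟩
  let CH : Subgroup G := (Q : Subgroup G) ⊓ Subgroup.centralizer (H : Set G)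
  let Z : Subgroup G := (Q : Subgroup G) ⊓ Subgroup.centralizer ((Q : Subgroup G) : Set G)
  have hZn : Z.Normal := inferInstance
  -- elements of Q outside Z have q-power index
  have hidx : ∀ u ∈ (Q : Subgroup G), u ∉ Z →
      ∃ b, (Subgroup.centralizer ({u} : Set G)).index = q ^ b := by
    intro u hu huZ
    obtain ⟨r, b, hr, hrb⟩ := hBaer u (exists_orderOf_eq_of_mem_sylow q Q u hu)
    by_cases hrq : r = q
    · exact ⟨b, hrq ▸ hrb⟩
    · exfalso
      apply huZ
      have hnd : ¬ q ∣ (Subgroup.centralizer ({u} : Set G)).index := by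
        rw [hrb]
        intro hd
        exact hrq ((Nat.prime_dvd_prime_iff_eq hq hr).mp (hq.dvd_of_dvd_pow hd)).symm
      obtain ⟨Q₁, hQ₁⟩ := Cfsg.Agent.Lib.Helper76.exists_sylow_le_of_not_dvd_index q _ hnd
      have hQQ : (Q₁ : Subgroup G) = Q := by rw [hQO Q, hQO Q₁]
      refine Subgroup.mem_inf.mpr ⟨hu, ?_⟩
      rw [Subgroup.mem_centralizer_iff]
      intro z hz
      have h1 : z ∈ Subgroup.centralizer ({u} : Set G) := hQ₁ (hQQ ▸ hz)
      rw [Subgroup.mem_centralizer_iff] at h1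
      exact (h1 u rfl).symm
  -- each element of Q is Q-conjugate into CH ⊔ Z
  have hconj : ∀ u ∈ (Q : Subgroup G), ∃ c ∈ (Q : Subgroup G), c * u * c⁻¹ ∈ CH ⊔ Z := by
    intro u hu
    by_cases huZ : u ∈ Z
    · exact ⟨1, one_mem _, by simpa using (le_sup_right : Z ≤ CH ⊔ Z) huZ⟩
    · obtain ⟨b, hb⟩ := hidx u hu huZ
      obtain ⟨c, hc, hcomm⟩ := exists_conj_commute_complement q Q H hH u b hb
      refine ⟨c, hc, (le_sup_left : CH ≤ CH ⊔ Z) (Subgroup.mem_inf.mpr ⟨hQn.conj_mem u hu c, ?_⟩)⟩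
      rw [Subgroup.mem_centralizer_iff]
      intro h hh
      exact hcomm h hh
  -- Jordan's lemma in Q
  have hD : (Q : Subgroup G) ≤ CH ⊔ Z := by
    have hJ := Cfsg.Agent.Lib.Helper80.eq_top_of_forall_exists_conj_mem
      (M := ↥(Q : Subgroup G)) ((CH ⊔ Z).subgroupOf (Q : Subgroup G)) (by
        intro m
        obtain ⟨c, hc, hcm⟩ := hconj m.1 m.2
        exact ⟨⟨c, hc⟩, by rw [Subgroup.mem_subgroupOf]; simpa using hcm⟩)
    rw [Subgroup.subgroupOf_eq_top] at hJ
    exact hJ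
  have hdec : ∀ w ∈ (Q : Subgroup G), ∃ c ∈ CH, ∃ z ∈ Z, w = c * z := by
    intro w hw
    have h1 := hD hw
    rw [← SetLike.mem_coe, Subgroup.mul_normal] at h1
    obtain ⟨c, hc, z, hz, rfl⟩ := h1
    exact ⟨c, hc, z, hz, rfl⟩
  -- Q is not abelian
  have hQZ : ¬ (Q : Subgroup G) ≤ Z := by
    intro h
    have hQx : (Q : Subgroup G) ≤ Subgroup.centralizer ({x} : Set G) := by
      intro u hu
      have hxZ := (Subgroup.mem_inf.mp (h hxQ)).2
      rw [Subgroup.mem_centralizer_iff] at hxZ ⊢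
      intro z hz
      rw [Set.mem_singleton_iff] at hz
      subst hz
      exact (hxZ u hu).symm
    have hdvd := Subgroup.index_dvd_of_le hQx
    rw [hxa] at hdvd
    exact hQidx ((dvd_pow_self q ha.ne').trans hdvd)
  obtain ⟨x', hx'C, hx'Z⟩ : ∃ x' ∈ CH, x' ∉ Z := by
    by_contra hcon
    push Not at hcon
    apply hQZ
    intro w hw
    obtain ⟨c, hc, z, hz, rfl⟩ := hdec w hw
    exact Z.mul_mem (hcon c hc) hz
  -- Z ≤ CH
  have hZC : Z ≤ CH := by
    intro y' hy'
    have hx'Q : x' ∈ (Q : Subgroup G) := (Subgroup.mem_inf.mp hx'C).1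
    have hy'Q : y' ∈ (Q : Subgroup G) := (Subgroup.mem_inf.mp hy').1
    have hxyQ : x' * y' ∈ (Q : Subgroup G) := mul_mem hx'Q hy'Q
    have hxyZ : x' * y' ∉ Z := fun h => hx'Z (by simpa using Z.mul_mem h (Z.inv_mem hy'))
    obtain ⟨b, hb⟩ := hidx _ hxyQ hxyZ
    obtain ⟨w, hw, hwcomm⟩ := exists_conj_commute_complement q Q H hH (x' * y') b hb
    obtain ⟨c, hc, z, hz, rfl⟩ := hdec w hw
    have hzc := (Subgroup.mem_inf.mp hz).2
    have hyc := (Subgroup.mem_inf.mp hy').2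
    rw [Subgroup.mem_centralizer_iff] at hzc hyc
    have hzx : z * x' = x' * z := (hzc x' hx'Q).symm
    have hzy : z * y' = y' * z := (hzc y' hy'Q).symm
    have hcy : c⁻¹ * y' = y' * c⁻¹ := hyc c⁻¹ ((Q : Subgroup G).inv_mem (Subgroup.mem_inf.mp hc).1)
    have hkey : (c * z) * (x' * y') * (c * z)⁻¹ = (c * x' * c⁻¹) * y' := by
      calc (c * z) * (x' * y') * (c * z)⁻¹ = c * (z * x') * y' * z⁻¹ * c⁻¹ := by group
        _ = c * (x' * z) * y' * z⁻¹ * c⁻¹ := by rw [hzx]
        _ = c * x' * (z * y') * z⁻¹ * c⁻¹ := by group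
        _ = c * x' * (y' * z) * z⁻¹ * c⁻¹ := by rw [hzy]
        _ = c * x' * (y' * c⁻¹) := by group
        _ = c * x' * (c⁻¹ * y') := by rw [hcy]
        _ = (c * x' * c⁻¹) * y' := by group
    refine Subgroup.mem_inf.mpr ⟨hy'Q, ?_⟩
    rw [Subgroup.mem_centralizer_iff]
    intro h hh
    have ht : c * x' * c⁻¹ ∈ CH := CH.mul_mem (CH.mul_mem hc hx'C) (CH.inv_mem hc)
    have ht2 := (Subgroup.mem_inf.mp ht).2
    rw [Subgroup.mem_centralizer_iff] at ht2
    have h1 : h * (c * x' * c⁻¹) = (c * x' * c⁻¹) * h := ht2 h hh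
    have h2 := hwcomm h hh
    rw [hkey] at h2
    apply mul_left_cancel (a := c * x' * c⁻¹)
    calc (c * x' * c⁻¹) * (h * y') = ((c * x' * c⁻¹) * h) * y' := by group
      _ = (h * (c * x' * c⁻¹)) * y' := by rw [h1]
      _ = h * ((c * x' * c⁻¹) * y') := by group
      _ = (c * x' * c⁻¹) * y' * h := h2
      _ = (c * x' * c⁻¹) * (y' * h) := by group
  intro u hu h hh
  have huC : u ∈ CH := by
    have h1 := hD hu
    rw [sup_eq_left.mpr hZC] at h1
    exact h1
  have h1 := (Subgroup.mem_inf.mp huC).2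
  rw [Subgroup.mem_centralizer_iff] at h1
  exact h1 h hh

end Cfsg.Agent.Lib.Helper42.QBaerU1
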