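-- helper42: S3999 module [NS-PHI] (for helper78): a non-solvable Frobenius complement has `5 ‖ |X|`
-- and exactly 24 elements of order 5 (from S3359).
import Mathlib
import Cfsg.Prelude.Def_Solvable
import Cfsg.Agent.S3359
import Cfsg.Agent.Lib.Helper35.FCNonsolvD
import Cfsg.Agent.Lib.Helper89.S3999SL25

set_option autoImplicit false

namespace Cfsg.Agent.Lib.Helper42.S3999NsPhi

open Cfsg.Agent.Lib.Helper35

/-- [NS-PHI], with the count in `SL(2,5)` as a hypothesis. -/
theorem nonsolvable_complement_phi_of {X : Type*} [Group X] [Finite X]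
    (hns : ¬ Group.IsSolvable X)
    (hFC : ∃ (L : Type) (_ : Group L) (_ : Finite L) (H : Subgroup L),
      Cfsg.IsFrobeniusComplement H ∧ Nonempty (X ≃* H))
    (h24 : Nat.card {g : Matrix.SpecialLinearGroup (Fin 2) (ZMod 5) // orderOf g = 5} = 24) :
    (Nat.card X).factorization 5 = 1 ∧ Nat.card {x : X // orderOf x = 5} = 24 := by
  obtain ⟨G₀, hG₀, hidx, S, M, hSM, hinf, hcomm, ⟨e⟩, _, hM⟩ := Cfsg.Agent.S3359.result hns hFC
  have hp5 : Nat.Prime 5 := by norm_num
  have hcS : Nat.card S = 120 := (Nat.card_congr e.toEquiv).trans Cfsg.Agent.S3378.card_SL25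
  have hcG₀ : Nat.card G₀ = 120 * Nat.card M := by
    have := FCD.card_sup S M hcomm hinf
    rw [hcS, hSM] at this
    exact this
  have hMpos : 0 < Nat.card M := Nat.card_pos
  have hM5 : ¬ 5 ∣ Nat.card M := by
    intro h
    have h1 : (5 : ℕ) ∣ Nat.gcd (Nat.card M) 30 := Nat.dvd_gcd h (by norm_num)
    rw [Nat.Coprime.gcd_eq_one hM] at h1
    norm_num at h1
  have hcop : (Nat.card M).Coprime 120 := by
    have c2 : (Nat.card M).Coprime 2 := Nat.Coprime.coprime_dvd_right (by norm_num) hM
    have e120 : (120 : ℕ) = 2 * 2 * 30 := by norm_num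
    rw [e120]
    exact (c2.mul_right c2).mul_right hM
  have hcX : Nat.card X = Nat.card G₀ * G₀.index := (Subgroup.card_mul_index G₀).symm
  have hidxpos : 0 < G₀.index := by rcases hidx with h | h <;> rw [h] <;> norm_num
  constructor
  · have hnd : ¬ 5 ∣ 24 * Nat.card M * G₀.index := by
      intro h
      rcases (Nat.Prime.dvd_mul hp5).mp h with h | h
      · rcases (Nat.Prime.dvd_mul hp5).mp h with h | h
        · norm_num at h
        · exact hM5 h
      · rcases hidx with h' | h' <;> rw [h'] at h <;> norm_num at h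
    have hne : 24 * Nat.card M * G₀.index ≠ 0 := by positivity
    have e5 : Nat.card X = 5 * (24 * Nat.card M * G₀.index) := by rw [hcX, hcG₀]; ring
    rw [e5, Nat.factorization_mul (by norm_num) hne, Finsupp.add_apply,
      Nat.Prime.factorization_self hp5, Nat.factorization_eq_zero_of_not_dvd hnd]
  · have hmemG₀ : ∀ x : X, orderOf x = 5 → x ∈ G₀ := by
      intro x hx
      rcases hidx with h | h
      · rw [Subgroup.index_eq_one] at h; rw [h]; trivial
      · have h2 : x ^ 2 ∈ G₀ := Subgroup.sq_mem_of_index_two h x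
        have hx5 : x ^ 5 = 1 := by rw [← hx]; exact pow_orderOf_eq_one x
        have hx6 : x = (x ^ 2) ^ 3 := by
          rw [← pow_mul]
          calc x = x ^ 5 * x := by rw [hx5, one_mul]
            _ = x ^ (2 * 3) := by rw [← pow_succ]
        rw [hx6]; exact Subgroup.pow_mem _ h2 3
    have hmemS : ∀ x : X, orderOf x = 5 → x ∈ S := by
      intro x hx
      have hg := hmemG₀ x hx
      rw [← hSM] at hg
      obtain ⟨s, hs, m, hm, rfl⟩ := FCD.exists_mul_of_mem_sup S M hcomm hg
      have hc : Commute s m := hcomm s hs m hm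
      have hp : (s * m) ^ 120 = 1 := by
        have h5 : (s * m) ^ 5 = 1 := by rw [← hx]; exact pow_orderOf_eq_one _
        calc (s * m) ^ 120 = ((s * m) ^ 5) ^ 24 := by rw [← pow_mul]
          _ = 1 := by rw [h5, one_pow]
      have hs120 : s ^ 120 = 1 := by
        have h1 := pow_card_eq_one' (G := S) (x := ⟨s, hs⟩)
        rw [hcS] at h1
        have h2 := congrArg (fun t : S => (t : X)) h1
        simpa only [Subgroup.coe_pow, Subgroup.coe_one] using h2
      rw [hc.mul_pow, hs120, one_mul] at hp
      have h1 : orderOf m ∣ 120 := orderOf_dvd_of_pow_eq_one hp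
      have h2 : orderOf m ∣ Nat.card M := Subgroup.orderOf_dvd_natCard M hm
      have h3 : orderOf m ∣ 1 := by
        have := Nat.dvd_gcd h2 h1
        rwa [Nat.Coprime.gcd_eq_one hcop] at this
      have h4 : m = 1 := orderOf_eq_one_iff.mp (Nat.dvd_one.mp h3)
      rw [h4, mul_one]; exact hs
    have e1 : {x : X // orderOf x = 5} ≃ {s : S // orderOf s = 5} :=
      { toFun := fun x => ⟨⟨x.1, hmemS x.1 x.2⟩, by rw [Subgroup.orderOf_mk]; exact x.2⟩
        invFun := fun s => ⟨s.1.1, by rw [Subgroup.orderOf_coe]; exact s.2⟩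
        left_inv := fun x => rfl
        right_inv := fun s => rfl }
    have e2 : {s : S // orderOf s = 5} ≃
        {g : Matrix.SpecialLinearGroup (Fin 2) (ZMod 5) // orderOf g = 5} :=
      { toFun := fun s => ⟨e s.1, by rw [MulEquiv.orderOf_eq]; exact s.2⟩
        invFun := fun g => ⟨e.symm g.1, by rw [MulEquiv.orderOf_eq]; exact g.2⟩
        left_inv := fun s => Subtype.ext (e.symm_apply_apply s.1)
        right_inv := fun g => Subtype.ext (e.apply_symm_apply g.1) }
    rw [Nat.card_congr (e1.trans e2), h24]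

/-- [NS-PHI] a non-solvable Frobenius complement has `5 ‖ |X|` and exactly 24 elements of order 5. -/
theorem nonsolvable_complement_phi {X : Type*} [Group X] [Finite X] (hns : ¬ Group.IsSolvable X)
    (hFC : ∃ (L : Type) (_ : Group L) (_ : Finite L) (H : Subgroup L),
      Cfsg.IsFrobeniusComplement H ∧ Nonempty (X ≃* H)) :
    (Nat.card X).factorization 5 = 1 ∧ Nat.card {x : X // orderOf x = 5} = 24 :=
  nonsolvable_complement_phi_of hns hFC Cfsg.Agent.Lib.Helper89.S3999.sl25_card_order_five

end Cfsg.Agent.Lib.Helper42.S3999NsPhi
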