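-- helper42: S3999 module [SOLV-NOTPHI] (for helper78): a finite solvable group with `5 ‖ |X|` never
-- has exactly 24 elements of order 5 (equivalently, six Sylow 5-subgroups).
import Mathlib
import Cfsg.Prelude.Def_Solvable
import Cfsg.Agent.S3867
import Cfsg.Agent.Lib.Helper1.MinimalNormal

set_option autoImplicit false

namespace Cfsg.Agent.Lib.Helper42.S3999SolvNotPhi

universe u

/-- If `5 ‖ |X|`, the elements of order 5 are partitioned by the Sylow 5-subgroups (each of order 5),
so their number is `4 * n₅`. -/
theorem card_orderOf_five_eq {X : Type*} [Group X] [Finite X]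
    (h5 : (Nat.card X).factorization 5 = 1) :
    Nat.card {x : X // orderOf x = 5} = 4 * Nat.card (Sylow 5 X) := by
  classical
  have : Fact (Nat.Prime 5) := ⟨by norm_num⟩
  have hcP : ∀ P : Sylow 5 X, Nat.card (P : Subgroup X) = 5 := fun P => by
    rw [Sylow.card_eq_multiplicity, h5, pow_one]
  have horder : ∀ (P : Sylow 5 X) (x : X), x ∈ (P : Subgroup X) → x ≠ 1 → orderOf x = 5 := by
    intro P x hx hx1
    have hd : orderOf x ∣ 5 := by
      have := Subgroup.orderOf_dvd_natCard (P : Subgroup X) hx
      rwa [hcP P] at this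
    rcases (Nat.dvd_prime (by norm_num)).mp hd with h | h
    · exact absurd (orderOf_eq_one_iff.mp h) hx1
    · exact h
  have hgen : ∀ (P : Sylow 5 X) (x : X), x ∈ (P : Subgroup X) → x ≠ 1 →
      Subgroup.zpowers x = (P : Subgroup X) := by
    intro P x hx hx1
    apply Subgroup.eq_of_le_of_card_ge (Subgroup.zpowers_le.mpr hx)
    rw [hcP P, Nat.card_zpowers, horder P x hx hx1]
  have hex : ∀ x : {x : X // orderOf x = 5}, ∃ P : Sylow 5 X, x.1 ∈ (P : Subgroup X) := by
    intro x
    have hp : IsPGroup 5 (Subgroup.zpowers x.1) :=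
      IsPGroup.of_card (n := 1) (by rw [Nat.card_zpowers, x.2, pow_one])
    obtain ⟨P, hP⟩ := hp.exists_le_sylow
    exact ⟨P, hP (Subgroup.mem_zpowers x.1)⟩
  let g : (Σ P : Sylow 5 X, {y : (P : Subgroup X) // y ≠ 1}) → {x : X // orderOf x = 5} :=
    fun s => ⟨(s.2.1 : X), horder s.1 s.2.1.1 s.2.1.2 (fun h => s.2.2 (Subtype.ext h))⟩
  have hg : Function.Bijective g := by
    constructor
    · rintro ⟨P, ⟨⟨y, hy⟩, hy1⟩⟩ ⟨P', ⟨⟨y', hy'⟩, hy1'⟩⟩ h
      have hyy : y = y' := congrArg Subtype.val h
      subst hyy
      have hy1X : y ≠ 1 := fun h => hy1 (Subtype.ext h)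
      have hPP : P = P' := Sylow.ext ((hgen P y hy hy1X).symm.trans (hgen P' y hy' hy1X))
      subst hPP
      rfl
    · intro x
      obtain ⟨P, hP⟩ := hex x
      have hx1 : x.1 ≠ 1 := by
        intro h
        have := x.2
        rw [h, orderOf_one] at this
        norm_num at this
      exact ⟨⟨P, ⟨⟨x.1, hP⟩, fun h => hx1 (congrArg Subtype.val h)⟩⟩, Subtype.ext rfl⟩
  have hfib : ∀ P : Sylow 5 X, Nat.card {y : (P : Subgroup X) // y ≠ 1} = 4 := by
    intro P
    have : Fintype (P : Subgroup X) := Fintype.ofFinite _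
    rw [Nat.card_eq_fintype_card, Fintype.card_subtype_compl, Fintype.card_subtype_eq,
      ← Nat.card_eq_fintype_card, hcP P]
  have : Fintype (Sylow 5 X) := Fintype.ofFinite _
  rw [← Nat.card_congr (Equiv.ofBijective g hg), Nat.card_sigma]
  simp only [hfib, Finset.sum_const, Finset.card_univ, smul_eq_mul, Nat.card_eq_fintype_card]
  ring

/-- A finite solvable group with `5 ‖ |X|` does not have exactly six Sylow 5-subgroups. -/
theorem card_sylow_five_ne_six_aux (n : ℕ) : ∀ (X : Type u) [Group X] [Finite X],
    Nat.card X = n → Group.IsSolvable X → (Nat.card X).factorization 5 = 1 →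
    Nat.card (Sylow 5 X) ≠ 6 := by
  induction n using Nat.strong_induction_on with
  | _ n ih =>
    intro X _ _ hn hs h5 h6
    have : Fact (Nat.Prime 5) := ⟨by norm_num⟩
    have hp5 : Nat.Prime 5 := by norm_num
    have : Nontrivial X := by
      rw [← Finite.one_lt_card_iff_nontrivial]
      by_contra hlt
      have h1 : Nat.card X = 1 := by
        have : 0 < Nat.card X := Nat.card_pos
        omega
      rw [h1] at h5
      simp at h5
    obtain ⟨r, N, hr, hNn, hN1, hNp, _, _, _⟩ :=
      Cfsg.Agent.Lib.Helper1.exists_normal_pSubgroup_of_isSolvable (G := X)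
    have := hNn
    have : Fact r.Prime := ⟨hr⟩
    obtain ⟨k, hk⟩ := IsPGroup.iff_card.mp hNp
    have hNcard1 : Nat.card N ≠ 1 := by
      intro h
      exact hN1 (Subgroup.card_eq_one.mp h)
    by_cases hr5 : r = 5
    · subst hr5
      obtain ⟨P, hP⟩ := hNp.exists_le_sylow
      have hcP : Nat.card (P : Subgroup X) = 5 := by
        rw [Sylow.card_eq_multiplicity, h5, pow_one]
      have hNP : N = (P : Subgroup X) := by
        apply Subgroup.eq_of_le_of_card_ge hP
        have hd : Nat.card N ∣ 5 := by
          rw [← hcP]; exact Subgroup.card_dvd_of_le hP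
        rcases (Nat.dvd_prime hp5).mp hd with h | h
        · exact absurd h hNcard1
        · rw [hcP, h]
      have hPn : (P : Subgroup X).Normal := hNP ▸ hNn
      have := Sylow.unique_of_normal P hPn
      have : Nat.card (Sylow 5 X) = 1 := Nat.card_unique
      omega
    · obtain ⟨Q⟩ : Nonempty (Sylow 5 X) := inferInstance
      have ha := Cfsg.Agent.S3867.card_sylow_quotient N Q
      have hb : Nat.card (Sylow 5 X) =
          (Subgroup.normalizer ((Q : Subgroup X) : Set X)).index :=
        Sylow.card_eq_index_normalizer Q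
      have hmul : (Subgroup.normalizer ((Q : Subgroup X) : Set X)).relIndex
            (N ⊔ Subgroup.normalizer ((Q : Subgroup X) : Set X)) *
          (N ⊔ Subgroup.normalizer ((Q : Subgroup X) : Set X)).index =
          (Subgroup.normalizer ((Q : Subgroup X) : Set X)).index :=
        Subgroup.relIndex_mul_index le_sup_right
      rw [Cfsg.Agent.S3867.relIndex_sup_of_normal, ← ha, ← hb, h6] at hmul
      have hdvd : (Subgroup.normalizer ((Q : Subgroup X) : Set X)).relIndex N ∣ r ^ k := by
        rw [← hk]; exact Subgroup.relIndex_dvd_card _ _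
      -- the quotient
      have hcardq : Nat.card X = Nat.card (X ⧸ N) * Nat.card N :=
        Subgroup.card_eq_card_quotient_mul_card_subgroup N
      have hqpos : 0 < Nat.card (X ⧸ N) := Nat.card_pos
      have hNpos : 0 < Nat.card N := Nat.card_pos
      have hlt : Nat.card (X ⧸ N) < n := by
        rw [← hn, hcardq]
        have : 2 ≤ Nat.card N := by omega
        nlinarith
      have hsq : Group.IsSolvable (X ⧸ N) :=
        Group.isSolvable_of_surjective (QuotientGroup.mk'_surjective N)
      have hnd : ¬ 5 ∣ r ^ k := by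
        intro h
        have := hp5.dvd_of_dvd_pow h
        exact hr5 ((Nat.prime_dvd_prime_iff_eq hp5 hr).mp this).symm
      have h5q : (Nat.card (X ⧸ N)).factorization 5 = 1 := by
        have := h5
        rw [hcardq, Nat.factorization_mul hqpos.ne' hNpos.ne', Finsupp.add_apply, hk,
          Nat.factorization_eq_zero_of_not_dvd hnd, add_zero] at this
        exact this
      have hne := ih _ hlt (X ⧸ N) rfl hsq h5q
      have hmod : Nat.card (Sylow 5 (X ⧸ N)) ≡ 1 [MOD 5] := card_sylow_modEq_one 5 (X ⧸ N)
      -- arithmetic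
      have key : ∀ a b : ℕ, b * a = 6 → a ≡ 1 [MOD 5] → a ≠ 6 → b = 6 := by
        intro a b hab hmod hne
        have ha6 : a ∣ 6 := ⟨b, by rw [← hab]; ring⟩
        have hale : a ≤ 6 := Nat.le_of_dvd (by norm_num) ha6
        have ha1 : a = 1 := by
          interval_cases a
          · exfalso; revert hmod; decide
          · rfl
          · exfalso; revert hmod; decide
          · exfalso; revert hmod; decide
          · exfalso; revert hmod; decide
          · exfalso; revert hmod; decide
          · exfalso; exact hne rfl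
        rw [ha1, mul_one] at hab
        exact hab
      have hb6 := key _ _ hmul hmod hne
      rw [hb6] at hdvd
      have h2 : 2 ∣ r ^ k := Dvd.dvd.trans (by norm_num) hdvd
      have h3 : 3 ∣ r ^ k := Dvd.dvd.trans (by norm_num) hdvd
      have e2 : 2 = r := (Nat.prime_dvd_prime_iff_eq Nat.prime_two hr).mp
        (Nat.prime_two.dvd_of_dvd_pow h2)
      have e3 : 3 = r := (Nat.prime_dvd_prime_iff_eq Nat.prime_three hr).mp
        (Nat.prime_three.dvd_of_dvd_pow h3)
      omega

/-- [SOLV-NOTPHI] -/
theorem solvable_complement_not_phi {X : Type*} [Group X] [Finite X] (hs : Group.IsSolvable X)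
    (_hFC : ∃ (L : Type) (_ : Group L) (_ : Finite L) (H : Subgroup L),
      Cfsg.IsFrobeniusComplement H ∧ Nonempty (X ≃* H)) :
    ¬ ((Nat.card X).factorization 5 = 1 ∧ Nat.card {x : X // orderOf x = 5} = 24) := by
  rintro ⟨h5, h24⟩
  have h := card_orderOf_five_eq h5
  rw [h24] at h
  exact card_sylow_five_ne_six_aux _ X rfl hs h5 (by omega)

end Cfsg.Agent.Lib.Helper42.S3999SolvNotPhi
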