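import Mathlib

set_option autoImplicit false

namespace Cfsg.Agent.Lib.Helper42.S4707

theorem count_order_p {G : Type*} [Group G] [Fintype G] [DecidableEq G] {p : ℕ} [Fact p.Prime]
    (P : Sylow p G) (hP : Nat.card (P : Subgroup G) = p)
    (hN : Nat.card (Subgroup.normalizer ((P : Subgroup G) : Set G)) = 2 * p)
    (hC : ∀ x : G, orderOf x = p → ∀ y : G, Commute x y → y ∈ Subgroup.zpowers x) :
    (∀ g : G, p ∣ orderOf g → orderOf g = p) ∧
    2 * p * (Finset.univ.filter fun g : G => orderOf g = p).card = (p - 1) * Fintype.card G := by
  classical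
  have hp : p.Prime := Fact.out
  have hcardP : p ^ (Nat.card G).factorization p = p := by rw [← P.card_eq_multiplicity, hP]
  have hcardQ : ∀ Q : Sylow p G, Nat.card (Q : Subgroup G) = p := by
    intro Q; rw [Q.card_eq_multiplicity, hcardP]
  constructor
  · intro g hg
    have hfin : IsOfFinOrder g := isOfFinOrder_of_finite g
    have hxo : orderOf (g ^ (orderOf g / p)) = p :=
      orderOf_pow_orderOf_div (hfin.orderOf_pos.ne') hg
    have hmem := hC _ hxo g ((Commute.refl g).pow_left _)
    have hdvd : orderOf g ∣ p := by
      have h1 := orderOf_dvd_natCard (⟨g, hmem⟩ : Subgroup.zpowers (g ^ (orderOf g / p)))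
      rw [Nat.card_zpowers, hxo, Subgroup.orderOf_mk] at h1
      exact h1
    rcases (Nat.dvd_prime hp).mp hdvd with h | h
    · rw [h] at hg
      exact absurd (Nat.le_of_dvd one_pos hg) (by have := hp.two_le; omega)
    · exact h
  · have hsyl : ∀ g : G, orderOf g = p →
        ∃ Q : Sylow p G, (Q : Subgroup G) = Subgroup.zpowers g := by
      intro g hg
      exact ⟨Sylow.ofCard (Subgroup.zpowers g) (by rw [Nat.card_zpowers, hg, hcardP]), rfl⟩
    choose! f hf using hsyl
    have key : ∀ Q : Sylow p G,
        ((Finset.univ.filter fun g : G => orderOf g = p).filter (fun g => f g = Q)).card = p - 1 := by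
      intro Q
      have hset : ((Finset.univ.filter fun g : G => orderOf g = p).filter (fun g => f g = Q))
          = (Finset.univ.filter (fun g : G => g ∈ (Q : Subgroup G))).erase 1 := by
        ext g
        simp only [Finset.mem_filter, Finset.mem_univ, true_and, Finset.mem_erase]
        constructor
        · rintro ⟨hg, hQ⟩
          refine ⟨fun h1 => ?_, ?_⟩
          · rw [h1, orderOf_one] at hg
            exact hp.one_lt.ne hg
          · rw [← hQ, hf g hg]
            exact Subgroup.mem_zpowers g
        · rintro ⟨hne, hgQ⟩
          have hpow : g ^ p = 1 := by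
            have h1 : (⟨g, hgQ⟩ : (Q : Subgroup G)) ^ Nat.card (Q : Subgroup G) = 1 := pow_card_eq_one'
            rw [hcardQ Q] at h1
            exact congrArg Subtype.val h1
          have hg : orderOf g = p := orderOf_eq_prime hpow hne
          refine ⟨hg, ?_⟩
          apply Sylow.ext
          rw [hf g hg]
          apply Subgroup.eq_of_le_of_card_ge
          · rw [Subgroup.zpowers_le]; exact hgQ
          · rw [Nat.card_zpowers, hg, hcardQ Q]
      have : (Finset.univ.filter (fun g : G => g ∈ (Q : Subgroup G))).card = p := by
        have h := hcardQ Q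
        rw [Nat.card_eq_fintype_card, Fintype.card_subtype] at h
        exact h
      rw [hset, Finset.card_erase_of_mem (by simp), this]
    have hfib := Finset.card_eq_sum_card_fiberwise (f := f)
      (s := Finset.univ.filter fun g : G => orderOf g = p) (t := Finset.univ)
      (fun _ _ => Finset.mem_univ _)
    rw [Finset.sum_congr rfl (fun Q _ => key Q), Finset.sum_const, smul_eq_mul,
      Finset.card_univ] at hfib
    have hidx : Fintype.card (Sylow p G) = (Subgroup.normalizer ((P : Subgroup G) : Set G)).index := by
      rw [← Nat.card_eq_fintype_card]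
      exact Sylow.card_eq_index_normalizer P
    have hmul := Subgroup.card_mul_index (Subgroup.normalizer ((P : Subgroup G) : Set G))
    rw [hN, Nat.card_eq_fintype_card] at hmul
    rw [hfib, hidx, ← hmul]
    ring

end Cfsg.Agent.Lib.Helper42.S4707
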