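import Mathlib

set_option autoImplicit false

namespace Cfsg.Agent.Lib.Helper42.S4707

theorem a_eq_one (a p s m : ℕ) (ha : 0 < a) (hp : p = 2 * a ^ 2 + 2 * a + 1)
    (hs : 2 * s = (p - 1) * (p - 2))
    (hm : m = a * (2 * a + 1) ∨ m = (a + 1) * (2 * a + 1)) (hdvd : m ∣ s) : a = 1 := by
  -- s = a (a+1) (2a^2+2a-1)
  have hp1 : p - 1 = 2 * a * (a + 1) := by rw [hp]; simp only [Nat.add_sub_cancel]; ring
  have hp2 : p - 2 + 1 = 2 * a * (a + 1) := by omega
  have h21 : (2 * a + 1) ∣ s := by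
    rcases hm with rfl | rfl
    · exact dvd_trans (dvd_mul_left _ _) hdvd
    · exact dvd_trans (dvd_mul_left _ _) hdvd
  -- 2 s = 2a(a+1) (2a(a+1) - 1)
  have hcop1 : Nat.Coprime (2 * a + 1) (2 * a * (a + 1)) := by
    have h1 : Nat.Coprime (2 * a + 1) (2 * a) := by
      rw [Nat.coprime_comm]; simp
    have h2 : Nat.Coprime (2 * a + 1) (a + 1) := by
      have : 2 * a + 1 = a + (a + 1) := by ring
      rw [this]; simp
    exact Nat.Coprime.mul_right h1 h2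
  have h2s : (2 * a + 1) ∣ (p - 1) * (p - 2) := by rw [← hs]; exact dvd_trans h21 (dvd_mul_left _ _)
  rw [hp1] at h2s
  have h3 : (2 * a + 1) ∣ (p - 2) := (Nat.Coprime.dvd_mul_left hcop1).mp h2s
  -- 2 (p - 2) = (2a+1)^2 - 3
  have h4 : 2 * (p - 2) + 3 = (2 * a + 1) ^ 2 := by
    have : p - 2 = 2 * a * (a + 1) - 1 := by omega
    have hpos : 1 ≤ 2 * a * (a + 1) := by nlinarith
    rw [this]
    zify [hpos]
    ring
  have h5 : (2 * a + 1) ∣ 3 := by
    have h6 : (2 * a + 1) ∣ 2 * (p - 2) + 3 := by rw [h4]; exact dvd_pow_self _ (by norm_num)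
    exact (Nat.dvd_add_right (dvd_trans h3 (dvd_mul_left _ _))).mp h6
  have h7 : 2 * a + 1 ≤ 3 := Nat.le_of_dvd (by norm_num) h5
  omega

end Cfsg.Agent.Lib.Helper42.S4707
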