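import Mathlib

set_option autoImplicit false

namespace Cfsg.Agent.Lib.Helper42.S4707

theorem krein_arith (a : ℕ) (ha : 0 < a) (e₀ e₁ e₂ : ℝ)
    (h0 : e₀ * (2 * (2 * (a : ℝ) ^ 2 + 2 * a + 1)) = 2 * (a : ℝ) ^ 2 + 2 * a)
    (h1 : e₀ + ((a : ℝ) * (2 * a + 1)) * e₁ + (((a : ℝ) + 1) * (2 * a + 1)) * e₂ = 0)
    (h2 : e₀ ^ 2 + ((a : ℝ) * (2 * a + 1)) * e₁ ^ 2 + (((a : ℝ) + 1) * (2 * a + 1)) * e₂ ^ 2 = e₀) :
    0 < e₀ ^ 3 + ((a : ℝ) * (2 * a + 1)) * e₁ ^ 3 + (((a : ℝ) + 1) * (2 * a + 1)) * e₂ ^ 3 := by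
  have hA : (1 : ℝ) ≤ (a : ℝ) := by exact_mod_cast ha
  generalize (a : ℝ) = A at *
  have hA0 : 0 < A := by linarith
  have hD : 0 < 2 * A ^ 2 + 2 * A + 1 := by positivity
  have hT : 0 < 2 * A + 1 := by positivity
  have hA1 : 0 < A + 1 := by positivity
  have he0 : e₀ = A * (A + 1) / (2 * A ^ 2 + 2 * A + 1) := by
    field_simp
    linarith [h0]
  have he2 : e₂ = -(e₀ + A * (2 * A + 1) * e₁) / ((A + 1) * (2 * A + 1)) := by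
    field_simp
    linarith [h1]
  -- the quadratic equation for `e₁`
  have key : ((2 * A + 1) * (2 * A ^ 2 + 2 * A + 1) * e₁ + (A + 1) ^ 2) *
      ((2 * A + 1) ^ 2 * (2 * A ^ 2 + 2 * A + 1) * e₁ - (2 * A ^ 2 + A + 1) * (A + 1)) = 0 := by
    have h2' := h2
    rw [he2, he0] at h2'
    field_simp at h2'
    linear_combination h2'
  rcases mul_eq_zero.mp key with h | h
  · have he1 : e₁ = -(A + 1) ^ 2 / ((2 * A + 1) * (2 * A ^ 2 + 2 * A + 1)) := by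
      field_simp
      linarith [h]
    rw [he2, he0, he1]
    have : A * (A + 1) / (2 * A ^ 2 + 2 * A + 1) ^ 3 / (2 * A + 1) ^ 2 *
        (4 * A ^ 6 + 12 * A ^ 5 + 8 * A ^ 4 - 4 * A ^ 3 - 9 * A ^ 2 - 5 * A - 1) =
        (A * (A + 1) / (2 * A ^ 2 + 2 * A + 1)) ^ 3 +
        A * (2 * A + 1) * (-(A + 1) ^ 2 / ((2 * A + 1) * (2 * A ^ 2 + 2 * A + 1))) ^ 3 +
        (A + 1) * (2 * A + 1) * (-(A * (A + 1) / (2 * A ^ 2 + 2 * A + 1) +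
          A * (2 * A + 1) * (-(A + 1) ^ 2 / ((2 * A + 1) * (2 * A ^ 2 + 2 * A + 1)))) /
          ((A + 1) * (2 * A + 1))) ^ 3 := by
      field_simp
      ring
    rw [← this]
    have hpoly : 0 < 4 * A ^ 6 + 12 * A ^ 5 + 8 * A ^ 4 - 4 * A ^ 3 - 9 * A ^ 2 - 5 * A - 1 := by
      obtain ⟨b, rfl⟩ : ∃ b, A = 1 + b := ⟨A - 1, by ring⟩
      have hb : 0 ≤ b := by linarith
      have : 4 * (1 + b) ^ 6 + 12 * (1 + b) ^ 5 + 8 * (1 + b) ^ 4 - 4 * (1 + b) ^ 3 - 9 * (1 + b) ^ 2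
          - 5 * (1 + b) - 1 = 5 + 81 * b + 207 * b ^ 2 + 228 * b ^ 3 + 128 * b ^ 4 + 36 * b ^ 5
          + 4 * b ^ 6 := by ring
      rw [this]
      positivity
    positivity
  · have he1 : e₁ = (2 * A ^ 2 + A + 1) * (A + 1) / ((2 * A + 1) ^ 2 * (2 * A ^ 2 + 2 * A + 1)) := by
      field_simp
      linarith [h]
    rw [he2, he0, he1]
    have : A * (A + 1) / (2 * A ^ 2 + 2 * A + 1) ^ 3 / (2 * A + 1) ^ 5 *
        (1 + 5 * A + 9 * A ^ 2 + 10 * A ^ 3 + 36 * A ^ 4 + 132 * A ^ 5 + 252 * A ^ 6 + 264 * A ^ 7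
          + 144 * A ^ 8 + 32 * A ^ 9) =
        (A * (A + 1) / (2 * A ^ 2 + 2 * A + 1)) ^ 3 +
        A * (2 * A + 1) * ((2 * A ^ 2 + A + 1) * (A + 1) /
          ((2 * A + 1) ^ 2 * (2 * A ^ 2 + 2 * A + 1))) ^ 3 +
        (A + 1) * (2 * A + 1) * (-(A * (A + 1) / (2 * A ^ 2 + 2 * A + 1) +
          A * (2 * A + 1) * ((2 * A ^ 2 + A + 1) * (A + 1) /
            ((2 * A + 1) ^ 2 * (2 * A ^ 2 + 2 * A + 1)))) /
          ((A + 1) * (2 * A + 1))) ^ 3 := by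
      field_simp
      ring
    rw [← this]
    positivity

end Cfsg.Agent.Lib.Helper42.S4707
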