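import Mathlib

set_option autoImplicit false

namespace Cfsg.Agent.Lib.Helper42.S4707

theorem moment_argument {G : Type*} [Fintype G] [DecidableEq G] (p : ℕ) (hp : 3 < p) (c : G → ℤ)
    (S : Finset G) (b : ℤ) (hb : 1 ≤ b) (h1 : ∑ g, c g = 0)
    (h2 : ∑ g, (c g) ^ 2 = (Fintype.card G : ℤ))
    (h3 : ∑ g, (c g) ^ 3 = b * (Fintype.card G : ℤ))
    (hS : ∀ g ∈ S, c g = -1) (hle : ∀ g, c g ≤ (p : ℤ) - 1)
    (hcard : 2 * p * S.card = (p - 1) * Fintype.card G) :
    (∀ g, g ∉ S → c g = 0 ∨ c g = 1 ∨ c g = (p : ℤ) - 1) ∧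
    p * (p - 1) * (p - 2) * (Finset.univ.filter fun g => c g = (p : ℤ) - 1).card =
      Fintype.card G := by
  obtain ⟨q, rfl⟩ : ∃ q, p = q + 4 := ⟨p - 4, by omega⟩
  have e1 : q + 4 - 1 = q + 3 := by omega
  have e2 : q + 4 - 2 = q + 2 := by omega
  rw [e1] at hcard
  rw [e1, e2]
  set P : ℤ := ((q + 4 : ℕ) : ℤ) with hP
  have hPq : P = (q : ℤ) + 4 := by rw [hP]; push_cast; ring
  set N : ℤ := (Fintype.card G : ℤ) with hN
  have hN0 : 0 ≤ N := by positivity
  have hq0 : (0 : ℤ) ≤ q := by positivity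
  have hcardZ : 2 * P * (S.card : ℤ) = (P - 1) * N := by
    have := congrArg (fun n : ℕ => (n : ℤ)) hcard
    simp only [Nat.cast_mul, Nat.cast_ofNat, Nat.cast_add] at this
    rw [hPq]
    linarith [this]
  -- the function `t`
  have ht : ∀ g, (c g - 1) * c g * (P - 1 - c g) = P * (c g) ^ 2 - (c g) ^ 3 - (P - 1) * c g := by
    intro g; ring
  have hsumt : ∑ g, (c g - 1) * c g * (P - 1 - c g) = (P - b) * N := by
    simp only [ht, Finset.sum_sub_distrib, ← Finset.mul_sum, h1, h2, h3]
    ring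
  have hsumS : ∑ g ∈ S, (c g - 1) * c g * (P - 1 - c g) = 2 * P * (S.card : ℤ) := by
    rw [Finset.sum_congr rfl (fun g hg => by rw [hS g hg])]
    rw [Finset.sum_const, nsmul_eq_mul]
    ring
  have hsplit : ∀ f : G → ℤ, ∑ g, f g = ∑ g ∈ S, f g + ∑ g ∈ Sᶜ, f g := fun f =>
    (Finset.sum_add_sum_compl S f).symm
  have hsumC : ∑ g ∈ Sᶜ, (c g - 1) * c g * (P - 1 - c g) = (1 - b) * N := by
    have := hsplit (fun g => (c g - 1) * c g * (P - 1 - c g))
    rw [hsumt, hsumS, hcardZ] at this
    linarith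
  have hnonneg : ∀ g ∈ Sᶜ, 0 ≤ (c g - 1) * c g * (P - 1 - c g) := by
    intro g _
    have h1 : 0 ≤ (c g - 1) * c g := by
      rcases le_or_gt (c g) 0 with h | h
      · nlinarith
      · have : 1 ≤ c g := h
        nlinarith
    have h2 : 0 ≤ P - 1 - c g := by have := hle g; linarith
    exact mul_nonneg h1 h2
  have hzero : ∑ g ∈ Sᶜ, (c g - 1) * c g * (P - 1 - c g) = 0 := by
    apply le_antisymm
    · rw [hsumC]
      nlinarith
    · exact Finset.sum_nonneg hnonneg
  have hall := (Finset.sum_eq_zero_iff_of_nonneg hnonneg).mp hzero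
  have hmain : ∀ g, g ∉ S → c g = 0 ∨ c g = 1 ∨ c g = P - 1 := by
    intro g hg
    have := hall g (Finset.mem_compl.mpr hg)
    rcases mul_eq_zero.mp this with h | h
    · rcases mul_eq_zero.mp h with h | h
      · right; left; linarith
      · left; exact h
    · right; right; linarith
  refine ⟨hmain, ?_⟩
  -- the count
  have hfilter : (Finset.univ.filter fun g => c g = P - 1) = Sᶜ.filter fun g => c g = P - 1 := by
    ext g
    simp only [Finset.mem_filter, Finset.mem_univ, true_and, Finset.mem_compl]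
    constructor
    · intro h
      refine ⟨fun hg => ?_, h⟩
      have := hS g hg
      rw [this] at h
      rw [hPq] at h
      have : (0 : ℤ) ≤ q := by positivity
      linarith
    · exact fun h => h.2
  have hsq : ∑ g ∈ Sᶜ, ((c g) ^ 2 - c g) =
      (P - 1) * (P - 2) * ((Finset.univ.filter fun g => c g = P - 1).card : ℤ) := by
    rw [hfilter, Finset.card_filter]
    push_cast
    rw [Finset.mul_sum]
    apply Finset.sum_congr rfl
    intro g hg
    rcases hmain g (Finset.mem_compl.mp hg) with h | h | h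
    · have hne : ¬ c g = P - 1 := by
        rw [h, hPq]
        intro h'
        linarith
      rw [if_neg hne, h]; ring
    · have hne : ¬ c g = P - 1 := by
        rw [h, hPq]
        intro h'
        linarith
      rw [if_neg hne, h]; ring
    · rw [if_pos h, h]; ring
  have hsq2 : ∑ g ∈ Sᶜ, ((c g) ^ 2 - c g) = N - 2 * (S.card : ℤ) := by
    have h := hsplit (fun g => (c g) ^ 2 - c g)
    have hSs : ∑ g ∈ S, ((c g) ^ 2 - c g) = 2 * (S.card : ℤ) := by
      rw [Finset.sum_congr rfl (fun g hg => by rw [hS g hg])]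
      rw [Finset.sum_const, nsmul_eq_mul]
      ring
    rw [Finset.sum_sub_distrib, h1, h2, hSs] at h
    linarith
  have hfinal : P * (P - 1) * (P - 2) * ((Finset.univ.filter fun g => c g = P - 1).card : ℤ) = N := by
    have := hsq.symm.trans hsq2
    nlinarith [this, hcardZ]
  have : (((q + 4) * (q + 3) * (q + 2) * (Finset.univ.filter fun g => c g = P - 1).card : ℕ) : ℤ)
      = ((Fintype.card G : ℕ) : ℤ) := by
    rw [← hN, ← hfinal, hPq]
    push_cast
    ring
  exact_mod_cast this

end Cfsg.Agent.Lib.Helper42.S4707
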