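import Mathlib

set_option autoImplicit false

namespace Cfsg.Agent.Lib.Helper42.S4707

open MulAction

/-- third orbit of a rank 3 stabiliser (same argument as `Helper12.rank3_cases`, restated here so
that this file only needs Mathlib) -/
theorem rank3_third_orbit {G : Type*} [Group G] {Ω : Type*} [MulAction G Ω] [Finite Ω] (a b : Ω)
    (hab : b ≠ a)
    (hrank : Nat.card (orbitRel.Quotient (stabilizer G a) Ω) = 3) :
    ∃ c : Ω, c ≠ a ∧ c ∉ orbit (stabilizer G a) b ∧
      ∀ y, y = a ∨ y ∈ orbit (stabilizer G a) b ∨ y ∈ orbit (stabilizer G a) c := by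
  classical
  have : Fintype (orbitRel.Quotient (stabilizer G a) Ω) := Fintype.ofFinite _
  rw [Nat.card_eq_fintype_card] at hrank
  have horba : ∀ y, y ∈ orbit (stabilizer G a) a → y = a := by
    rintro y ⟨h, rfl⟩
    exact h.2
  let qa : orbitRel.Quotient (stabilizer G a) Ω := Quotient.mk'' a
  let qb : orbitRel.Quotient (stabilizer G a) Ω := Quotient.mk'' b
  have hqab : qa ≠ qb := by
    intro h
    have h1 : b ∈ orbit (stabilizer G a) a := by
      have := Quotient.exact' h.symm
      exact this
    exact hab (horba b h1)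
  have hcard2 : ({qa, qb} : Finset (orbitRel.Quotient (stabilizer G a) Ω)).card = 2 :=
    Finset.card_pair hqab
  obtain ⟨qc, hqc⟩ : ∃ qc, qc ∉ ({qa, qb} : Finset (orbitRel.Quotient (stabilizer G a) Ω)) := by
    by_contra hcon
    push Not at hcon
    have : ({qa, qb} : Finset (orbitRel.Quotient (stabilizer G a) Ω)) = Finset.univ :=
      Finset.eq_univ_iff_forall.mpr hcon
    rw [this, Finset.card_univ] at hcard2
    omega
  obtain ⟨c, hc⟩ : ∃ c, (Quotient.mk'' c : orbitRel.Quotient (stabilizer G a) Ω) = qc :=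
    Quotient.exists_rep qc
  subst hc
  have hca : (Quotient.mk'' c : orbitRel.Quotient (stabilizer G a) Ω) ≠ qa := by
    intro h
    apply hqc
    rw [h]
    simp
  have hcb : (Quotient.mk'' c : orbitRel.Quotient (stabilizer G a) Ω) ≠ qb := by
    intro h
    apply hqc
    rw [h]
    simp
  have hcard3 : ({Quotient.mk'' c, qa, qb} :
      Finset (orbitRel.Quotient (stabilizer G a) Ω)).card = 3 := by
    rw [Finset.card_insert_of_notMem hqc, hcard2]
  have huniv : ({Quotient.mk'' c, qa, qb} :
      Finset (orbitRel.Quotient (stabilizer G a) Ω)) = Finset.univ := by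
    apply Finset.eq_univ_of_card
    rw [hcard3, hrank]
  refine ⟨c, ?_, ?_, ?_⟩
  · intro h
    apply hca
    rw [h]
  · intro h
    apply hcb
    exact Quotient.sound' h
  · intro y
    have hy : (Quotient.mk'' y : orbitRel.Quotient (stabilizer G a) Ω) ∈
        ({Quotient.mk'' c, qa, qb} : Finset (orbitRel.Quotient (stabilizer G a) Ω)) := by
      rw [huniv]; exact Finset.mem_univ _
    rw [Finset.mem_insert, Finset.mem_insert, Finset.mem_singleton] at hy
    rcases hy with h | h | h
    · right; right
      exact Quotient.exact' h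
    · left
      exact horba y (Quotient.exact' h)
    · right; left
      exact Quotient.exact' h

theorem orbit_sum {G : Type*} [Group G] [Fintype G] {Ω : Type*} [Fintype Ω] [DecidableEq Ω]
    [MulAction G Ω] (a₀ : Ω) (k l : ℕ) (hkl : k ≠ l)
    (hcard : Fintype.card Ω = 1 + k + l)
    (hrank : Nat.card (MulAction.orbitRel.Quotient (MulAction.stabilizer G a₀) Ω) = 3)
    (hsub : ∀ b : Ω, b ≠ a₀ → Nat.card (MulAction.orbit (MulAction.stabilizer G a₀) b) = k ∨
      Nat.card (MulAction.orbit (MulAction.stabilizer G a₀) b) = l) :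
    ∃ b c : Ω, ∀ f : Ω → ℝ, (∀ h : G, h • a₀ = a₀ → ∀ w, f (h • w) = f w) →
      ∑ w, f w = f a₀ + k * f b + l * f c := by
  classical
  -- there is a point other than `a₀`
  obtain ⟨b, hb⟩ : ∃ b : Ω, b ≠ a₀ := by
    by_contra hcon
    push Not at hcon
    have hss : Subsingleton (orbitRel.Quotient (stabilizer G a₀) Ω) := by
      constructor
      intro x y
      induction x using Quotient.inductionOn' with
      | h x =>
        induction y using Quotient.inductionOn' with
        | h y => rw [hcon x, hcon y]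
    have h1 := Nat.card_of_subsingleton
      (Quotient.mk'' a₀ : orbitRel.Quotient (stabilizer G a₀) Ω)
    exact absurd (hrank.symm.trans h1) (by norm_num)
  obtain ⟨c, hca, hcb, hall⟩ := rank3_third_orbit a₀ b hb hrank
  have horba : ∀ y, a₀ ∈ orbit (stabilizer G a₀) y → y = a₀ := by
    rintro y ⟨h, hh⟩
    have h1 : (h : G) • y = a₀ := hh
    have h2 : (h : G) • a₀ = a₀ := h.2
    exact smul_left_cancel (h : G) (h1.trans h2.symm)
  let Ob : Finset Ω := Finset.univ.filter (fun y => y ∈ orbit (stabilizer G a₀) b)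
  let Oc : Finset Ω := Finset.univ.filter (fun y => y ∈ orbit (stabilizer G a₀) c)
  have hcardb : Nat.card (orbit (stabilizer G a₀) b) = Ob.card := by
    rw [Nat.card_eq_fintype_card]
    exact Fintype.card_subtype _
  have hcardc : Nat.card (orbit (stabilizer G a₀) c) = Oc.card := by
    rw [Nat.card_eq_fintype_card]
    exact Fintype.card_subtype _
  have ha_b : a₀ ∉ Ob := fun h => hb (horba b (Finset.mem_filter.mp h).2)
  have ha_c : a₀ ∉ Oc := fun h => hca (horba c (Finset.mem_filter.mp h).2)
  have hdisj : Disjoint Ob Oc := by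
    rw [Finset.disjoint_left]
    intro y hyb hyc
    have h1 : y ∈ orbit (stabilizer G a₀) b := (Finset.mem_filter.mp hyb).2
    have h2 : y ∈ orbit (stabilizer G a₀) c := (Finset.mem_filter.mp hyc).2
    apply hcb
    have h3 : orbit (stabilizer G a₀) y = orbit (stabilizer G a₀) b := orbit_eq_iff.mpr h1
    have h4 : orbit (stabilizer G a₀) y = orbit (stabilizer G a₀) c := orbit_eq_iff.mpr h2
    rw [← h3, h4]
    exact mem_orbit_self c
  have ha_bc : a₀ ∉ Ob ∪ Oc := by
    rw [Finset.mem_union]
    rintro (h | h)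
    · exact ha_b h
    · exact ha_c h
  have huniv : (Finset.univ : Finset Ω) = insert a₀ (Ob ∪ Oc) := by
    ext y
    simp only [Finset.mem_univ, Finset.mem_insert, Finset.mem_union, true_iff]
    rcases hall y with h | h | h
    · left; exact h
    · right; left; exact Finset.mem_filter.mpr ⟨Finset.mem_univ _, h⟩
    · right; right; exact Finset.mem_filter.mpr ⟨Finset.mem_univ _, h⟩
  have hsum_card : 1 + k + l = 1 + Ob.card + Oc.card := by
    rw [← hcard, ← Finset.card_univ, huniv, Finset.card_insert_of_notMem ha_bc,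
      Finset.card_union_of_disjoint hdisj]
    ring
  have hsum : ∀ f : Ω → ℝ, (∀ h : G, h • a₀ = a₀ → ∀ w, f (h • w) = f w) →
      ∑ w, f w = f a₀ + Ob.card * f b + Oc.card * f c := by
    intro f hf
    have h1 : ∀ w ∈ Ob, f w = f b := by
      intro w hw
      obtain ⟨h, rfl⟩ := (Finset.mem_filter.mp hw).2
      exact hf (h : G) h.2 b
    have h2 : ∀ w ∈ Oc, f w = f c := by
      intro w hw
      obtain ⟨h, rfl⟩ := (Finset.mem_filter.mp hw).2
      exact hf (h : G) h.2 c
    rw [huniv, Finset.sum_insert ha_bc, Finset.sum_union hdisj, Finset.sum_congr rfl h1,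
      Finset.sum_congr rfl h2, Finset.sum_const, Finset.sum_const, nsmul_eq_mul, nsmul_eq_mul]
    ring
  rcases hsub b hb with hbk | hbl <;> rcases hsub c hca with hck | hcl
  · exfalso
    rw [hcardb] at hbk
    rw [hcardc] at hck
    omega
  · refine ⟨b, c, fun f hf => ?_⟩
    rw [hsum f hf, ← hcardb, ← hcardc, hbk, hcl]
  · refine ⟨c, b, fun f hf => ?_⟩
    rw [hsum f hf, ← hcardb, ← hcardc, hbl, hck]
    ring
  · exfalso
    rw [hcardb] at hbl
    rw [hcardc] at hcl
    omega

end Cfsg.Agent.Lib.Helper42.S4707
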