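import Mathlib

set_option autoImplicit false

namespace Cfsg.Agent.Lib.Helper42.S4707

/-- sum of squares for an invariant symmetric idempotent kernel -/
theorem sos_aux {G : Type*} [Group G] [Fintype G] {X : Type*} [Fintype X]
    [MulAction G X] (F : X → X → ℝ) (hinv : ∀ (g : G) (x y : X), F (g • x) (g • y) = F x y)
    (hsymm : ∀ x y, F x y = F y x) (hidem : ∀ x z, ∑ y, F x y * F y z = F x z) (x₀ : X) :
    (∑ g : G, F x₀ (g • x₀)) ^ 2 ≤ (Fintype.card G : ℝ) * ∑ u : G, ∑ y, F y (u • y) := by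
  have hterm : (∑ g : G, F x₀ (g • x₀)) ^ 2 ≤ ∑ y, ∑ x, (∑ g : G, F x (g • y)) ^ 2 := by
    have h1 : (∑ g : G, F x₀ (g • x₀)) ^ 2 ≤ ∑ x, (∑ g : G, F x (g • x₀)) ^ 2 :=
      Finset.single_le_sum (f := fun x => (∑ g : G, F x (g • x₀)) ^ 2)
        (fun x _ => sq_nonneg _) (Finset.mem_univ x₀)
    have h2 : ∑ x, (∑ g : G, F x (g • x₀)) ^ 2 ≤ ∑ y, ∑ x, (∑ g : G, F x (g • y)) ^ 2 :=
      Finset.single_le_sum (f := fun y => ∑ x, (∑ g : G, F x (g • y)) ^ 2)
        (fun y _ => Finset.sum_nonneg (fun x _ => sq_nonneg _)) (Finset.mem_univ x₀)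
    exact h1.trans h2
  refine hterm.trans (le_of_eq ?_)
  have hy : ∀ y, ∑ x, (∑ g : G, F x (g • y)) ^ 2 = (Fintype.card G : ℝ) * ∑ u : G, F y (u • y) := by
    intro y
    calc ∑ x, (∑ g : G, F x (g • y)) ^ 2
        = ∑ x, ∑ g : G, ∑ h : G, F (g • y) x * F x (h • y) := by
          apply Finset.sum_congr rfl
          intro x _
          rw [sq, Finset.sum_mul_sum]
          apply Finset.sum_congr rfl
          intro g _
          apply Finset.sum_congr rfl
          intro h _
          rw [hsymm x (g • y)]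
      _ = ∑ g : G, ∑ h : G, ∑ x, F (g • y) x * F x (h • y) := by
          rw [Finset.sum_comm]
          apply Finset.sum_congr rfl
          intro g _
          rw [Finset.sum_comm]
      _ = ∑ g : G, ∑ h : G, F (g • y) (h • y) := by
          apply Finset.sum_congr rfl
          intro g _
          apply Finset.sum_congr rfl
          intro h _
          exact hidem _ _
      _ = ∑ g : G, ∑ u : G, F y (u • y) := by
          apply Finset.sum_congr rfl
          intro g _
          rw [← Equiv.sum_comp (Equiv.mulLeft g) (fun h => F (g • y) (h • y))]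
          apply Finset.sum_congr rfl
          intro u _
          rw [Equiv.coe_mulLeft, mul_smul, hinv]
      _ = (Fintype.card G : ℝ) * ∑ u : G, F y (u • y) := by
          rw [Finset.sum_const, Finset.card_univ, nsmul_eq_mul]
  rw [Finset.sum_congr rfl (fun y _ => hy y), ← Finset.mul_sum, Finset.sum_comm]

theorem krein_sos {G : Type*} [Group G] [Fintype G] {Ω : Type*} [Fintype Ω] [DecidableEq Ω]
    [MulAction G Ω] (M : Ω → Ω → ℝ) (hinv : ∀ (g : G) (x y : Ω), M (g • x) (g • y) = M x y)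
    (hsymm : ∀ x y, M x y = M y x) (hidem : ∀ x z, ∑ y, M x y * M y z = M x z) (a : Ω) :
    (∑ g : G, (M a (g • a)) ^ 3) ^ 2 ≤
      (Fintype.card G : ℝ) * ∑ g : G, (∑ x, M x (g • x)) ^ 3 := by
  let F : Ω × Ω × Ω → Ω × Ω × Ω → ℝ := fun x y => M x.1 y.1 * M x.2.1 y.2.1 * M x.2.2 y.2.2
  have hFinv : ∀ (g : G) (x y : Ω × Ω × Ω), F (g • x) (g • y) = F x y := by
    intro g x y
    simp only [F, Prod.smul_fst, Prod.smul_snd, hinv]
  have hFsymm : ∀ x y, F x y = F y x := by
    intro x y
    simp only [F]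
    rw [hsymm x.1 y.1, hsymm x.2.1 y.2.1, hsymm x.2.2 y.2.2]
  have hFidem : ∀ x z, ∑ y, F x y * F y z = F x z := by
    intro x z
    simp only [F, Fintype.sum_prod_type]
    rw [← hidem x.1 z.1, ← hidem x.2.1 z.2.1, ← hidem x.2.2 z.2.2]
    rw [Finset.sum_mul_sum, Finset.sum_mul]
    apply Finset.sum_congr rfl
    intro y1 _
    rw [Finset.sum_mul]
    apply Finset.sum_congr rfl
    intro y2 _
    rw [Finset.mul_sum]
    apply Finset.sum_congr rfl
    intro y3 _
    ring
  have h := sos_aux F hFinv hFsymm hFidem (a, a, a)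
  have hL : ∑ g : G, F (a, a, a) (g • (a, a, a)) = ∑ g : G, (M a (g • a)) ^ 3 := by
    apply Finset.sum_congr rfl
    intro g _
    simp only [F, Prod.smul_fst, Prod.smul_snd]
    ring
  have hR : ∀ u : G, ∑ y, F y (u • y) = (∑ x, M x (u • x)) ^ 3 := by
    intro u
    simp only [F, Fintype.sum_prod_type, Prod.smul_fst, Prod.smul_snd]
    rw [pow_succ, pow_two, Finset.sum_mul_sum, Finset.sum_mul]
    apply Finset.sum_congr rfl
    intro y1 _
    rw [Finset.sum_mul]
    apply Finset.sum_congr rfl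
    intro y2 _
    rw [Finset.mul_sum]
  rw [hL, Finset.sum_congr rfl (fun u _ => hR u)] at h
  exact h

end Cfsg.Agent.Lib.Helper42.S4707
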