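import Mathlib

set_option autoImplicit false

namespace Cfsg.Agent.Lib.Helper42.SL2AlgGen

open Matrix

/-- `SL₂` over a field -/
abbrev SL2 (K : Type*) [Field K] := Matrix.SpecialLinearGroup (Fin 2) K

variable {K : Type*} [Field K]

/-- the element of `SL₂(K)` with the given entries -/
def mk2 (p q r s : K) (h : p * s - q * r = 1) : SL2 K :=
  ⟨!![p, q; r, s], by rw [Matrix.det_fin_two_of]; exact h⟩

@[simp] theorem mk2_00 (p q r s : K) (h : p * s - q * r = 1) : (mk2 p q r s h).1 0 0 = p := rfl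
@[simp] theorem mk2_01 (p q r s : K) (h : p * s - q * r = 1) : (mk2 p q r s h).1 0 1 = q := rfl
@[simp] theorem mk2_10 (p q r s : K) (h : p * s - q * r = 1) : (mk2 p q r s h).1 1 0 = r := rfl
@[simp] theorem mk2_11 (p q r s : K) (h : p * s - q * r = 1) : (mk2 p q r s h).1 1 1 = s := rfl

theorem ext2 {g h : SL2 K} (h00 : g.1 0 0 = h.1 0 0) (h01 : g.1 0 1 = h.1 0 1)
    (h10 : g.1 1 0 = h.1 1 0) (h11 : g.1 1 1 = h.1 1 1) : g = h := by
  apply Subtype.ext
  ext i j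
  fin_cases i <;> fin_cases j <;> assumption

theorem det2 (g : SL2 K) : g.1 0 0 * g.1 1 1 - g.1 0 1 * g.1 1 0 = 1 := by
  have := g.2
  rwa [Matrix.det_fin_two] at this

theorem mul_00 (g h : SL2 K) : (g * h).1 0 0 = g.1 0 0 * h.1 0 0 + g.1 0 1 * h.1 1 0 := by
  change (g.1 * h.1) 0 0 = _
  simp [Matrix.mul_apply, Fin.sum_univ_two]
theorem mul_01 (g h : SL2 K) : (g * h).1 0 1 = g.1 0 0 * h.1 0 1 + g.1 0 1 * h.1 1 1 := by
  change (g.1 * h.1) 0 1 = _
  simp [Matrix.mul_apply, Fin.sum_univ_two]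
theorem mul_10 (g h : SL2 K) : (g * h).1 1 0 = g.1 1 0 * h.1 0 0 + g.1 1 1 * h.1 1 0 := by
  change (g.1 * h.1) 1 0 = _
  simp [Matrix.mul_apply, Fin.sum_univ_two]
theorem mul_11 (g h : SL2 K) : (g * h).1 1 1 = g.1 1 0 * h.1 0 1 + g.1 1 1 * h.1 1 1 := by
  change (g.1 * h.1) 1 1 = _
  simp [Matrix.mul_apply, Fin.sum_univ_two]

theorem inv_00 (g : SL2 K) : (g⁻¹).1 0 0 = g.1 1 1 := by
  change (adjugate g.1) 0 0 = _
  rw [Matrix.adjugate_fin_two]; rfl
theorem inv_01 (g : SL2 K) : (g⁻¹).1 0 1 = - g.1 0 1 := by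
  change (adjugate g.1) 0 1 = _
  rw [Matrix.adjugate_fin_two]; rfl
theorem inv_10 (g : SL2 K) : (g⁻¹).1 1 0 = - g.1 1 0 := by
  change (adjugate g.1) 1 0 = _
  rw [Matrix.adjugate_fin_two]; rfl
theorem inv_11 (g : SL2 K) : (g⁻¹).1 1 1 = g.1 0 0 := by
  change (adjugate g.1) 1 1 = _
  rw [Matrix.adjugate_fin_two]; rfl

theorem one_00 : (1 : SL2 K).1 0 0 = 1 := rfl
theorem one_01 : (1 : SL2 K).1 0 1 = 0 := rfl
theorem one_10 : (1 : SL2 K).1 1 0 = 0 := rfl
theorem one_11 : (1 : SL2 K).1 1 1 = 1 := rfl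

/-- upper unitriangular -/
def uM (a : K) : SL2 K := mk2 1 a 0 1 (by ring)
/-- lower unitriangular -/
def lM (b : K) : SL2 K := mk2 1 0 b 1 (by ring)

@[simp] theorem uM_00 (a : K) : (uM a).1 0 0 = 1 := rfl
@[simp] theorem uM_01 (a : K) : (uM a).1 0 1 = a := rfl
@[simp] theorem uM_10 (a : K) : (uM a).1 1 0 = 0 := rfl
@[simp] theorem uM_11 (a : K) : (uM a).1 1 1 = 1 := rfl
@[simp] theorem lM_00 (a : K) : (lM a).1 0 0 = 1 := rfl
@[simp] theorem lM_01 (a : K) : (lM a).1 0 1 = 0 := rfl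
@[simp] theorem lM_10 (a : K) : (lM a).1 1 0 = a := rfl
@[simp] theorem lM_11 (a : K) : (lM a).1 1 1 = 1 := rfl

theorem uM_mul (a b : K) : uM a * uM b = uM (a + b) := by
  apply ext2 <;> simp [mul_00, mul_01, mul_10, mul_11]
  ring
theorem lM_mul (a b : K) : lM a * lM b = lM (a + b) := by
  apply ext2 <;> simp [mul_00, mul_01, mul_10, mul_11]
theorem uM_zero : uM (0 : K) = 1 := by
  apply ext2 <;> simp [one_00, one_01, one_10, one_11]
theorem lM_zero : lM (0 : K) = 1 := by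
  apply ext2 <;> simp [one_00, one_01, one_10, one_11]
theorem uM_inv (a : K) : (uM a)⁻¹ = uM (-a) := by
  apply ext2 <;> simp [inv_00, inv_01, inv_10, inv_11]
theorem lM_inv (a : K) : (lM a)⁻¹ = lM (-a) := by
  apply ext2 <;> simp [inv_00, inv_01, inv_10, inv_11]

/-- conjugation by `diag(t, 1)` -/
def dconj (t : K) (ht : t ≠ 0) : SL2 K →* SL2 K :=
  MonoidHom.mk' (fun g => mk2 (g.1 0 0) (t * g.1 0 1) (t⁻¹ * g.1 1 0) (g.1 1 1)
    (by have := det2 g; field_simp; linear_combination this)) (by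
    intro g h
    apply ext2 <;> simp only [mk2_00, mk2_01, mk2_10, mk2_11, mul_00, mul_01, mul_10, mul_11]
    · field_simp
    · ring
    · ring
    · field_simp)

theorem dconj_apply (t : K) (ht : t ≠ 0) (g : SL2 K) :
    dconj t ht g = mk2 (g.1 0 0) (t * g.1 0 1) (t⁻¹ * g.1 1 0) (g.1 1 1)
      (by have := det2 g; field_simp; linear_combination this) := rfl

/-- conjugation by `[[0,1],[α,0]]` -/
def tconj (α : K) (hα : α ≠ 0) : SL2 K →* SL2 K :=
  MonoidHom.mk' (fun g => mk2 (g.1 1 1) (α⁻¹ * g.1 1 0) (α * g.1 0 1) (g.1 0 0)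
    (by have := det2 g; field_simp; linear_combination this)) (by
    intro g h
    apply ext2 <;> simp only [mk2_00, mk2_01, mk2_10, mk2_11, mul_00, mul_01, mul_10, mul_11]
    · field_simp; ring
    · ring
    · ring
    · field_simp; ring)

theorem tconj_apply (α : K) (hα : α ≠ 0) (g : SL2 K) :
    tconj α hα g = mk2 (g.1 1 1) (α⁻¹ * g.1 1 0) (α * g.1 0 1) (g.1 0 0)
      (by have := det2 g; field_simp; linear_combination this) := rfl

/-- conjugation by the involution `[[1,0],[1,-1]]` -/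
def mconj : SL2 K →* SL2 K :=
  MonoidHom.mk' (fun g => mk2 (g.1 0 0 + g.1 0 1) (- g.1 0 1)
    (g.1 0 0 - g.1 1 0 + g.1 0 1 - g.1 1 1) (g.1 1 1 - g.1 0 1)
    (by have := det2 g; linear_combination this)) (by
    intro g h
    apply ext2 <;> simp only [mk2_00, mk2_01, mk2_10, mk2_11, mul_00, mul_01, mul_10, mul_11] <;>
      ring)

theorem mconj_apply (g : SL2 K) :
    mconj g = mk2 (g.1 0 0 + g.1 0 1) (- g.1 0 1)
    (g.1 0 0 - g.1 1 0 + g.1 0 1 - g.1 1 1) (g.1 1 1 - g.1 0 1)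
    (by have := det2 g; linear_combination this) := rfl

end Cfsg.Agent.Lib.Helper42.SL2AlgGen
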