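import Mathlib
import Cfsg.Agent.Lib.Helper42.SL2AlgGenA

set_option autoImplicit false
set_option linter.unusedSimpArgs false
set_option linter.unnecessarySeqFocus false
set_option linter.unusedVariables false

namespace Cfsg.Agent.Lib.Helper42.SL2AlgGen

open Matrix Polynomial

variable {K : Type*} [Field K] {k : Type*} [Field k] [Algebra k K]

/-- the generating set: upper unitriangular with entry in `k`, lower with entry in `k α` -/
def genSet (k : Type*) {K : Type*} [Field K] [Field k] [Algebra k K] (α : K) : Set (SL2 K) :=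
  {g | ∃ c : k, g = uM (algebraMap k K c)} ∪ {g | ∃ c : k, g = lM (algebraMap k K c * α)}

/-- the generated subgroup -/
def Gen (k : Type*) {K : Type*} [Field K] [Field k] [Algebra k K] (α : K) : Subgroup (SL2 K) :=
  Subgroup.closure (genSet k α)

theorem uM_mem_Gen (α : K) (c : k) : uM (algebraMap k K c) ∈ Gen k α :=
  Subgroup.subset_closure (Or.inl ⟨c, rfl⟩)

theorem lM_mem_Gen (α : K) (c : k) : lM (algebraMap k K c * α) ∈ Gen k α :=
  Subgroup.subset_closure (Or.inr ⟨c, rfl⟩)

theorem map_mem_of_gen {L : Type*} [Field L] (α : K) (φ : SL2 K →* SL2 L) (H : Subgroup (SL2 L))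
    (hu : ∀ c : k, φ (uM (algebraMap k K c)) ∈ H)
    (hl : ∀ c : k, φ (lM (algebraMap k K c * α)) ∈ H) {g : SL2 K} (hg : g ∈ Gen k α) :
    φ g ∈ H := by
  have : Gen k α ≤ H.comap φ := by
    rw [Gen, Subgroup.closure_le]
    rintro x (⟨c, rfl⟩ | ⟨c, rfl⟩)
    · exact hu c
    · exact hl c
  exact this hg

theorem dconj_uM (t : K) (ht : t ≠ 0) (a : K) : dconj t ht (uM a) = uM (t * a) := by
  apply ext2 <;> simp [dconj_apply]
theorem dconj_lM (t : K) (ht : t ≠ 0) (a : K) : dconj t ht (lM a) = lM (t⁻¹ * a) := by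
  apply ext2 <;> simp [dconj_apply]
theorem tconj_uM (α : K) (hα : α ≠ 0) (a : K) : tconj α hα (uM a) = lM (α * a) := by
  apply ext2 <;> simp [tconj_apply]
theorem tconj_lM (α : K) (hα : α ≠ 0) (a : K) : tconj α hα (lM a) = uM (α⁻¹ * a) := by
  apply ext2 <;> simp [tconj_apply]
theorem mconj_uM (a : K) : mconj (uM a) = uM 1 * lM a * uM (-1) := by
  apply ext2 <;> simp [mconj_apply, mul_00, mul_01, mul_10, mul_11] <;> ring
theorem mconj_lM (a : K) : mconj (lM a) = lM (-a) := by
  apply ext2 <;> simp [mconj_apply]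

theorem Gen_dconj (α : K) (t : k) (ht : t ≠ 0) {g : SL2 K} (hg : g ∈ Gen k α) :
    dconj (algebraMap k K t) (by simpa using ht) g ∈ Gen k α := by
  apply map_mem_of_gen α _ _ _ _ hg
  · intro c
    rw [dconj_uM, ← map_mul]
    exact uM_mem_Gen α _
  · intro c
    rw [dconj_lM, ← mul_assoc, ← map_inv₀, ← map_mul]
    exact lM_mem_Gen α _

theorem Gen_tconj (α : K) (hα : α ≠ 0) {g : SL2 K} (hg : g ∈ Gen k α) :
    tconj α hα g ∈ Gen k α := by
  apply map_mem_of_gen α _ _ _ _ hg
  · intro c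
    rw [tconj_uM, mul_comm]
    exact lM_mem_Gen α _
  · intro c
    rw [tconj_lM]
    have : α⁻¹ * (algebraMap k K c * α) = algebraMap k K c := by field_simp
    rw [this]
    exact uM_mem_Gen α _

theorem uM_add_mem (α : K) {a b : K} (ha : uM a ∈ Gen k α) (hb : uM b ∈ Gen k α) :
    uM (a + b) ∈ Gen k α := by
  rw [← uM_mul]; exact mul_mem ha hb
theorem uM_neg_mem (α : K) {a : K} (ha : uM a ∈ Gen k α) : uM (-a) ∈ Gen k α := by
  rw [← uM_inv]; exact inv_mem ha
theorem lM_add_mem (α : K) {a b : K} (ha : lM a ∈ Gen k α) (hb : lM b ∈ Gen k α) :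
    lM (a + b) ∈ Gen k α := by
  rw [← lM_mul]; exact mul_mem ha hb
theorem lM_neg_mem (α : K) {a : K} (ha : lM a ∈ Gen k α) : lM (-a) ∈ Gen k α := by
  rw [← lM_inv]; exact inv_mem ha

theorem uM_smul_mem (α : K) (t : k) {a : K} (ha : uM a ∈ Gen k α) :
    uM (algebraMap k K t * a) ∈ Gen k α := by
  by_cases ht : t = 0
  · rw [ht, map_zero, zero_mul, uM_zero]; exact one_mem _
  · have := Gen_dconj α t ht ha
    rwa [dconj_uM] at this

theorem lM_smul_mem (α : K) (t : k) {a : K} (ha : lM a ∈ Gen k α) :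
    lM (algebraMap k K t * a) ∈ Gen k α := by
  by_cases ht : t = 0
  · rw [ht, map_zero, zero_mul, lM_zero]; exact one_mem _
  · have := Gen_dconj α t⁻¹ (inv_ne_zero ht) ha
    rwa [dconj_lM, map_inv₀, inv_inv] at this

theorem lM_of_uM (α : K) (hα : α ≠ 0) {a : K} (ha : uM a ∈ Gen k α) : lM (α * a) ∈ Gen k α := by
  have := Gen_tconj α hα ha
  rwa [tconj_uM] at this

/-- diagonal element -/
def hM (t : K) (ht : t ≠ 0) : SL2 K := mk2 t 0 0 t⁻¹ (by field_simp; ring)

/-- Step 1 gives the diagonal elements with entries in `k`. -/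
theorem hM_mem_of_step1 (α : K) (hk : ∃ t : k, t ≠ 0 ∧ t ≠ 1)
    (h1 : ∃ g ∈ Gen k α, g.1 0 0 = 0) (t : k) (ht : t ≠ 0) :
    hM (algebraMap k K t) (by simpa using ht) ∈ Gen k α := by
  obtain ⟨g, hg, h0⟩ := h1
  have hdet := det2 g
  rw [h0, zero_mul, zero_sub] at hdet
  -- the elements x_t
  have hx : ∀ (u : k) (hu : u ≠ 0),
      mk2 (algebraMap k K u) 0 (g.1 1 0 * g.1 1 1 * ((algebraMap k K u)⁻¹ - 1))
        (algebraMap k K u)⁻¹
        (by have : algebraMap k K u ≠ 0 := by simpa using hu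
            field_simp; ring) ∈ Gen k α := by
    intro u hu
    have hu' : algebraMap k K u ≠ 0 := by simpa using hu
    have h := mul_mem (Gen_dconj α u hu hg) (inv_mem hg)
    convert h using 1
    apply ext2
    · simp only [mk2_00, mk2_01, mk2_10, mk2_11, mul_00, dconj_apply, inv_00, inv_10, h0]
      linear_combination (-(algebraMap k K u)) * hdet
    · simp only [mk2_00, mk2_01, mk2_10, mk2_11, mul_01, dconj_apply, inv_01, inv_11, h0]
      ring
    · simp only [mk2_00, mk2_01, mk2_10, mk2_11, mul_10, dconj_apply, inv_00, inv_10]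
      ring
    · simp only [mk2_00, mk2_01, mk2_10, mk2_11, mul_11, dconj_apply, inv_01, inv_11, h0]
      field_simp
      linear_combination (-1 : K) * hdet
  -- ω = r s lies in the lower parameter space
  obtain ⟨t0, ht0, ht1⟩ := hk
  have hω : lM (g.1 1 0 * g.1 1 1) ∈ Gen k α := by
    have h := mul_mem (mul_mem (inv_mem (hx (t0 * t0) (mul_ne_zero ht0 ht0))) (hx t0 ht0))
      (hx t0 ht0)
    have hT : algebraMap k K t0 ≠ 0 := by simpa using ht0
    have h2 : lM (algebraMap k K (t0 * (t0 - 1) * (1 - t0)) * (g.1 1 0 * g.1 1 1)) ∈ Gen k α := by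
      convert h using 1
      apply ext2
      · simp only [lM_00, mul_00, mul_01, inv_00, inv_01, mk2_00, mk2_01, mk2_10, mk2_11, map_mul]
        field_simp
        ring
      · simp only [lM_01, mul_01, mul_00, inv_00, inv_01, mk2_00, mk2_01, mk2_10, mk2_11, map_mul]
        ring
      · simp only [lM_10, mul_10, mul_11, mul_00, mul_01, inv_10, inv_11, mk2_00, mk2_01, mk2_10,
          mk2_11, map_mul, map_sub, map_one]
        field_simp
        ring
      · simp only [lM_11, mul_11, mul_10, mul_01, inv_10, inv_11, mk2_00, mk2_01, mk2_10, mk2_11,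
          map_mul]
        field_simp
        ring
    have hc : t0 * (t0 - 1) * (1 - t0) ≠ 0 := by
      have h1 : t0 - 1 ≠ 0 := sub_ne_zero.mpr ht1
      have h2 : 1 - t0 ≠ 0 := sub_ne_zero.mpr (Ne.symm ht1)
      exact mul_ne_zero (mul_ne_zero ht0 h1) h2
    have h3 := lM_smul_mem α (t0 * (t0 - 1) * (1 - t0))⁻¹ h2
    rwa [← mul_assoc, ← map_mul, inv_mul_cancel₀ hc, map_one, one_mul] at h3
  have ht' : algebraMap k K t ≠ 0 := by simpa using ht
  have h4 : lM (algebraMap k K (-(1 - t)) * (g.1 1 0 * g.1 1 1)) ∈ Gen k α :=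
    lM_smul_mem α _ hω
  have h5 := mul_mem (hx t ht) h4
  convert h5 using 1
  apply ext2
  · simp only [hM, mk2_00, mul_00, lM_00, lM_10, mk2_01, zero_mul, add_zero, mul_one]
  · simp only [hM, mk2_01, mul_01, lM_01, lM_11, mk2_00, mul_zero, mul_one, add_zero]
  · simp only [hM, mk2_10, mul_10, lM_00, lM_10, mk2_11, map_neg, map_sub, map_one]
    field_simp
    ring
  · simp only [hM, mk2_11, mul_11, lM_01, lM_11, mk2_10, mul_zero, zero_add, mul_one]

/-- the group for `α²` maps into the group for `α` -/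
theorem sq_map_mem (α : K) (hα : α ≠ 0) {g : SL2 K} (hg : g ∈ Gen k (α ^ 2)) :
    mconj (dconj α hα g) ∈ Gen k α := by
  have := map_mem_of_gen (k := k) (α ^ 2) (mconj.comp (dconj α hα)) (Gen k α) ?_ ?_ hg
  · simpa using this
  · intro c
    rw [MonoidHom.comp_apply, dconj_uM, mconj_uM]
    refine mul_mem (mul_mem ?_ ?_) ?_
    · have := uM_mem_Gen (k := k) α 1
      rwa [map_one] at this
    · rw [mul_comm]; exact lM_mem_Gen α c
    · have := uM_mem_Gen (k := k) α (-1)
      rwa [map_neg, map_one] at this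
  · intro c
    rw [MonoidHom.comp_apply, dconj_lM, mconj_lM]
    have : -(α⁻¹ * (algebraMap k K c * α ^ 2)) = algebraMap k K (-c) * α := by
      rw [map_neg]; field_simp
    rw [this]
    exact lM_mem_Gen α _

/-- `L(1)` lies in the group, given Step 1 for `α` and for `α²`. -/
theorem lM_one_mem (α : K) (hα : α ≠ 0) (hk : ∃ t : k, t ≠ 0 ∧ t ^ 2 ≠ 1)
    (h1 : ∃ g ∈ Gen k α, g.1 0 0 = 0) (h2 : ∃ g ∈ Gen k (α ^ 2), g.1 0 0 = 0) :
    lM (1 : K) ∈ Gen k α := by
  obtain ⟨t, ht0, ht2⟩ := hk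
  have ht1 : t ≠ 1 := by rintro rfl; simp at ht2
  have hT : algebraMap k K t ≠ 0 := by simpa using ht0
  have ha := hM_mem_of_step1 α ⟨t, ht0, ht1⟩ h1 t ht0
  have hb := sq_map_mem α hα (hM_mem_of_step1 (α ^ 2) ⟨t, ht0, ht1⟩ h2 t ht0)
  have hc := mul_mem (inv_mem ha) hb
  have hd : lM (algebraMap k K (t ^ 2 - 1)) ∈ Gen k α := by
    convert hc using 1
    apply ext2
    · simp only [lM_00, mul_00, inv_00, inv_01, hM, mk2_00, mk2_01, mk2_10, mk2_11, mconj_apply,
        dconj_apply]
      field_simp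
      ring
    · simp only [lM_01, mul_01, inv_00, inv_01, hM, mk2_00, mk2_01, mk2_10, mk2_11, mconj_apply,
        dconj_apply]
      ring
    · simp only [lM_10, mul_10, inv_10, inv_11, hM, mk2_00, mk2_01, mk2_10, mk2_11, mconj_apply,
        dconj_apply, map_sub, map_pow, map_one]
      field_simp
      ring
    · simp only [lM_11, mul_11, inv_10, inv_11, hM, mk2_00, mk2_01, mk2_10, mk2_11, mconj_apply,
        dconj_apply]
      field_simp
      ring
  have hne : t ^ 2 - 1 ≠ 0 := sub_ne_zero.mpr ht2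
  have he := lM_smul_mem α (t ^ 2 - 1)⁻¹ hd
  rwa [← map_mul, inv_mul_cancel₀ hne, map_one] at he

/-- the Weyl element -/
def wM : SL2 K := mk2 0 (-1) 1 0 (by ring)

theorem wM_mem (α : K) (h : lM (1 : K) ∈ Gen k α) : (wM : SL2 K) ∈ Gen k α := by
  have hu : uM (-1 : K) ∈ Gen k α := by
    have := uM_mem_Gen (k := k) α (-1)
    rwa [map_neg, map_one] at this
  have := mul_mem (mul_mem hu h) hu
  convert this using 1
  apply ext2 <;> simp [wM, mul_00, mul_01, mul_10, mul_11]

theorem lM_neg_of_uM (α : K) (h : lM (1 : K) ∈ Gen k α) {a : K} (ha : uM a ∈ Gen k α) :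
    lM (-a) ∈ Gen k α := by
  have hw := wM_mem α h
  have := mul_mem (mul_mem hw ha) (inv_mem hw)
  convert this using 1
  apply ext2 <;> simp [wM, mul_00, mul_01, mul_10, mul_11, inv_00, inv_01, inv_10, inv_11]

theorem uM_neg_of_lM (α : K) (h : lM (1 : K) ∈ Gen k α) {b : K} (hb : lM b ∈ Gen k α) :
    uM (-b) ∈ Gen k α := by
  have hw := wM_mem α h
  have := mul_mem (mul_mem (inv_mem hw) hb) hw
  convert this using 1
  apply ext2 <;> simp [wM, mul_00, mul_01, mul_10, mul_11, inv_00, inv_01, inv_10, inv_11]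

theorem uM_mul_gen_mem (α : K) (hα : α ≠ 0) (h : lM (1 : K) ∈ Gen k α) {a : K}
    (ha : uM a ∈ Gen k α) : uM (α * a) ∈ Gen k α := by
  have h1 := uM_neg_of_lM α h (lM_of_uM α hα ha)
  have h2 := uM_neg_mem α h1
  rwa [neg_neg] at h2

theorem uM_aeval_mem (α : K) (hα : α ≠ 0) (h : lM (1 : K) ∈ Gen k α) (p : k[X]) :
    uM (aeval α p) ∈ Gen k α := by
  induction p using Polynomial.induction_on' with
  | add p q hp hq => rw [map_add]; exact uM_add_mem α hp hq
  | monomial n c =>
    rw [aeval_monomial]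
    induction n with
    | zero => rw [pow_zero, mul_one]; exact uM_mem_Gen α c
    | succ n ih =>
      have := uM_mul_gen_mem α hα h ih
      convert this using 2
      ring

theorem lM_aeval_mem (α : K) (hα : α ≠ 0) (h : lM (1 : K) ∈ Gen k α) (p : k[X]) :
    lM (aeval α p) ∈ Gen k α := by
  have := lM_neg_of_uM α h (uM_aeval_mem α hα h (-p))
  rwa [map_neg, neg_neg] at this

/-- decomposition of an element of `SL₂` into elementary matrices -/
theorem mem_of_elementary (H : Subgroup (SL2 K)) (F : Subfield K)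
    (hu : ∀ a ∈ F, uM a ∈ H) (hl : ∀ b ∈ F, lM b ∈ H) (g : SL2 K)
    (hg : ∀ i j, g.1 i j ∈ F) : g ∈ H := by
  have key : ∀ g : SL2 K, (∀ i j, g.1 i j ∈ F) → g.1 1 0 ≠ 0 → g ∈ H := by
    intro g hg hr
    have hdet := det2 g
    have h1 : uM ((g.1 0 0 - 1) / g.1 1 0) ∈ H :=
      hu _ (F.div_mem (F.sub_mem (hg 0 0) F.one_mem) (hg 1 0))
    have h2 : lM (g.1 1 0) ∈ H := hl _ (hg 1 0)
    have h3 : uM ((g.1 1 1 - 1) / g.1 1 0) ∈ H :=
      hu _ (F.div_mem (F.sub_mem (hg 1 1) F.one_mem) (hg 1 0))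
    have := mul_mem (mul_mem h1 h2) h3
    convert this using 1
    apply ext2
    · simp only [mul_00, mul_01, mul_10, mul_11, uM_00, uM_01, uM_10, uM_11, lM_00, lM_01, lM_10,
        lM_11]
      field_simp
      ring
    · simp only [mul_00, mul_01, mul_10, mul_11, uM_00, uM_01, uM_10, uM_11, lM_00, lM_01, lM_10,
        lM_11]
      field_simp
      linear_combination (-1 : K) * hdet
    · simp only [mul_00, mul_01, mul_10, mul_11, uM_00, uM_01, uM_10, uM_11, lM_00, lM_01, lM_10,
        lM_11]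
      ring
    · simp only [mul_00, mul_01, mul_10, mul_11, uM_00, uM_01, uM_10, uM_11, lM_00, lM_01, lM_10,
        lM_11]
      field_simp
      ring
  by_cases hr : g.1 1 0 = 0
  · have hdet := det2 g
    rw [hr, mul_zero, sub_zero] at hdet
    have hs : g.1 1 1 ≠ 0 := by
      intro h; rw [h, mul_zero] at hdet; exact zero_ne_one hdet
    have h1 : g * lM 1 ∈ H := by
      apply key
      · intro i j
        fin_cases i <;> fin_cases j
        · show (g * lM 1).1 0 0 ∈ F
          rw [mul_00]; simp only [lM_00, lM_10, mul_one]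
          exact F.add_mem (hg 0 0) (hg 0 1)
        · show (g * lM 1).1 0 1 ∈ F
          rw [mul_01]; simp only [lM_01, lM_11, mul_one, mul_zero, zero_add]
          exact hg 0 1
        · show (g * lM 1).1 1 0 ∈ F
          rw [mul_10]; simp only [lM_00, lM_10, mul_one]
          exact F.add_mem (hg 1 0) (hg 1 1)
        · show (g * lM 1).1 1 1 ∈ F
          rw [mul_11]; simp only [lM_01, lM_11, mul_one, mul_zero, zero_add]
          exact hg 1 1
      · rw [mul_10]; simp only [lM_00, lM_10, mul_one, hr, zero_add]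
        exact hs
    have h2 : lM (-1 : K) ∈ H := hl _ (F.neg_mem F.one_mem)
    have := mul_mem h1 h2
    rwa [mul_assoc, lM_mul, add_neg_cancel, lM_zero, mul_one] at this
  · exact key g hg hr

end Cfsg.Agent.Lib.Helper42.SL2AlgGen
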