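import Mathlib
import Cfsg.Agent.Lib.Helper42.SL2AlgGenB

set_option autoImplicit false
set_option linter.unusedSimpArgs false
set_option linter.unusedVariables false

namespace Cfsg.Agent.Lib.Helper42.SL2AlgGen

open Matrix
open scoped Pointwise

theorem uM_pow {K : Type*} [Field K] (a : K) (n : ℕ) : uM a ^ n = uM (n * a) := by
  induction n with
  | zero => simp [uM_zero]
  | succ n ih =>
    rw [pow_succ, ih, uM_mul]
    congr 1
    push_cast
    ring

theorem lM_pow {K : Type*} [Field K] (a : K) (n : ℕ) : lM a ^ n = lM (n * a) := by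
  induction n with
  | zero => simp [lM_zero]
  | succ n ih =>
    rw [pow_succ, ih, lM_mul]
    congr 1
    push_cast
    ring

theorem isPGroup_zpowers_of_pow_eq_one {G : Type*} [Group G] (p : ℕ) (x : G) (hx : x ^ p = 1) :
    IsPGroup p (Subgroup.zpowers x) := by
  rintro ⟨g, hg⟩
  refine ⟨1, ?_⟩
  rw [Subgroup.mem_zpowers_iff] at hg
  obtain ⟨n, rfl⟩ := hg
  apply Subtype.ext
  simp only [pow_one, Subgroup.coe_pow, Subgroup.coe_one]
  rw [← zpow_natCast, ← _root_.zpow_mul, mul_comm, _root_.zpow_mul, zpow_natCast, hx, _root_.one_zpow]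

theorem conj_uM_one_01 {K : Type*} [Field K] (g : SL2 K) :
    (g * uM 1 * g⁻¹).1 0 1 = g.1 0 0 ^ 2 := by
  rw [mul_01, mul_00, mul_01, inv_01, inv_11]
  simp only [uM_00, uM_01, uM_10, uM_11]
  ring

/-- Step 1 over a finite field, via Sylow's theorem -/
theorem step1_finite {k E : Type*} [Field k] [Field E] [Algebra k E] [Finite E] (β : E)
    (hβ : β ≠ 0) : ∃ g ∈ Gen k β, g.1 0 0 = 0 := by
  classical
  obtain ⟨p, hp⟩ := CharP.exists E
  have : Fact p.Prime := ⟨CharP.char_is_prime E p⟩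
  have : Fintype E := Fintype.ofFinite E
  have hau : uM (1 : E) ∈ Gen k β := by
    have := uM_mem_Gen β (1 : k)
    rwa [map_one] at this
  have hbl : lM β ∈ Gen k β := by
    have := lM_mem_Gen β (1 : k)
    rwa [map_one, one_mul] at this
  let a : Gen k β := ⟨uM 1, hau⟩
  let b : Gen k β := ⟨lM β, hbl⟩
  have hap : a ^ p = 1 := by
    apply Subtype.ext
    show (uM (1 : E)) ^ p = 1
    rw [uM_pow, mul_one, CharP.cast_eq_zero, uM_zero]
  have hbp : b ^ p = 1 := by
    apply Subtype.ext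
    show (lM β) ^ p = 1
    rw [lM_pow, CharP.cast_eq_zero, zero_mul, lM_zero]
  obtain ⟨P, hP⟩ := (isPGroup_zpowers_of_pow_eq_one p a hap).exists_le_sylow
  obtain ⟨Q, hQ⟩ := (isPGroup_zpowers_of_pow_eq_one p b hbp).exists_le_sylow
  obtain ⟨g, hg⟩ := MulAction.exists_smul_eq (Gen k β) P Q
  have haP : a ∈ (P : Subgroup (Gen k β)) := hP (Subgroup.mem_zpowers a)
  have hbQ : b ∈ (Q : Subgroup (Gen k β)) := hQ (Subgroup.mem_zpowers b)
  have hconj : g * a * g⁻¹ ∈ (Q : Subgroup (Gen k β)) := by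
    have h1 : MulAut.conj g • a ∈ MulAut.conj g • (P : Subgroup (Gen k β)) :=
      Subgroup.smul_mem_pointwise_smul _ _ _ haP
    rw [← Sylow.coe_subgroup_smul, hg] at h1
    simpa [MulAut.smul_def] using h1
  -- the action on vectors
  have hsmul : ∀ (z : (Q : Subgroup (Gen k β))) (v : Fin 2 → E),
      z • v = (z.1.1 : SL2 E).1 *ᵥ v := by
    intro z v
    rfl
  have hdvd : p ∣ Nat.card (Fin 2 → E) := by
    rw [Nat.card_eq_fintype_card, Fintype.card_fun, Fintype.card_fin]
    have : p ∣ Fintype.card E := by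
      rw [← CharP.cast_eq_zero_iff E p]
      exact Nat.cast_card_eq_zero E
    exact dvd_pow this (by norm_num)
  have h0 : (0 : Fin 2 → E) ∈ MulAction.fixedPoints (Q : Subgroup (Gen k β)) (Fin 2 → E) := by
    intro z
    rw [hsmul, Matrix.mulVec_zero]
  obtain ⟨v, hv, hv0⟩ := Q.isPGroup'.exists_fixed_point_of_prime_dvd_card_of_fixed_point
    (Fin 2 → E) hdvd h0
  have hvb := hv ⟨b, hbQ⟩
  rw [hsmul] at hvb
  have hv00 : v 0 = 0 := by
    have := congrFun hvb 1
    simp [Matrix.mulVec, dotProduct, Fin.sum_univ_two, b] at this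
    rcases this with h | h
    · exact absurd h hβ
    · exact h
  have hv1 : v 1 ≠ 0 := by
    intro h1
    apply hv0
    ext i
    fin_cases i
    · exact hv00.symm
    · exact h1.symm
  have key : ∀ z ∈ (Q : Subgroup (Gen k β)), (z.1 : SL2 E).1 0 1 = 0 := by
    intro z hz
    have hvz := hv ⟨z, hz⟩
    rw [hsmul] at hvz
    have := congrFun hvz 0
    simp [Matrix.mulVec, dotProduct, Fin.sum_univ_two, hv00] at this
    rcases this with h | h
    · exact h
    · exact absurd h hv1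
  refine ⟨g.1, g.2, ?_⟩
  have h2 := key _ hconj
  have h3 : ((g * a * g⁻¹ : Gen k β) : SL2 E) = g.1 * uM 1 * (g.1)⁻¹ := rfl
  rw [h3, conj_uM_one_01] at h2
  exact pow_eq_zero_iff (two_ne_zero) |>.mp h2

end Cfsg.Agent.Lib.Helper42.SL2AlgGen
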