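import Mathlib

set_option autoImplicit false
set_option linter.unusedSimpArgs false
set_option linter.unusedVariables false

namespace Cfsg.Agent.Lib.Helper42.SL2AlgGen

open Module

section Pencil

variable {k V W : Type*} [Field k] [AddCommGroup V] [Module k V] [AddCommGroup W] [Module k W]
  [FiniteDimensional k V] [FiniteDimensional k W]

/-- a pencil `S + t T` with `T` injective is injective for all but finitely many `t` -/
theorem finite_bad_of_right (S T : V →ₗ[k] W) (hT : Function.Injective T)
    (hdim : finrank k V = finrank k W) :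
    {t : k | ¬ Function.Injective (S + t • T)}.Finite := by
  let e := T.linearEquivOfInjective hT hdim
  let f : Module.End k V := e.symm.toLinearMap.comp S
  refine Set.Finite.subset ((f.finite_hasEigenvalue).image Neg.neg) ?_
  intro t ht
  simp only [Set.mem_ofPred_eq] at ht
  rw [← LinearMap.ker_eq_bot, Submodule.eq_bot_iff] at ht
  push Not at ht
  obtain ⟨v, hv, hv0⟩ := ht
  refine ⟨-t, ?_, neg_neg t⟩
  apply Module.End.hasEigenvalue_of_hasEigenvector (x := v)
  refine ⟨?_, hv0⟩
  rw [Module.End.mem_eigenspace_iff]
  have h1 : S v + t • T v = 0 := by simpa using hv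
  have h2 : S v = -(t • T v) := eq_neg_of_add_eq_zero_left h1
  show e.symm (S v) = (-t) • v
  rw [h2, map_neg, map_smul]
  have : e.symm (T v) = v := e.symm_apply_apply v
  rw [this, neg_smul]

/-- a pencil `S + t T` with `S` injective is injective for all but finitely many `t` -/
theorem finite_bad_of_left (S T : V →ₗ[k] W) (hS : Function.Injective S)
    (hdim : finrank k V = finrank k W) :
    {t : k | ¬ Function.Injective (S + t • T)}.Finite := by
  let e := S.linearEquivOfInjective hS hdim
  let f : Module.End k V := e.symm.toLinearMap.comp T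
  refine Set.Finite.subset ((f.finite_hasEigenvalue).image (fun μ => -μ⁻¹)) ?_
  intro t ht
  simp only [Set.mem_ofPred_eq] at ht
  have ht0 : t ≠ 0 := by
    rintro rfl
    apply ht
    simpa using hS
  rw [← LinearMap.ker_eq_bot, Submodule.eq_bot_iff] at ht
  push Not at ht
  obtain ⟨v, hv, hv0⟩ := ht
  refine ⟨-t⁻¹, ?_, by simp⟩
  apply Module.End.hasEigenvalue_of_hasEigenvector (x := v)
  refine ⟨?_, hv0⟩
  rw [Module.End.mem_eigenspace_iff]
  have h1 : S v + t • T v = 0 := by simpa using hv
  have h2 : T v = -(t⁻¹ • S v) := by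
    have : t • T v = - S v := eq_neg_of_add_eq_zero_right h1
    calc T v = t⁻¹ • (t • T v) := by rw [smul_smul, inv_mul_cancel₀ ht0, one_smul]
      _ = -(t⁻¹ • S v) := by rw [this, smul_neg]
  show e.symm (T v) = (-t⁻¹) • v
  rw [h2, map_neg, map_smul]
  have : e.symm (S v) = v := e.symm_apply_apply v
  rw [this, neg_smul]

end Pencil

/-- generic choice: finitely many conditions, each with a witness and each stable along
pencils through a good point, can be satisfied simultaneously over an infinite field -/
theorem exists_good {k : Type*} [Field k] [Infinite k] {ι : Type*} {W : Type*} [AddCommGroup W]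
    [Module k W] (Good : ι → W → Prop)
    (hleft : ∀ i a b, Good i a → {t : k | ¬ Good i (a + t • b)}.Finite)
    (hright : ∀ i a b, Good i b → {t : k | ¬ Good i (a + t • b)}.Finite)
    (s : Finset ι) (hwit : ∀ i ∈ s, ∃ w, Good i w) :
    ∃ w, ∀ i ∈ s, Good i w := by
  classical
  induction s using Finset.induction_on with
  | empty => exact ⟨0, by simp⟩
  | insert i₀ s hi ih =>
    obtain ⟨a, ha⟩ := ih (fun i hi' => hwit i (Finset.mem_insert_of_mem hi'))
    obtain ⟨b, hb⟩ := hwit i₀ (Finset.mem_insert_self _ _)
    have hfin : (({t : k | ¬ Good i₀ (a + t • b)}) ∪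
        ⋃ i ∈ s, {t : k | ¬ Good i (a + t • b)}).Finite := by
      refine Set.Finite.union (hright i₀ a b hb) ?_
      exact Set.Finite.biUnion s.finite_toSet (fun i hi' => hleft i a b (ha i hi'))
    obtain ⟨t, ht⟩ := hfin.exists_notMem
    refine ⟨a + t • b, ?_⟩
    intro i hi'
    rw [Finset.mem_insert] at hi'
    rcases hi' with rfl | hi'
    · by_contra hcon
      exact ht (Or.inl hcon)
    · by_contra hcon
      apply ht
      right
      simp only [Set.mem_iUnion]
      exact ⟨i, hi', hcon⟩

end Cfsg.Agent.Lib.Helper42.SL2AlgGen
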