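import Mathlib
import Cfsg.Agent.Lib.Helper42.SL2AlgGenD1

set_option autoImplicit false
set_option linter.unusedSimpArgs false
set_option linter.unusedVariables false

namespace Cfsg.Agent.Lib.Helper42.SL2AlgGen

open Module Polynomial

variable {k E : Type*} [Field k] [Field E] [Algebra k E] (pb : PowerBasis k E)

/-- polynomials in the generator of degree `< j` -/
noncomputable def Vsp (j : ℕ) : Submodule k E := (degreeLT k j).map (aeval pb.gen).toLinearMap

theorem mem_Vsp {j : ℕ} {x : E} :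
    x ∈ Vsp pb j ↔ ∃ p : k[X], (∀ m, j ≤ m → p.coeff m = 0) ∧ aeval pb.gen p = x := by
  unfold Vsp
  rw [Submodule.mem_map]
  constructor
  · rintro ⟨p, hp, rfl⟩
    rw [mem_degreeLT, degree_lt_iff_coeff_zero] at hp
    exact ⟨p, hp, rfl⟩
  · rintro ⟨p, hp, rfl⟩
    refine ⟨p, ?_, rfl⟩
    rw [mem_degreeLT, degree_lt_iff_coeff_zero]
    exact hp

theorem Vsp_mono {i j : ℕ} (h : i ≤ j) : Vsp pb i ≤ Vsp pb j := by
  intro x hx
  rw [mem_Vsp] at hx ⊢
  obtain ⟨p, hp, rfl⟩ := hx
  exact ⟨p, fun m hm => hp m (h.trans hm), rfl⟩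

theorem eq_zero_of_mem_Vsp_zero {x : E} (hx : x ∈ Vsp pb 0) : x = 0 := by
  rw [mem_Vsp] at hx
  obtain ⟨p, hp, rfl⟩ := hx
  have : p = 0 := by
    ext m
    simpa using hp m (Nat.zero_le m)
  rw [this, map_zero]

theorem algebraMap_mem_Vsp (c : k) : algebraMap k E c ∈ Vsp pb 1 := by
  rw [mem_Vsp]
  refine ⟨C c, ?_, by simp⟩
  intro m hm
  rw [coeff_C]
  rw [if_neg]
  omega

theorem one_mem_Vsp : (1 : E) ∈ Vsp pb 1 := by
  have := algebraMap_mem_Vsp pb 1
  rwa [map_one] at this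

theorem gen_mul_mem {j : ℕ} {x : E} (hx : x ∈ Vsp pb j) : pb.gen * x ∈ Vsp pb (j + 1) := by
  rw [mem_Vsp] at hx ⊢
  obtain ⟨p, hp, rfl⟩ := hx
  refine ⟨X * p, ?_, by simp⟩
  intro m hm
  obtain ⟨m', rfl⟩ : ∃ m', m = m' + 1 := ⟨m - 1, by omega⟩
  rw [coeff_X_mul]
  exact hp m' (by omega)

theorem mem_Vsp_of_dim_le {j : ℕ} (hj : pb.dim ≤ j) (x : E) : x ∈ Vsp pb j := by
  obtain ⟨f, hf, rfl⟩ := pb.exists_eq_aeval x
  rw [mem_Vsp]
  exact ⟨f, fun m hm => coeff_eq_zero_of_natDegree_lt (by omega), rfl⟩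

/-- a polynomial of small degree is determined by its value at the generator -/
theorem eq_zero_of_aeval_eq_zero {p : k[X]} (hp : ∀ m, pb.dim ≤ m → p.coeff m = 0)
    (h : aeval pb.gen p = 0) : p = 0 := by
  by_contra hne
  have h1 := pb.dim_le_natDegree_of_root hne h
  have h2 := hp _ h1
  rw [coeff_natDegree, leadingCoeff_eq_zero] at h2
  exact hne h2

/-- coordinates of a polynomial of small degree -/
theorem coord_aeval (i : Fin pb.dim) {p : k[X]} (hp : ∀ m, pb.dim ≤ m → p.coeff m = 0) :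
    pb.basis.coord i (aeval pb.gen p) = p.coeff i := by
  have hnat : p = 0 ∨ p.natDegree < pb.dim := by
    by_cases h0 : p = 0
    · exact Or.inl h0
    · right
      by_contra hcon
      push Not at hcon
      have := hp _ hcon
      rw [coeff_natDegree, leadingCoeff_eq_zero] at this
      exact h0 this
  rcases hnat with rfl | hnat
  · simp
  · rw [aeval_eq_sum_range' hnat, Finset.sum_range (fun j => p.coeff j • pb.gen ^ j)]
    have : ∀ j : Fin pb.dim, p.coeff j • pb.gen ^ (j : ℕ) = p.coeff j • pb.basis j := by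
      intro j
      rw [pb.coe_basis]
    rw [Finset.sum_congr rfl (fun j _ => this j)]
    rw [Basis.coord_apply, Basis.repr_sum_self]

/-- the constant coordinate -/
noncomputable def eps0 : E →ₗ[k] k := pb.basis.coord ⟨0, pb.dim_pos⟩

theorem eps0_aeval {p : k[X]} (hp : ∀ m, pb.dim ≤ m → p.coeff m = 0) :
    eps0 pb (aeval pb.gen p) = p.coeff 0 :=
  coord_aeval pb ⟨0, pb.dim_pos⟩ hp

theorem eps0_algebraMap (c : k) : eps0 pb (algebraMap k E c) = c := by
  have := eps0_aeval pb (p := C c) (by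
    intro m hm
    rw [coeff_C, if_neg]
    have := pb.dim_pos
    omega)
  simpa using this

theorem eps0_one : eps0 pb 1 = 1 := by
  have := eps0_algebraMap pb 1
  rwa [map_one] at this

/-- splitting off the constant term -/
theorem exists_decomp {j : ℕ} (hj : j + 1 ≤ pb.dim) {x : E} (hx : x ∈ Vsp pb (j + 1)) :
    ∃ y ∈ Vsp pb j, x = algebraMap k E (eps0 pb x) + pb.gen * y := by
  rw [mem_Vsp] at hx
  obtain ⟨p, hp, rfl⟩ := hx
  have hp' : ∀ m, pb.dim ≤ m → p.coeff m = 0 := fun m hm => hp m (by omega)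
  refine ⟨aeval pb.gen (divX p), ?_, ?_⟩
  · rw [mem_Vsp]
    refine ⟨divX p, ?_, rfl⟩
    intro m hm
    rw [coeff_divX]
    exact hp _ (by omega)
  · rw [eps0_aeval pb hp']
    have h1 : aeval pb.gen p = aeval pb.gen (X * divX p + C (p.coeff 0)) := by
      rw [X_mul_divX_add]
    rw [h1, map_add, map_mul, aeval_X, aeval_C, add_comm]

theorem exists_mul_of_eps0_zero {j : ℕ} (hj : j + 1 ≤ pb.dim) {x : E} (hx : x ∈ Vsp pb (j + 1))
    (h0 : eps0 pb x = 0) : ∃ y ∈ Vsp pb j, x = pb.gen * y := by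
  obtain ⟨y, hy, hxy⟩ := exists_decomp pb hj hx
  refine ⟨y, hy, ?_⟩
  rw [hxy, h0, map_zero, zero_add]

theorem eps0_gen_mul {j : ℕ} (hj : j + 1 ≤ pb.dim) {y : E} (hy : y ∈ Vsp pb j) :
    eps0 pb (pb.gen * y) = 0 := by
  rw [mem_Vsp] at hy
  obtain ⟨p, hp, rfl⟩ := hy
  have : pb.gen * aeval pb.gen p = aeval pb.gen (X * p) := by simp
  rw [this, eps0_aeval]
  · simp
  · intro m hm
    obtain ⟨m', rfl⟩ : ∃ m', m = m' + 1 := ⟨m - 1, by have := pb.dim_pos; omega⟩
    rw [coeff_X_mul]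
    exact hp m' (by omega)

theorem finiteDimensional_of_pb (pb' : PowerBasis k E) : FiniteDimensional k E :=
  PowerBasis.finite pb'

theorem finrank_Vsp_le (j : ℕ) : finrank k (Vsp pb j) ≤ j := by
  have := finiteDimensional_of_pb pb
  unfold Vsp
  calc finrank k ((degreeLT k j).map (aeval pb.gen).toLinearMap)
      ≤ finrank k (degreeLT k j) := Submodule.finrank_map_le _ _
    _ = j := by
      rw [LinearEquiv.finrank_eq (degreeLTEquiv k j), Module.finrank_fin_fun]

theorem finrank_Vsp {j : ℕ} (hj : j ≤ pb.dim) : finrank k (Vsp pb j) = j := by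
  have := finiteDimensional_of_pb pb
  unfold Vsp
  have hinj : Function.Injective
      ((aeval pb.gen).toLinearMap.domRestrict (degreeLT k j)) := by
    rw [← LinearMap.ker_eq_bot, Submodule.eq_bot_iff]
    rintro ⟨p, hp⟩ h
    rw [LinearMap.mem_ker, LinearMap.domRestrict_apply] at h
    rw [mem_degreeLT, degree_lt_iff_coeff_zero] at hp
    have : p = 0 := eq_zero_of_aeval_eq_zero pb (fun m hm => hp m (by omega)) h
    exact Subtype.ext this
  have := LinearMap.finrank_range_of_inj hinj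
  rw [LinearEquiv.finrank_eq (degreeLTEquiv k j), Module.finrank_fin_fun] at this
  rw [LinearMap.range_domRestrict] at this
  exact this

end Cfsg.Agent.Lib.Helper42.SL2AlgGen
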