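import Mathlib
import Cfsg.Agent.Lib.Helper42.SL2AlgGenB
import Cfsg.Agent.Lib.Helper42.SL2AlgGenD2

set_option autoImplicit false
set_option linter.unusedSimpArgs false
set_option linter.unusedVariables false

namespace Cfsg.Agent.Lib.Helper42.SL2AlgGen

open Module Polynomial

variable {k E : Type*} [Field k] [Field E] [Algebra k E] (pb : PowerBasis k E)

/-- nondegeneracy of `(x,y) ↦ ℓ(xy)` on `Vsp j` -/
def Nd (ℓ : E →ₗ[k] k) (j : ℕ) : Prop :=
  ∀ x ∈ Vsp pb j, (∀ y ∈ Vsp pb j, ℓ (x * y) = 0) → x = 0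

/-- shifted functional `x ↦ ℓ (gen * x)` -/
noncomputable def shiftF : (E →ₗ[k] k) →ₗ[k] (E →ₗ[k] k) :=
  LinearMap.lcomp k k (LinearMap.mulLeft k pb.gen)

theorem shiftF_apply (ℓ : E →ₗ[k] k) (x : E) : shiftF pb ℓ x = ℓ (pb.gen * x) := rfl

/-- the pairing as a map into the dual -/
noncomputable def Bform2 (ℓ : E →ₗ[k] k) (m i : ℕ) :
    Vsp pb m →ₗ[k] Module.Dual k (Vsp pb i) :=
  ((LinearMap.mul k E).compr₂ ℓ).domRestrict₁₂ (Vsp pb m) (Vsp pb i)

theorem Bform2_apply (ℓ : E →ₗ[k] k) (m i : ℕ) (x : Vsp pb m) (y : Vsp pb i) :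
    Bform2 pb ℓ m i x y = ℓ (x.1 * y.1) := rfl

theorem Bform2_add_smul (a b : E →ₗ[k] k) (t : k) (m i : ℕ) :
    Bform2 pb (a + t • b) m i = Bform2 pb a m i + t • Bform2 pb b m i := by
  ext x y
  simp [Bform2_apply]

theorem Nd_iff (ℓ : E →ₗ[k] k) (j : ℕ) :
    Nd pb ℓ j ↔ Function.Injective (Bform2 pb ℓ j j) := by
  rw [injective_iff_map_eq_zero]
  constructor
  · intro h x hx
    have := h x.1 x.2 (fun y hy => by
      have := LinearMap.congr_fun hx ⟨y, hy⟩
      simpa [Bform2_apply] using this)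
    exact Subtype.ext this
  · intro h x hx hperp
    have := h ⟨x, hx⟩ (by
      ext y
      simpa [Bform2_apply] using hperp y.1 y.2)
    exact congrArg Subtype.val this

theorem Nd_zero (ℓ : E →ₗ[k] k) : Nd pb ℓ 0 := fun x hx _ => eq_zero_of_mem_Vsp_zero pb hx

theorem finite_bad_Nd_left (F : (E →ₗ[k] k) →ₗ[k] (E →ₗ[k] k)) (a b : E →ₗ[k] k) (j : ℕ)
    (ha : Nd pb (F a) j) : {t : k | ¬ Nd pb (F (a + t • b)) j}.Finite := by
  have := finiteDimensional_of_pb pb
  have h := finite_bad_of_left (Bform2 pb (F a) j j) (Bform2 pb (F b) j j)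
    ((Nd_iff pb _ j).mp ha) (Subspace.dual_finrank_eq).symm
  refine h.subset ?_
  intro t ht
  simp only [Set.mem_ofPred_eq] at ht ⊢
  rw [Nd_iff, map_add, map_smul, Bform2_add_smul] at ht
  exact ht

theorem finite_bad_Nd_right (F : (E →ₗ[k] k) →ₗ[k] (E →ₗ[k] k)) (a b : E →ₗ[k] k) (j : ℕ)
    (hb : Nd pb (F b) j) : {t : k | ¬ Nd pb (F (a + t • b)) j}.Finite := by
  have := finiteDimensional_of_pb pb
  have h := finite_bad_of_right (Bform2 pb (F a) j j) (Bform2 pb (F b) j j)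
    ((Nd_iff pb _ j).mp hb) (Subspace.dual_finrank_eq).symm
  refine h.subset ?_
  intro t ht
  simp only [Set.mem_ofPred_eq] at ht ⊢
  rw [Nd_iff, map_add, map_smul, Bform2_add_smul] at ht
  exact ht

/-- a nonzero vector of `Vsp m` orthogonal to `Vsp i`, `i < m` -/
theorem exists_perp (ℓ : E →ₗ[k] k) {i m : ℕ} (him : i < m) (hm : m ≤ pb.dim) :
    ∃ x ∈ Vsp pb m, x ≠ 0 ∧ ∀ y ∈ Vsp pb i, ℓ (x * y) = 0 := by
  have := finiteDimensional_of_pb pb
  have hlt : finrank k (Module.Dual k (Vsp pb i)) < finrank k (Vsp pb m) := by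
    rw [Subspace.dual_finrank_eq, finrank_Vsp pb hm]
    exact lt_of_le_of_lt (finrank_Vsp_le pb i) him
  have hker := LinearMap.ker_ne_bot_of_finrank_lt (f := Bform2 pb ℓ m i) hlt
  obtain ⟨x, hx, hx0⟩ := Submodule.exists_mem_ne_zero_of_ne_bot hker
  refine ⟨x.1, x.2, fun h => hx0 (Subtype.ext h), ?_⟩
  intro y hy
  rw [LinearMap.mem_ker] at hx
  have := LinearMap.congr_fun hx ⟨y, hy⟩
  simpa [Bform2_apply] using this

/-- explicit nondegenerate functionals -/
theorem Nd_witness (j s : ℕ) (hj : 1 ≤ j) (hjs : j - 1 + s < pb.dim) (x : E) (hx : x ∈ Vsp pb j)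
    (hperp : ∀ y ∈ Vsp pb j, pb.basis.coord ⟨j - 1 + s, hjs⟩ (pb.gen ^ s * (x * y)) = 0) :
    x = 0 := by
  rw [mem_Vsp] at hx
  obtain ⟨p, hp, rfl⟩ := hx
  have key : ∀ b, b ≤ j → ∀ m, j - b ≤ m → p.coeff m = 0 := by
    intro b
    induction b with
    | zero => intro _ m hm; exact hp m (by omega)
    | succ b ih =>
      intro hb m hm
      have ih' := ih (by omega)
      have hy : aeval pb.gen (X ^ b : k[X]) ∈ Vsp pb j := by
        rw [mem_Vsp]
        refine ⟨X ^ b, ?_, rfl⟩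
        intro m hm
        rw [coeff_X_pow, if_neg]
        omega
      have h1 := hperp _ hy
      have h2 : pb.gen ^ s * (aeval pb.gen p * aeval pb.gen (X ^ b : k[X]))
          = aeval pb.gen (X ^ (s + b) * p) := by
        simp [pow_add]; ring
      rw [h2, coord_aeval] at h1
      · simp only at h1
        rw [coeff_X_pow_mul', if_pos (by omega)] at h1
        by_cases hm' : j - b ≤ m
        · exact ih' m hm'
        · have : m = j - 1 + s - (s + b) := by omega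
          rw [this]; exact h1
      · intro m hm
        rw [coeff_X_pow_mul']
        split_ifs with h
        · exact ih' _ (by omega)
        · rfl
  have : p = 0 := by
    ext m
    simpa using key j le_rfl m (by omega)
  rw [this, map_zero]

theorem Nd_coord (j : ℕ) (hj : 1 ≤ j) (hjn : j + 1 ≤ pb.dim) :
    Nd pb (pb.basis.coord ⟨j - 1, by omega⟩) j := by
  intro x hx hperp
  apply Nd_witness pb j 0 hj (by omega) x hx
  intro y hy
  simpa using hperp y hy

theorem Nd_coord_shift (j : ℕ) (hj : 1 ≤ j) (hjn : j + 1 ≤ pb.dim) :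
    Nd pb (shiftF pb (pb.basis.coord ⟨j, by omega⟩)) j := by
  intro x hx hperp
  apply Nd_witness pb j 1 hj (by omega) x hx
  intro y hy
  have := hperp y hy
  rw [shiftF_apply] at this
  have h2 : (⟨j - 1 + 1, by omega⟩ : Fin pb.dim) = ⟨j, by omega⟩ := by
    apply Fin.ext
    show j - 1 + 1 = j
    omega
  rw [h2, pow_one]
  exact this

/-- a generic functional -/
theorem exists_generic [Infinite k] :
    ∃ ℓ : E →ₗ[k] k, (∀ j, 1 ≤ j → j + 1 ≤ pb.dim → Nd pb ℓ j) ∧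
      (∀ j, 1 ≤ j → j + 1 ≤ pb.dim → Nd pb (shiftF pb ℓ) j) := by
  classical
  let F : Bool → ((E →ₗ[k] k) →ₗ[k] (E →ₗ[k] k)) := fun b => if b then shiftF pb else LinearMap.id
  let Good : ℕ × Bool → (E →ₗ[k] k) → Prop := fun i ℓ => Nd pb (F i.2 ℓ) i.1
  have h := exists_good (k := k) Good
    (fun i a b ha => finite_bad_Nd_left pb (F i.2) a b i.1 ha)
    (fun i a b hb => finite_bad_Nd_right pb (F i.2) a b i.1 hb)
    ((Finset.Icc 1 (pb.dim - 1)) ×ˢ Finset.univ) (by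
      rintro ⟨j, b⟩ hi
      rw [Finset.mem_product, Finset.mem_Icc] at hi
      have hj1 : 1 ≤ j := hi.1.1
      have hj2 : j + 1 ≤ pb.dim := by have := hi.1.2; have := pb.dim_pos; omega
      cases b
      · exact ⟨_, Nd_coord pb j hj1 hj2⟩
      · exact ⟨_, Nd_coord_shift pb j hj1 hj2⟩)
  obtain ⟨ℓ, hℓ⟩ := h
  refine ⟨ℓ, ?_, ?_⟩
  · intro j hj1 hj2
    exact hℓ (j, false) (by
      rw [Finset.mem_product, Finset.mem_Icc]
      exact ⟨⟨hj1, by omega⟩, Finset.mem_univ _⟩)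
  · intro j hj1 hj2
    exact hℓ (j, true) (by
      rw [Finset.mem_product, Finset.mem_Icc]
      exact ⟨⟨hj1, by omega⟩, Finset.mem_univ _⟩)

end Cfsg.Agent.Lib.Helper42.SL2AlgGen
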