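import Mathlib
import Cfsg.Agent.Lib.Helper42.SL2AlgGenD3

set_option autoImplicit false
set_option linter.unusedSimpArgs false
set_option linter.unusedVariables false

namespace Cfsg.Agent.Lib.Helper42.SL2AlgGen

open Module Polynomial

variable {k E : Type*} [Field k] [Field E] [Algebra k E] (pb : PowerBasis k E)

/-- the `j`-th orthogonal polynomial, normalised at the constant term -/
structure IsP (ℓ : E →ₗ[k] k) (j : ℕ) (P : E) : Prop where
  mem : P ∈ Vsp pb (j + 1)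
  perp : ∀ y ∈ Vsp pb j, ℓ (P * y) = 0
  eps : eps0 pb P = 1

/-- the companion polynomial -/
def IsQ (ℓ : E →ₗ[k] k) (j : ℕ) (Q : E) : Prop :=
  Q ∈ Vsp pb j ∧ ∀ i, j = i + 1 → (∀ y ∈ Vsp pb i, ℓ (pb.gen * (Q * y)) = 0) ∧ ℓ Q = 1

theorem perp_succ (ℓ : E →ₗ[k] k) {j : ℕ} (hj : j + 1 ≤ pb.dim) {x : E} (h0 : ℓ x = 0)
    (h1 : ∀ y ∈ Vsp pb j, ℓ (pb.gen * (x * y)) = 0) : ∀ y ∈ Vsp pb (j + 1), ℓ (x * y) = 0 := by
  intro y hy
  obtain ⟨y', hy', hyy⟩ := exists_decomp pb hj hy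
  rw [hyy]
  have : x * (algebraMap k E (eps0 pb y) + pb.gen * y') = eps0 pb y • x + pb.gen * (x * y') := by
    rw [Algebra.smul_def]; ring
  rw [this, map_add, map_smul, h0, smul_zero, zero_add, h1 y' hy']

theorem LP (ℓ : E →ₗ[k] k) {j : ℕ} (hj : j + 1 ≤ pb.dim) (hNd : Nd pb (shiftF pb ℓ) j) {P : E}
    (hP : IsP pb ℓ j P) {x : E} (hx : x ∈ Vsp pb (j + 1))
    (hperp : ∀ y ∈ Vsp pb j, ℓ (x * y) = 0) :
    x = algebraMap k E (eps0 pb x) * P := by
  have hzmem : x - algebraMap k E (eps0 pb x) * P ∈ Vsp pb (j + 1) := by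
    apply Submodule.sub_mem _ hx
    rw [← Algebra.smul_def]
    exact Submodule.smul_mem _ _ hP.mem
  have hz0 : eps0 pb (x - algebraMap k E (eps0 pb x) * P) = 0 := by
    rw [map_sub, ← Algebra.smul_def, map_smul, hP.eps, smul_eq_mul, mul_one, sub_self]
  obtain ⟨z', hz', hzz⟩ := exists_mul_of_eps0_zero pb hj hzmem hz0
  have : z' = 0 := by
    apply hNd z' hz'
    intro y hy
    rw [shiftF_apply, ← mul_assoc, ← hzz, sub_mul, map_sub, hperp y hy, ← Algebra.smul_def,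
      smul_mul_assoc, map_smul, hP.perp y hy, smul_zero, sub_zero]
  rw [this, mul_zero] at hzz
  exact sub_eq_zero.mp hzz

theorem LQ (ℓ : E →ₗ[k] k) {j : ℕ} (hj : j + 1 ≤ pb.dim) (hNd : Nd pb ℓ (j + 1)) {Q : E}
    (hQ : IsQ pb ℓ (j + 1) Q) {y : E} (hy : y ∈ Vsp pb (j + 1))
    (hperp : ∀ w ∈ Vsp pb j, ℓ (pb.gen * (y * w)) = 0) :
    y = algebraMap k E (ℓ y) * Q := by
  obtain ⟨hQperp, hQ1⟩ := hQ.2 j rfl
  have hzmem : y - algebraMap k E (ℓ y) * Q ∈ Vsp pb (j + 1) := by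
    apply Submodule.sub_mem _ hy
    rw [← Algebra.smul_def]
    exact Submodule.smul_mem _ _ hQ.1
  have hz0 : ℓ (y - algebraMap k E (ℓ y) * Q) = 0 := by
    rw [map_sub, ← Algebra.smul_def, map_smul, hQ1, smul_eq_mul, mul_one, sub_self]
  have hz1 : ∀ w ∈ Vsp pb j, ℓ (pb.gen * ((y - algebraMap k E (ℓ y) * Q) * w)) = 0 := by
    intro w hw
    rw [sub_mul, mul_sub, map_sub, hperp w hw, ← Algebra.smul_def, smul_mul_assoc,
      mul_smul_comm, map_smul, hQperp w hw, smul_zero, sub_zero]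
  have := hNd _ hzmem (perp_succ pb ℓ hj hz0 hz1)
  exact sub_eq_zero.mp this

theorem exists_Q (ℓ : E →ₗ[k] k) {j : ℕ} (hj : j + 1 ≤ pb.dim) (hNd : Nd pb ℓ (j + 1)) :
    ∃ Q, IsQ pb ℓ (j + 1) Q := by
  obtain ⟨x, hx, hx0, hperp⟩ := exists_perp pb (shiftF pb ℓ) (Nat.lt_succ_self j) hj
  have hℓ : ℓ x ≠ 0 := by
    intro h0
    apply hx0
    apply hNd x hx
    apply perp_succ pb ℓ hj h0
    intro y hy
    have := hperp y hy
    rwa [shiftF_apply] at this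
  refine ⟨(ℓ x)⁻¹ • x, Submodule.smul_mem _ _ hx, ?_⟩
  intro i hi
  obtain rfl : i = j := by omega
  refine ⟨?_, ?_⟩
  · intro y hy
    rw [smul_mul_assoc, mul_smul_comm, map_smul, ← shiftF_apply, hperp y hy, smul_zero]
  · rw [map_smul, smul_eq_mul, inv_mul_cancel₀ hℓ]

theorem exists_P (ℓ : E →ₗ[k] k) {j : ℕ} (hj : j + 2 ≤ pb.dim)
    (hNd : Nd pb (shiftF pb ℓ) (j + 1)) : ∃ P, IsP pb ℓ (j + 1) P := by
  obtain ⟨x, hx, hx0, hperp⟩ := exists_perp pb ℓ (Nat.lt_succ_self (j + 1)) hj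
  have he : eps0 pb x ≠ 0 := by
    intro h0
    obtain ⟨y, hy, hxy⟩ := exists_mul_of_eps0_zero pb (j := j + 1) hj hx h0
    apply hx0
    have : y = 0 := by
      apply hNd y hy
      intro w hw
      rw [shiftF_apply, ← mul_assoc, ← hxy]
      exact hperp w hw
    rw [hxy, this, mul_zero]
  refine ⟨(eps0 pb x)⁻¹ • x, Submodule.smul_mem _ _ hx, ?_, ?_⟩
  · intro y hy
    rw [smul_mul_assoc, map_smul, hperp y hy, smul_zero]
  · rw [map_smul, smul_eq_mul, inv_mul_cancel₀ he]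

theorem step (ℓ : E →ₗ[k] k) (hNd : ∀ i, 1 ≤ i → i + 1 ≤ pb.dim → Nd pb ℓ i)
    (hNd' : ∀ i, 1 ≤ i → i + 1 ≤ pb.dim → Nd pb (shiftF pb ℓ) i)
    {j : ℕ} (hj : j + 2 ≤ pb.dim) {P Q : E} (hP : IsP pb ℓ j P) (hQ : IsQ pb ℓ j Q) :
    ∃ c d : k, IsQ pb ℓ (j + 1) (Q + algebraMap k E c * P) ∧
      IsP pb ℓ (j + 1) (P + (algebraMap k E d * pb.gen) * (Q + algebraMap k E c * P)) := by
  obtain ⟨Q', hQ'⟩ := exists_Q pb ℓ (j := j) (by omega) (hNd (j + 1) (by omega) (by omega))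
  obtain ⟨P', hP'⟩ := exists_P pb ℓ hj (hNd' (j + 1) (by omega) (by omega))
  have hNd'j : Nd pb (shiftF pb ℓ) j := by
    rcases j with _ | j
    · exact Nd_zero pb _
    · exact hNd' _ (by omega) (by omega)
  have h1 : Q' - Q = algebraMap k E (eps0 pb (Q' - Q)) * P := by
    apply LP pb ℓ (by omega) hNd'j hP
    · exact Submodule.sub_mem _ hQ'.1 (Vsp_mono pb (Nat.le_succ j) hQ.1)
    · rcases j with _ | j
      · intro y hy
        rw [eq_zero_of_mem_Vsp_zero pb hy, mul_zero, map_zero]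
      · obtain ⟨hQ'perp, hQ'1⟩ := hQ'.2 (j + 1) rfl
        obtain ⟨hQperp, hQ1⟩ := hQ.2 j rfl
        apply perp_succ pb ℓ (by omega)
        · rw [map_sub, hQ'1, hQ1, sub_self]
        · intro y hy
          rw [sub_mul, mul_sub, map_sub, hQ'perp y (Vsp_mono pb (Nat.le_succ j) hy),
            hQperp y hy, sub_zero]
  have hQ'eq : Q + algebraMap k E (eps0 pb (Q' - Q)) * P = Q' := by
    rw [← h1]; ring
  have h2 : eps0 pb (P' - P) = 0 := by rw [map_sub, hP'.eps, hP.eps, sub_self]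
  obtain ⟨y, hy, hPy⟩ := exists_mul_of_eps0_zero pb (j := j + 1) (by omega)
    (Submodule.sub_mem _ hP'.mem (Vsp_mono pb (Nat.le_succ _) hP.mem)) h2
  have h3 : y = algebraMap k E (ℓ y) * Q' := by
    apply LQ pb ℓ (by omega) (hNd (j + 1) (by omega) (by omega)) hQ' hy
    intro w hw
    rw [← mul_assoc, ← hPy, sub_mul, map_sub, hP'.perp w (Vsp_mono pb (Nat.le_succ j) hw),
      hP.perp w hw, sub_zero]
  refine ⟨eps0 pb (Q' - Q), ℓ y, ?_, ?_⟩
  · rw [hQ'eq]; exact hQ'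
  · rw [hQ'eq]
    have h4 : P + algebraMap k E (ℓ y) * pb.gen * Q' = P' := by
      have h5 : P' = P + pb.gen * y := by rw [← hPy]; ring
      rw [h5]
      conv_rhs => rw [h3]
      ring
    rw [h4]; exact hP'

theorem claim (ℓ : E →ₗ[k] k) (hNd : ∀ i, 1 ≤ i → i + 1 ≤ pb.dim → Nd pb ℓ i)
    (hNd' : ∀ i, 1 ≤ i → i + 1 ≤ pb.dim → Nd pb (shiftF pb ℓ) i) (j : ℕ)
    (hj : j + 1 ≤ pb.dim) :
    ∃ g ∈ Gen k pb.gen, IsP pb ℓ j (g.1 0 0) ∧ IsQ pb ℓ j (g.1 0 1) := by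
  induction j with
  | zero =>
    refine ⟨1, one_mem _, ⟨?_, ?_, ?_⟩, ?_, ?_⟩
    · rw [one_00]; exact one_mem_Vsp pb
    · intro y hy
      rw [eq_zero_of_mem_Vsp_zero pb hy, mul_zero, map_zero]
    · rw [one_00]; exact eps0_one pb
    · rw [one_01]; exact Submodule.zero_mem _
    · intro i hi
      omega
  | succ j ih =>
    obtain ⟨g, hg, hP, hQ⟩ := ih (by omega)
    obtain ⟨c, d, hQ', hP'⟩ := step pb ℓ hNd hNd' (by omega) hP hQ
    refine ⟨g * uM (algebraMap k E c) * lM (algebraMap k E d * pb.gen), ?_, ?_, ?_⟩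
    · exact mul_mem (mul_mem hg (uM_mem_Gen _ c)) (lM_mem_Gen _ d)
    · simp only [mul_00, mul_01, uM_00, uM_01, uM_10, uM_11, lM_00, lM_10, mul_one, mul_zero,
        add_zero]
      convert hP' using 1
      ring
    · simp only [mul_00, mul_01, uM_00, uM_01, uM_10, uM_11, lM_01, lM_11, mul_one, mul_zero,
        add_zero, zero_add]
      convert hQ' using 1
      ring

theorem mem_Vsp_one {x : E} (hx : x ∈ Vsp pb 1) : ∃ c : k, x = algebraMap k E c := by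
  rw [mem_Vsp] at hx
  obtain ⟨p, hp, rfl⟩ := hx
  refine ⟨p.coeff 0, ?_⟩
  have : p = C (p.coeff 0) := by
    ext m
    rcases m with _ | m
    · simp
    · rw [hp _ (by omega), coeff_C, if_neg (by omega)]
  conv_lhs => rw [this]
  simp

theorem step1_of_generic (ℓ : E →ₗ[k] k) (hNd : ∀ i, 1 ≤ i → i + 1 ≤ pb.dim → Nd pb ℓ i)
    (hNd' : ∀ i, 1 ≤ i → i + 1 ≤ pb.dim → Nd pb (shiftF pb ℓ) i) (hn : 2 ≤ pb.dim) :
    ∃ g ∈ Gen k pb.gen, g.1 0 0 = 0 := by
  obtain ⟨j, hjn⟩ : ∃ j, pb.dim = j + 2 := ⟨pb.dim - 2, by omega⟩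
  obtain ⟨g, hg, hP, hQ⟩ := claim pb ℓ hNd hNd' (j + 1) (by omega)
  obtain ⟨hQperp, hQ1⟩ := hQ.2 j rfl
  have hθ : pb.gen ≠ 0 := by
    intro h0
    have := eq_zero_of_aeval_eq_zero pb (p := X) (by
      intro m hm
      rw [coeff_X, if_neg (by omega)]) (by simpa using h0)
    exact X_ne_zero this
  obtain ⟨x, hPx⟩ : ∃ x, g.1 0 0 = pb.gen * x := ⟨g.1 0 0 / pb.gen, by field_simp⟩
  have hzeq : x - algebraMap k E (ℓ x) * g.1 0 1
      = algebraMap k E (eps0 pb (x - algebraMap k E (ℓ x) * g.1 0 1)) * g.1 0 0 := by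
    apply LP pb ℓ (j := j + 1) (by omega) (hNd' (j + 1) (by omega) (by omega)) hP
    · exact mem_Vsp_of_dim_le pb (by omega) _
    · apply perp_succ pb ℓ (by omega)
      · rw [map_sub, ← Algebra.smul_def, map_smul, hQ1, smul_eq_mul, mul_one, sub_self]
      · intro y hy
        rw [sub_mul, mul_sub, map_sub, ← mul_assoc, ← hPx,
          hP.perp y (Vsp_mono pb (Nat.le_succ j) hy), ← Algebra.smul_def, smul_mul_assoc,
          mul_smul_comm, map_smul, hQperp y hy, smul_zero, sub_zero]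
  set e := eps0 pb (x - algebraMap k E (ℓ x) * g.1 0 1) with he
  have hℓx : ℓ x ≠ 0 := by
    intro h0
    rw [h0, map_zero, zero_mul, sub_zero, hPx] at hzeq
    have hx0 : x ≠ 0 := by
      intro hx0
      have := hP.eps
      rw [hPx, hx0, mul_zero, map_zero] at this
      exact zero_ne_one this
    have h1 : algebraMap k E e * pb.gen = 1 := by
      have : x * (algebraMap k E e * pb.gen - 1) = 0 := by
        rw [mul_sub, mul_one]
        conv_lhs => rhs; rw [hzeq]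
        ring
      rcases mul_eq_zero.mp this with h | h
      · exact absurd h hx0
      · exact sub_eq_zero.mp h
    have := eq_zero_of_aeval_eq_zero pb (p := C e * X - 1) (by
      intro m hm
      rw [coeff_sub, coeff_C_mul, coeff_X, coeff_one, if_neg (by omega), if_neg (by omega)]
      simp) (by simp [h1])
    have h2 := congrArg (fun p => p.coeff 0) this
    simp at h2
  refine ⟨g * uM (algebraMap k E (e / ℓ x)) * lM (algebraMap k E (-ℓ x) * pb.gen),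
    mul_mem (mul_mem hg (uM_mem_Gen _ _)) (lM_mem_Gen _ _), ?_⟩
  simp only [mul_00, mul_01, uM_00, uM_01, uM_10, uM_11, lM_00, lM_10, mul_one, mul_zero,
    add_zero]
  have hne : algebraMap k E (ℓ x) ≠ 0 := by
    rw [Ne, map_eq_zero_iff _ (algebraMap k E).injective]
    exact hℓx
  have hx2 : x = algebraMap k E (ℓ x) * g.1 0 1 + algebraMap k E e * g.1 0 0 := by
    rw [← hzeq]; ring
  rw [map_div₀, map_neg]
  have : g.1 0 0 + (g.1 0 0 * (algebraMap k E e / algebraMap k E (ℓ x)) + g.1 0 1) *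
      (-algebraMap k E (ℓ x) * pb.gen)
      = g.1 0 0 - pb.gen * (algebraMap k E (ℓ x) * g.1 0 1 + algebraMap k E e * g.1 0 0) := by
    field_simp
    ring
  rw [this, ← hx2, ← hPx, sub_self]

theorem step1_infinite [Infinite k] (hne : pb.gen ≠ 0) : ∃ g ∈ Gen k pb.gen, g.1 0 0 = 0 := by
  by_cases hn : 2 ≤ pb.dim
  · obtain ⟨ℓ, hNd, hNd'⟩ := exists_generic pb
    exact step1_of_generic pb ℓ hNd hNd' hn
  · have hdim : pb.dim ≤ 1 := by omega
    obtain ⟨c, hc⟩ := mem_Vsp_one pb (mem_Vsp_of_dim_le pb hdim pb.gen)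
    have hc0 : c ≠ 0 := by
      rintro rfl
      rw [map_zero] at hc
      exact hne hc
    refine ⟨uM (algebraMap k E 1) * lM (algebraMap k E (-c⁻¹) * pb.gen),
      mul_mem (uM_mem_Gen _ _) (lM_mem_Gen _ _), ?_⟩
    rw [mul_00]
    simp only [uM_00, uM_01, lM_00, lM_10, mul_one, map_one, one_mul]
    conv_lhs => rw [hc]
    rw [← map_mul, ← map_one (algebraMap k E), ← map_add]
    rw [neg_mul, inv_mul_cancel₀ hc0, add_neg_cancel, map_zero]

end Cfsg.Agent.Lib.Helper42.SL2AlgGen
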