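import Mathlib
import Cfsg.Agent.Lib.Helper42.SL2AlgGenC
import Cfsg.Agent.Lib.Helper42.SL2AlgGenD4

set_option autoImplicit false
set_option linter.unusedSimpArgs false
set_option linter.unusedVariables false

namespace Cfsg.Agent.Lib.Helper42.SL2AlgGen

open Matrix Polynomial IntermediateField

variable {k K : Type*} [Field k] [Field K] [Algebra k K]

theorem forall_ij {P : Fin 2 → Fin 2 → Prop} (h00 : P 0 0) (h01 : P 0 1) (h10 : P 1 0)
    (h11 : P 1 1) : ∀ i j, P i j := by
  intro i j
  fin_cases i <;> fin_cases j <;> assumption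

/-- Step 1 for an algebraic element -/
theorem step1_alg (α : K) (hα : IsAlgebraic k α) (hα0 : α ≠ 0) :
    ∃ g ∈ Gen k α, g.1 0 0 = 0 := by
  have hint : IsIntegral k α := hα.isIntegral
  let pb := IntermediateField.adjoin.powerBasis hint
  have hgen : pb.gen = AdjoinSimple.gen k α := IntermediateField.adjoin.powerBasis_gen hint
  have hgenα : algebraMap k⟮α⟯ K pb.gen = α := by
    rw [hgen, AdjoinSimple.algebraMap_gen]
  have hgen0 : pb.gen ≠ 0 := by
    intro h
    apply hα0
    rw [← hgenα, h, map_zero]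
  have h1 : ∃ g ∈ Gen k pb.gen, g.1 0 0 = 0 := by
    rcases finite_or_infinite k with hfin | hinf
    · have : FiniteDimensional k k⟮α⟯ := IntermediateField.adjoin.finiteDimensional hint
      have : Finite k⟮α⟯ := Module.finite_of_finite k
      exact step1_finite pb.gen hgen0
    · exact step1_infinite pb hgen0
  obtain ⟨g, hg, h0⟩ := h1
  let φ : SL2 k⟮α⟯ →* SL2 K := Matrix.SpecialLinearGroup.map (algebraMap k⟮α⟯ K)
  have hφ : ∀ (x : SL2 k⟮α⟯) (i j : Fin 2), (φ x).1 i j = algebraMap k⟮α⟯ K (x.1 i j) := by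
    intro x i j
    rfl
  refine ⟨φ g, ?_, ?_⟩
  · apply map_mem_of_gen pb.gen φ (Gen k α) ?_ ?_ hg
    · intro c
      have : φ (uM (algebraMap k k⟮α⟯ c)) = uM (algebraMap k K c) := by
        apply ext2 <;> simp only [hφ, uM_00, uM_01, uM_10, uM_11, map_one, map_zero]
        rw [← IsScalarTower.algebraMap_apply]
      rw [this]
      exact uM_mem_Gen α c
    · intro c
      have : φ (lM (algebraMap k k⟮α⟯ c * pb.gen)) = lM (algebraMap k K c * α) := by
        apply ext2 <;> simp only [hφ, lM_00, lM_01, lM_10, lM_11, map_one, map_zero]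
        rw [map_mul, hgenα, ← IsScalarTower.algebraMap_apply]
      rw [this]
      exact lM_mem_Gen α c
  · rw [hφ, h0, map_zero]

/-- every element of the generated group has entries in `k(α)` -/
theorem entries_mem_of_mem_Gen (α : K) {g : SL2 K} (hg : g ∈ Gen k α) :
    ∀ i j, g.1 i j ∈ k⟮α⟯ := by
  have hα : α ∈ k⟮α⟯ := mem_adjoin_simple_self k α
  unfold Gen at hg
  induction hg using Subgroup.closure_induction with
  | mem x hx =>
    rcases hx with ⟨c, rfl⟩ | ⟨c, rfl⟩
    · refine forall_ij ?_ ?_ ?_ ?_ <;> simp only [uM_00, uM_01, uM_10, uM_11]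
      · exact one_mem _
      · exact IntermediateField.algebraMap_mem _ c
      · exact zero_mem _
      · exact one_mem _
    · refine forall_ij ?_ ?_ ?_ ?_ <;> simp only [lM_00, lM_01, lM_10, lM_11]
      · exact one_mem _
      · exact zero_mem _
      · exact mul_mem (IntermediateField.algebraMap_mem _ c) hα
      · exact one_mem _
  | one =>
    refine forall_ij ?_ ?_ ?_ ?_
    · rw [one_00]; exact one_mem _
    · rw [one_01]; exact zero_mem _
    · rw [one_10]; exact zero_mem _
    · rw [one_11]; exact one_mem _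
  | mul x y _ _ hx hy =>
    refine forall_ij ?_ ?_ ?_ ?_
    · rw [mul_00]; exact add_mem (mul_mem (hx 0 0) (hy 0 0)) (mul_mem (hx 0 1) (hy 1 0))
    · rw [mul_01]; exact add_mem (mul_mem (hx 0 0) (hy 0 1)) (mul_mem (hx 0 1) (hy 1 1))
    · rw [mul_10]; exact add_mem (mul_mem (hx 1 0) (hy 0 0)) (mul_mem (hx 1 1) (hy 1 0))
    · rw [mul_11]; exact add_mem (mul_mem (hx 1 0) (hy 0 1)) (mul_mem (hx 1 1) (hy 1 1))
  | inv x _ hx =>
    refine forall_ij ?_ ?_ ?_ ?_
    · rw [inv_00]; exact hx 1 1
    · rw [inv_01]; exact neg_mem (hx 0 1)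
    · rw [inv_10]; exact neg_mem (hx 1 0)
    · rw [inv_11]; exact hx 0 0

/-- the main theorem: the generated group is `SL₂(k(α))` -/
theorem mem_Gen_iff (hk : ∃ t : k, t ≠ 0 ∧ t ^ 2 ≠ 1) (α : K) (hα : IsAlgebraic k α)
    (hα0 : α ≠ 0) (g : SL2 K) : g ∈ Gen k α ↔ ∀ i j, g.1 i j ∈ k⟮α⟯ := by
  constructor
  · exact entries_mem_of_mem_Gen α
  · intro hg
    have h1 := step1_alg (k := k) α hα hα0
    have h2 := step1_alg (k := k) (α ^ 2) (hα.pow 2) (pow_ne_zero 2 hα0)
    have hl1 : lM (1 : K) ∈ Gen k α := lM_one_mem α hα0 hk h1 h2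
    have hrange : ∀ a ∈ k⟮α⟯, ∃ p : k[X], aeval α p = a := by
      intro a ha
      have h3 : a ∈ k⟮α⟯.toSubalgebra := ha
      rw [IntermediateField.adjoin_simple_toSubalgebra_of_isAlgebraic hα,
        Algebra.adjoin_singleton_eq_range_aeval] at h3
      exact h3
    apply mem_of_elementary (Gen k α) k⟮α⟯.toSubfield
    · intro a ha
      obtain ⟨p, rfl⟩ := hrange a ha
      exact uM_aeval_mem α hα0 hl1 p
    · intro a ha
      obtain ⟨p, rfl⟩ := hrange a ha
      exact lM_aeval_mem α hα0 hl1 p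
    · exact hg

theorem exists_t_of (hk2 : ringChar k ≠ 2) (hk3 : Nat.card k ≠ 3) :
    ∃ t : k, t ≠ 0 ∧ t ^ 2 ≠ 1 := by
  by_contra hcon
  push Not at hcon
  apply hk3
  have h2 : (2 : k) ≠ 0 := by
    intro h
    apply hk2
    have hdvd : ringChar k ∣ 2 := by
      rw [← ringChar.spec k]
      exact_mod_cast h
    rcases (Nat.dvd_prime Nat.prime_two).mp hdvd with h1 | h1
    · exact absurd h1 CharP.ringChar_ne_one
    · exact h1
  have huniv : (Set.univ : Set k) = {0, 1, -1} := by
    ext t
    simp only [Set.mem_univ, Set.mem_insert_iff, Set.mem_singleton_iff, true_iff]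
    by_cases ht : t = 0
    · exact Or.inl ht
    · right
      have h3 := hcon t ht
      have h4 : (t - 1) * (t + 1) = 0 := by linear_combination h3
      rcases mul_eq_zero.mp h4 with h | h
      · left; exact sub_eq_zero.mp h
      · right; exact eq_neg_of_add_eq_zero_left h
  rw [← Set.ncard_univ, huniv, Set.ncard_insert_of_notMem, Set.ncard_pair]
  · intro h
    apply h2
    linear_combination h
  · simp only [Set.mem_insert_iff, Set.mem_singleton_iff, not_or]
    refine ⟨zero_ne_one, ?_⟩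
    intro h
    have : (1 : k) = 0 := by linear_combination h
    exact one_ne_zero this

/-- the statement's generating set is `genSet` -/
theorem genSet_eq (α : K) :
    ({g : Matrix.SpecialLinearGroup (Fin 2) K |
        ∃ c : k, (g : Matrix (Fin 2) (Fin 2) K) = !![1, algebraMap k K c; 0, 1]} ∪
      {g : Matrix.SpecialLinearGroup (Fin 2) K |
        ∃ c : k, (g : Matrix (Fin 2) (Fin 2) K) = !![1, 0; algebraMap k K c * α, 1]})
      = genSet k α := by
  unfold genSet
  congr 1
  · ext g
    constructor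
    · rintro ⟨c, h⟩
      exact ⟨c, Subtype.ext h⟩
    · rintro ⟨c, rfl⟩
      exact ⟨c, rfl⟩
  · ext g
    constructor
    · rintro ⟨c, h⟩
      exact ⟨c, Subtype.ext h⟩
    · rintro ⟨c, rfl⟩
      exact ⟨c, rfl⟩

end Cfsg.Agent.Lib.Helper42.SL2AlgGen
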