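import Cfsg.Agent.Lib.Helper53.SUReg.Basic

/-!
# S2282 (owner helper53), modules [PUREB] and [MIX] (helper42)

Abstract group theory in a `URootSys` with a `UGen` subgroup `H`:
* `pureB_mem`: `S 0 1 t ∈ H ⇒ S m 2 (s₁ t φ) ∈ H` (`m ≥ 3`);
* `D_mem`: all `T k x₀ * (T j x₀)⁻¹ ∈ H` once all `S 0 1 s ∈ H`;
* `mix_mem`: the mixed commutator `⁅T 0 x (T 1 x)⁻¹, S m (m-1) s⁆`.
-/

set_option autoImplicit false
set_option linter.unusedVariables false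

namespace Cfsg.Agent.Lib.Helper42.SUReg

open Cfsg.Agent.Lib.Helper53.SUReg

/-- `⁅A B C, y⁆ = Z` when `C`, `A` commute with `y`, `A` commutes with `Z` and `B y = Z y B` -/
theorem comm_ABC {G : Type*} [Group G] {A B C y Z : G} (hCy : Commute C y) (hAy : Commute A y)
    (hAZ : Commute A Z) (hrel : B * y = Z * y * B) :
    (A * B * C) * y * (A * B * C)⁻¹ * y⁻¹ = Z := by
  have e1 : C * y * C⁻¹ = y := by rw [hCy.eq, mul_inv_cancel_right]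
  have e2 : B * y * B⁻¹ = Z * y := by rw [hrel, mul_inv_cancel_right]
  have e3 : y * A⁻¹ = A⁻¹ * y := (hAy.symm.inv_right).eq
  calc (A * B * C) * y * (A * B * C)⁻¹ * y⁻¹
      = A * (B * (C * y * C⁻¹) * B⁻¹) * A⁻¹ * y⁻¹ := by group
    _ = A * (B * y * B⁻¹) * A⁻¹ * y⁻¹ := by rw [e1]
    _ = A * (Z * y) * A⁻¹ * y⁻¹ := by rw [e2]
    _ = A * Z * (y * A⁻¹) * y⁻¹ := by group
    _ = A * Z * (A⁻¹ * y) * y⁻¹ := by rw [e3]
    _ = A * Z * A⁻¹ := by group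
    _ = Z := by rw [hAZ.eq, mul_inv_cancel_right]

/-- `⁅a z, b⁆ = X` when `z` commutes with `b` and `a b = X b a` -/
theorem comm_az {G : Type*} [Group G] {a z b X : G} (hzb : Commute z b) (hrel : a * b = X * b * a) :
    (a * z) * b * (a * z)⁻¹ * b⁻¹ = X := by
  have e1 : z * b * z⁻¹ = b := by rw [hzb.eq, mul_inv_cancel_right]
  calc (a * z) * b * (a * z)⁻¹ * b⁻¹ = a * (z * b * z⁻¹) * a⁻¹ * b⁻¹ := by group
    _ = a * b * a⁻¹ * b⁻¹ := by rw [e1]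
    _ = X := by rw [hrel]; group

variable {F : Type*} [Field F] {σ : F →+* F} {G : Type*} [Group G] {m : ℕ} {φ : F}
variable {R : URootSys F σ G m φ} {H : Subgroup G} {x₀ s₀ s₁ : F}

/-- S2282-[PUREB] -/
theorem pureB_mem (hm : 3 ≤ m) (h : UGen R H x₀ s₀ s₁) (t : F) (ht : R.S 0 1 t ∈ H) :
    R.S (m : ℤ) 2 (s₁ * t * φ) ∈ H := by
  have hX := h.hX ((m : ℤ) - 1) (m : ℤ)
  have hy : R.S 1 2 t ∈ H := (h.S_mem_iff 0 1 1 2 (by ring) t).mp ht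
  have hCy : Commute (R.T ((m : ℤ) - 1) x₀ * R.S ((m : ℤ) - 1) ((m : ℤ) - 1 + 1) s₁)⁻¹
      (R.S 1 2 t) := by
    apply Commute.inv_left
    apply Commute.mul_left
    · exact R.TS_comm _ _ _ _ _ (abs_lt.mpr ⟨by omega, by omega⟩) (abs_lt.mpr ⟨by omega, by omega⟩)
    · exact R.SS_comm _ _ _ _ _ _ (abs_lt.mpr ⟨by omega, by omega⟩) (abs_lt.mpr ⟨by omega, by omega⟩)
        (abs_lt.mpr ⟨by omega, by omega⟩) (abs_lt.mpr ⟨by omega, by omega⟩)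
  have hAy : Commute (R.T (m : ℤ) x₀) (R.S 1 2 t) :=
    R.TS_comm _ _ _ _ _ (abs_lt.mpr ⟨by omega, by omega⟩) (abs_lt.mpr ⟨by omega, by omega⟩)
  have hAZ : Commute (R.T (m : ℤ) x₀) (R.S (m : ℤ) 2 (s₁ * t * φ)) :=
    R.TS_comm _ _ _ _ _ (abs_lt.mpr ⟨by omega, by omega⟩) (abs_lt.mpr ⟨by omega, by omega⟩)
  have hrel : R.S (m : ℤ) ((m : ℤ) + 1) s₁ * R.S 1 2 t =
      R.S (m : ℤ) 2 (s₁ * t * φ) * R.S 1 2 t * R.S (m : ℤ) ((m : ℤ) + 1) s₁ := by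
    have h1 := R.rel_SSa (m : ℤ) ((m : ℤ) + 1) 2 s₁ t (by omega) (by omega) (by omega) (by omega)
      (by omega)
    have h2 : (m : ℤ) + 1 - (m : ℤ) = 1 := by ring
    rw [h2] at h1
    exact h1
  have key := comm_ABC hCy hAy hAZ hrel
  rw [← key]
  exact H.mul_mem (H.mul_mem (H.mul_mem hX hy) (H.inv_mem hX)) (H.inv_mem hy)

/-- S2282-[MIX], first lemma -/
theorem D_mem (hm : 2 ≤ m) (h : UGen R H x₀ s₀ s₁) (hS : ∀ s : F, R.S 0 1 s ∈ H) (j k : ℤ) :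
    R.T k x₀ * (R.T j x₀)⁻¹ ∈ H := by
  have hX := h.hX j k
  have hb : R.S k (k + 1) s₁ ∈ H := (h.S_mem_iff 0 1 k (k + 1) (by ring) s₁).mp (hS s₁)
  have hd : R.S j (j + 1) s₁ ∈ H := (h.S_mem_iff 0 1 j (j + 1) (by ring) s₁).mp (hS s₁)
  have hab : Commute (R.T k x₀) (R.S k (k + 1) s₁) :=
    R.TS_comm _ _ _ _ _ (abs_lt.mpr ⟨by omega, by omega⟩) (abs_lt.mpr ⟨by omega, by omega⟩)
  have hcd : Commute (R.T j x₀) (R.S j (j + 1) s₁) :=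
    R.TS_comm _ _ _ _ _ (abs_lt.mpr ⟨by omega, by omega⟩) (abs_lt.mpr ⟨by omega, by omega⟩)
  have key : R.T k x₀ * (R.T j x₀)⁻¹ = (R.S k (k + 1) s₁)⁻¹ *
      ((R.T k x₀ * R.S k (k + 1) s₁) * (R.T j x₀ * R.S j (j + 1) s₁)⁻¹) * R.S j (j + 1) s₁ := by
    have e1 : R.T k x₀ * R.S k (k + 1) s₁ = R.S k (k + 1) s₁ * R.T k x₀ := hab.eq
    have e2 : R.T j x₀ * R.S j (j + 1) s₁ = R.S j (j + 1) s₁ * R.T j x₀ := hcd.eq
    rw [e1, e2]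
    group
  rw [key]
  exact H.mul_mem (H.mul_mem (H.inv_mem hb) hX) hd

/-- S2282-[MIX], second lemma -/
theorem mix_mem (hm : 2 ≤ m) (h : UGen R H x₀ s₀ s₁) (x s : F)
    (hD : R.T 0 x * (R.T 1 x)⁻¹ ∈ H) (hs : R.S (m : ℤ) ((m : ℤ) - 1) s ∈ H) :
    R.S 0 ((m : ℤ) - 1) (s * (x - σ x) * σ φ) *
      R.T ((m : ℤ) - 1) (-(s * φ * σ (s * φ) * x)) ∈ H := by
  have hzb : Commute (R.T 1 x)⁻¹ (R.S (m : ℤ) ((m : ℤ) - 1) s) := by
    apply Commute.inv_left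
    exact R.TS_comm _ _ _ _ _ (abs_lt.mpr ⟨by omega, by omega⟩) (abs_lt.mpr ⟨by omega, by omega⟩)
  have hrel : R.T 0 x * R.S (m : ℤ) ((m : ℤ) - 1) s =
      (R.S 0 ((m : ℤ) - 1) (s * (x - σ x) * σ φ) *
        R.T ((m : ℤ) - 1) (-(s * φ * σ (s * φ) * x))) * R.S (m : ℤ) ((m : ℤ) - 1) s * R.T 0 x := by
    have h1 := R.rel_TSp 0 ((m : ℤ) - 1) x s (by omega) (by omega)
    rw [zero_add] at h1
    exact h1
  have key := comm_az hzb hrel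
  rw [← key]
  exact H.mul_mem (H.mul_mem (H.mul_mem hD hs) (H.inv_mem hD)) (H.inv_mem hs)

end Cfsg.Agent.Lib.Helper42.SUReg
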