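import Cfsg.Agent.Lib.Helper53.SUReg.Basic
import Cfsg.Agent.Lib.Helper36.SURegCmulE
import Cfsg.Agent.Lib.Helper36.SURegAlgA1
import Cfsg.Agent.Lib.Helper42.SURegPureBMix

/-!
# S2282 (owner helper53), module [A1TOP] (helper42): all width-1 Siegel elements

`S01_all`: `A = {s | S 0 1 s ∈ H}` contains `s₀ ≠ 0` (PUREA + CMULE) and is stable under multiplication by `ζ`
(PUREB + CMULE), hence under `σ ζ = ζ ^ k`; by helper36's `alg_A1` it is everything.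
-/

set_option autoImplicit false
set_option linter.unusedVariables false

namespace Cfsg.Agent.Lib.Helper42.SUReg

open Cfsg.Agent.Lib.Helper53.SUReg Cfsg.Agent.Lib.Helper36.SUReg

variable {F : Type*} [Field F] {σ : F →+* F} {G : Type*} [Group G] {m : ℕ} {φ : F}
variable {R : URootSys F σ G m φ} {H : Subgroup G} {x₀ s₀ s₁ : F}

/-- S2282-[A1TOP] -/
theorem S01_all (hm : 3 ≤ m) (hσ2 : ∀ x, σ (σ x) = x) (h : UGen R H x₀ s₀ s₁) (ζ : F)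
    (h0 : s₀ * φ = 1) (h1 : s₁ * φ = ζ) (hζ : σ ζ ≠ ζ) (hζq : ∃ k : ℕ, σ ζ = ζ ^ k)
    (hθ : ∀ y : F, σ y = y → y ≠ 0 → ∃ j : ℕ, y = (ζ + σ ζ) ^ j) :
    ∀ s : F, R.S 0 1 s ∈ H := by
  have hs₀ne : s₀ ≠ 0 := by
    rintro rfl
    rw [zero_mul] at h0
    exact zero_ne_one h0
  have hσ0 : σ s₀ * σ φ = 1 := by rw [← map_mul, h0, map_one]
  -- (1) `s₀ ∈ A`
  have hA0 : s₀ ∈ R.Sset H 0 1 := by
    have p1 := pureA_mem hm hσ2 h
    have e1 : σ s₀ * σ s₀ * σ φ = σ s₀ := by rw [mul_assoc, hσ0, mul_one]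
    rw [e1] at p1
    have e2 : (m : ℤ) + 1 - (m : ℤ) = 1 := by ring
    have p2 := cmulE_mem hm h ((m : ℤ) + 1) ((m : ℤ) - 1) (by omega) (by omega) (σ s₀)
      (by rw [e2]; exact p1)
    have e3 : (m : ℤ) + 1 - 1 = (m : ℤ) := by ring
    have e4 : s₀ * σ s₀ * φ = σ s₀ := by rw [mul_comm s₀, mul_assoc, h0, mul_one]
    rw [e3, e4, R.S_symm ((m : ℤ) - 1) (m : ℤ) (σ s₀), hσ2] at p2
    have p3 : R.S 0 1 (-s₀) ∈ H := (h.S_mem_iff ((m : ℤ) - 1) (m : ℤ) 0 1 (by ring) _).mp p2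
    have p4 := (R.Sset H 0 1).neg_mem ((R.mem_Sset H 0 1 (-s₀)).mpr p3)
    rwa [neg_neg] at p4
  -- (2) `ζ • A ⊆ A`
  have hA1 : ∀ t ∈ R.Sset H 0 1, ζ * t ∈ R.Sset H 0 1 := by
    intro t ht
    have p1 := pureB_mem hm h t ((R.mem_Sset H 0 1 t).mp ht)
    have e1 : s₁ * t * φ = ζ * t := by rw [← h1]; ring
    rw [e1, R.S_symm 2 (m : ℤ) (ζ * t)] at p1
    have e2 : (m : ℤ) + 2 - (m : ℤ) = 2 := by ring
    have p2 := cmulE_mem hm h ((m : ℤ) + 2) (m : ℤ) (by omega) (by omega) (-σ (ζ * t))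
      (by rw [e2]; exact p1)
    have e3 : (m : ℤ) + 2 - 1 = (m : ℤ) + 1 := by ring
    have e4 : s₀ * -σ (ζ * t) * φ = -σ (ζ * t) := by
      have : s₀ * -σ (ζ * t) * φ = (s₀ * φ) * -σ (ζ * t) := by ring
      rw [this, h0, one_mul]
    rw [e3, e4, R.S_symm (m : ℤ) ((m : ℤ) + 1) (-σ (ζ * t)), map_neg, hσ2, neg_neg] at p2
    exact (R.mem_Sset H 0 1 _).mpr ((h.S_mem_iff (m : ℤ) ((m : ℤ) + 1) 0 1 (by ring) _).mp p2)
  -- (3) `σ ζ • A ⊆ A`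
  have hpow : ∀ k : ℕ, ∀ t ∈ R.Sset H 0 1, ζ ^ k * t ∈ R.Sset H 0 1 := by
    intro k
    induction k with
    | zero => intro t ht; rwa [pow_zero, one_mul]
    | succ k ih =>
      intro t ht
      have := hA1 _ (ih t ht)
      rwa [← mul_assoc, ← pow_succ'] at this
  have hA2 : ∀ t ∈ R.Sset H 0 1, σ ζ * t ∈ R.Sset H 0 1 := by
    obtain ⟨k, hk⟩ := hζq
    intro t ht
    rw [hk]
    exact hpow k t ht
  -- (4)
  have htop := alg_A1 hσ2 ζ hζ hθ (R.Sset H 0 1) s₀ hs₀ne hA0 hA1 hA2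
  intro s
  have : s ∈ R.Sset H 0 1 := by rw [htop]; exact AddSubgroup.mem_top s
  exact (R.mem_Sset H 0 1 s).mp this

end Cfsg.Agent.Lib.Helper42.SUReg
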