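import Cfsg.Agent.Lib.Helper53.SUReg.Basic

/-!
# S2282 (owner helper53), module [DESC] (helper42): all widths, all Siegel elements

* `S_widths`: from all `S 0 (m-1) s ∈ H` get all `S 0 w s ∈ H`, `1 ≤ w < m` (descending with `rel_SSa`);
* `S_all_of_widths`: then all `S j k s ∈ H`, `j ≠ k`, `|j - k| < m` (shift and `S_symm`).
-/

set_option autoImplicit false
set_option linter.unusedVariables false

namespace Cfsg.Agent.Lib.Helper42.SUReg

open Cfsg.Agent.Lib.Helper53.SUReg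

variable {F : Type*} [Field F] {σ : F →+* F} {G : Type*} [Group G] {m : ℕ} {φ : F}
variable {R : URootSys F σ G m φ} {H : Subgroup G} {x₀ s₀ s₁ : F}

/-- S2282-[DESC], first lemma -/
theorem S_widths (hm : 2 ≤ m) (hφ : φ ≠ 0) (h : UGen R H x₀ s₀ s₁)
    (hTop : ∀ s : F, R.S 0 ((m : ℤ) - 1) s ∈ H) :
    ∀ w : ℕ, 1 ≤ w → w < m → ∀ s : F, R.S 0 (w : ℤ) s ∈ H := by
  have key : ∀ d w : ℕ, w + d + 1 = m → 1 ≤ w → ∀ s : F, R.S 0 (w : ℤ) s ∈ H := by
    intro d
    induction d with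
    | zero =>
      intro w hw _ s
      have h1 : (w : ℤ) = (m : ℤ) - 1 := by omega
      rw [h1]
      exact hTop s
    | succ d ih =>
      intro w hw hw1 s
      have ih' := ih (w + 1) (by omega) (by omega)
      have hs : R.S 0 (((w + 1 : ℕ) : ℤ)) (s / φ) ∈ H := ih' (s / φ)
      have ht : R.S ((((w + 1 : ℕ) : ℤ)) - (m : ℤ)) (w : ℤ) 1 ∈ H := by
        refine (h.S_mem_iff 0 ((m : ℤ) - 1) _ _ ?_ 1).mp (hTop 1)
        push_cast
        ring
      have h2 := R.prodA_mem H 0 (((w + 1 : ℕ) : ℤ)) (w : ℤ) (by push_cast; omega) (by push_cast; omega)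
        (by push_cast; omega) (by push_cast; omega) (by omega) (s / φ) 1 hs ht
      have h3 : s / φ * 1 * φ = s := by field_simp
      rw [h3] at h2
      exact h2
  intro w hw1 hwm s
  exact key (m - w - 1) w (by omega) hw1 s

/-- S2282-[DESC], second lemma -/
theorem S_all_of_widths (hσ2 : ∀ x, σ (σ x) = x) (h : UGen R H x₀ s₀ s₁)
    (hW : ∀ w : ℕ, 1 ≤ w → w < m → ∀ s : F, R.S 0 (w : ℤ) s ∈ H) :
    ∀ (j k : ℤ), j ≠ k → |j - k| < (m : ℤ) → ∀ s : F, R.S j k s ∈ H := by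
  have hlt : ∀ (j k : ℤ), j < k → k - j < (m : ℤ) → ∀ s : F, R.S j k s ∈ H := by
    intro j k hjk hkm s
    have hw : ((k - j).toNat : ℤ) = k - j := Int.toNat_of_nonneg (by omega)
    have h1 := hW (k - j).toNat (by omega) (by omega) s
    refine (h.S_mem_iff 0 ((k - j).toNat : ℤ) j k ?_ s).mp h1
    rw [hw]; ring
  intro j k hjk habs s
  rw [abs_lt] at habs
  rcases lt_or_gt_of_ne hjk with hlt' | hgt
  · exact hlt j k hlt' (by omega) s
  · rw [R.S_symm k j s]
    exact hlt k j hgt (by omega) _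

end Cfsg.Agent.Lib.Helper42.SUReg
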