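import Cfsg.Agent.Lib.Helper53.SUReg.Basic
import Cfsg.Agent.Lib.Helper42.SURegPureBMix

/-!
# S2282 (owner helper53), module [TALL] (helper42): all long root elements, all Siegel elements of width `m - 1`

`T_all`: once all `S 0 1 s ∈ H`, polarising the mixed commutators `Y(s) = S 0 (m-1) (s c σφ) * T (m-1) (-(N(sφ) x₀))`
(`mix_mem`) gives `T (m-1) ((y + σ y) x₀) ∈ H`, hence every `T k x ∈ H` (`T_congr`), hence every `S 0 (m-1) s ∈ H`.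
-/

set_option autoImplicit false
set_option linter.unusedVariables false

namespace Cfsg.Agent.Lib.Helper42.SUReg

open Cfsg.Agent.Lib.Helper53.SUReg

variable {F : Type*} [Field F] {σ : F →+* F} {G : Type*} [Group G] {m : ℕ} {φ : F}
variable {R : URootSys F σ G m φ} {H : Subgroup G} {x₀ s₀ s₁ : F}

/-- the pairs `(p, x)` with `S 0 (m-1) p * T (m-1) x ∈ H` form an additive subgroup of `F × F` -/
def pairSet (R : URootSys F σ G m φ) (H : Subgroup G) (hm : 2 ≤ m) : AddSubgroup (F × F) where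
  carrier := {v | R.S 0 ((m : ℤ) - 1) v.1 * R.T ((m : ℤ) - 1) v.2 ∈ H}
  zero_mem' := by
    show R.S 0 ((m : ℤ) - 1) (0 : F × F).1 * R.T ((m : ℤ) - 1) (0 : F × F).2 ∈ H
    rw [Prod.fst_zero, Prod.snd_zero, R.S_zero, R.T_zero, mul_one]
    exact H.one_mem
  add_mem' := by
    intro a b ha hb
    show R.S 0 ((m : ℤ) - 1) (a + b).1 * R.T ((m : ℤ) - 1) (a + b).2 ∈ H
    rw [Prod.fst_add, Prod.snd_add, R.S_add, R.T_add]
    have hc : Commute (R.T ((m : ℤ) - 1) a.2) (R.S 0 ((m : ℤ) - 1) b.1) :=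
      R.TS_comm _ _ _ _ _ (abs_lt.mpr ⟨by omega, by omega⟩) (abs_lt.mpr ⟨by omega, by omega⟩)
    have e : R.S 0 ((m : ℤ) - 1) a.1 * R.S 0 ((m : ℤ) - 1) b.1 *
        (R.T ((m : ℤ) - 1) a.2 * R.T ((m : ℤ) - 1) b.2) =
        (R.S 0 ((m : ℤ) - 1) a.1 * R.T ((m : ℤ) - 1) a.2) *
          (R.S 0 ((m : ℤ) - 1) b.1 * R.T ((m : ℤ) - 1) b.2) := by
      calc _ = R.S 0 ((m : ℤ) - 1) a.1 * (R.S 0 ((m : ℤ) - 1) b.1 * R.T ((m : ℤ) - 1) a.2) *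
            R.T ((m : ℤ) - 1) b.2 := by group
        _ = R.S 0 ((m : ℤ) - 1) a.1 * (R.T ((m : ℤ) - 1) a.2 * R.S 0 ((m : ℤ) - 1) b.1) *
            R.T ((m : ℤ) - 1) b.2 := by rw [hc.eq]
        _ = _ := by group
    rw [e]
    exact H.mul_mem ha hb
  neg_mem' := by
    intro a ha
    show R.S 0 ((m : ℤ) - 1) (-a).1 * R.T ((m : ℤ) - 1) (-a).2 ∈ H
    rw [Prod.fst_neg, Prod.snd_neg, R.S_neg, R.T_neg]
    have hc : Commute (R.T ((m : ℤ) - 1) a.2) (R.S 0 ((m : ℤ) - 1) a.1) :=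
      R.TS_comm _ _ _ _ _ (abs_lt.mpr ⟨by omega, by omega⟩) (abs_lt.mpr ⟨by omega, by omega⟩)
    have e : (R.S 0 ((m : ℤ) - 1) a.1)⁻¹ * (R.T ((m : ℤ) - 1) a.2)⁻¹ =
        (R.S 0 ((m : ℤ) - 1) a.1 * R.T ((m : ℤ) - 1) a.2)⁻¹ := by
      rw [mul_inv_rev, (hc.inv_left.inv_right).eq]
    rw [e]
    exact H.inv_mem ha

theorem mem_pairSet (hm : 2 ≤ m) (p x : F) :
    (p, x) ∈ pairSet R H hm ↔ R.S 0 ((m : ℤ) - 1) p * R.T ((m : ℤ) - 1) x ∈ H := Iff.rfl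

/-- S2282-[TALL] -/
theorem T_all (hm : 2 ≤ m) (hσ2 : ∀ x, σ (σ x) = x) (hφ : φ ≠ 0) (h : UGen R H x₀ s₀ s₁)
    (hx₀ : σ x₀ ≠ x₀) (hTr : ∀ ρ : F, σ ρ = ρ → ∃ y : F, y + σ y = ρ)
    (hS : ∀ s : F, R.S 0 1 s ∈ H) :
    (∀ (k : ℤ) (x : F), R.T k x ∈ H) ∧ (∀ s : F, R.S 0 ((m : ℤ) - 1) s ∈ H) := by
  have hc : x₀ - σ x₀ ≠ 0 := fun h0 => hx₀ (sub_eq_zero.mp h0).symm
  have hσφ : σ φ ≠ 0 := (map_ne_zero σ).mpr hφ
  -- all `S m (m-1) s ∈ H`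
  have hSm : ∀ s : F, R.S (m : ℤ) ((m : ℤ) - 1) s ∈ H := by
    intro s
    rw [R.S_symm ((m : ℤ) - 1) (m : ℤ) s]
    exact (h.S_mem_iff 0 1 ((m : ℤ) - 1) (m : ℤ) (by ring) _).mp (hS _)
  have hD := D_mem hm h hS 1 0
  -- `Y(s) ∈ H`
  have hY : ∀ s : F, (s * (x₀ - σ x₀) * σ φ, -(s * φ * σ (s * φ) * x₀)) ∈ pairSet R H hm := by
    intro s
    rw [mem_pairSet]
    exact mix_mem hm h x₀ s hD (hSm s)
  -- polarisation
  have hpol : ∀ y : F, R.T ((m : ℤ) - 1) ((y + σ y) * x₀) ∈ H := by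
    intro y
    have h1 := (pairSet R H hm).sub_mem ((pairSet R H hm).add_mem (hY (y / φ)) (hY (1 / φ)))
      (hY (y / φ + 1 / φ))
    have e1 : y / φ * φ = y := by field_simp
    have e2 : 1 / φ * φ = 1 := by field_simp
    have e3 : (y / φ + 1 / φ) * φ = y + 1 := by field_simp
    have h2 : (y / φ * (x₀ - σ x₀) * σ φ, -(y / φ * φ * σ (y / φ * φ) * x₀)) +
        (1 / φ * (x₀ - σ x₀) * σ φ, -(1 / φ * φ * σ (1 / φ * φ) * x₀)) -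
        ((y / φ + 1 / φ) * (x₀ - σ x₀) * σ φ,
          -((y / φ + 1 / φ) * φ * σ ((y / φ + 1 / φ) * φ) * x₀)) =
        ((0 : F), (y + σ y) * x₀) := by
      rw [e1, e2, e3]
      ext
      · simp only [Prod.fst_add, Prod.fst_sub]
        ring
      · simp only [Prod.snd_add, Prod.snd_sub, map_add, map_one]
        ring
    rw [h2, mem_pairSet, R.S_zero, one_mul] at h1
    exact h1
  -- all `T (m-1) x ∈ H`
  have hTm : ∀ x : F, R.T ((m : ℤ) - 1) x ∈ H := by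
    intro x
    set ρ : F := (x - σ x) / (x₀ - σ x₀) with hρ
    have hσc : σ x₀ - x₀ ≠ 0 := fun h0 => hx₀ (sub_eq_zero.mp h0)
    have hρfix : σ ρ = ρ := by
      rw [hρ, map_div₀, map_sub, map_sub, hσ2, hσ2]
      rw [div_eq_div_iff hσc hc]
      ring
    obtain ⟨y, hy⟩ := hTr ρ hρfix
    have h1 := hpol y
    rw [hy] at h1
    have h2 : x - σ x = ρ * x₀ - σ (ρ * x₀) := by
      rw [map_mul, hρfix, hρ]
      field_simp
    rw [R.T_congr _ x (ρ * x₀) h2]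
    exact h1
  have hT : ∀ (k : ℤ) (x : F), R.T k x ∈ H := fun k x =>
    (h.T_mem_shift ((m : ℤ) - 1) k x).mp (hTm x)
  refine ⟨hT, ?_⟩
  intro s
  have h1 := hY (s / ((x₀ - σ x₀) * σ φ))
  rw [mem_pairSet] at h1
  have h2 : s / ((x₀ - σ x₀) * σ φ) * (x₀ - σ x₀) * σ φ = s := by field_simp
  rw [h2] at h1
  have h3 := H.mul_mem h1 (H.inv_mem (hT ((m : ℤ) - 1)
    (-(s / ((x₀ - σ x₀) * σ φ) * φ * σ (s / ((x₀ - σ x₀) * σ φ) * φ) * x₀))))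
  rw [mul_inv_cancel_right] at h3
  exact h3

end Cfsg.Agent.Lib.Helper42.SUReg
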