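import Mathlib
import Cfsg.Agent.Lib.Helper85.SqfDefs
import Cfsg.Agent.Lib.Helper1.PCore
import Cfsg.Agent.Lib.Helper1.Fitting
import Cfsg.Agent.Lib.Helper1.SqfFDec
import Cfsg.Agent.Lib.Helper52.SqfInh
import Cfsg.Agent.Lib.Helper84.SqfClass2P

/-!
# Project SQF (S4130, owner helper85), module [CLASS2] (helper42, hedge): `F(G)` has class `≤ 2`

`upperCentralSeries_fitting_two`: if all class sizes of the finite group `G` are squarefree then the second
centre of `F(G)` is `F(G)`.  From [INH-N] (helper52), [CLASS2-P] (helper84), [FDEC] (helper1).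
-/

set_option autoImplicit false

namespace Cfsg.Agent.Lib.Helper42.Sqf

open Cfsg Cfsg.Agent.Lib.Helper85.Sqf

variable {G : Type*} [Group G]

/-- commutators `[v, k]`, `v ∈ O_p(G)`, `k ∈ F(G)`, are central in `F(G)` -/
theorem comm_pCore_fitting_central [Finite G] (h : SqF G) (p : ℕ) (hp : p.Prime)
    (v : G) (hv : v ∈ pCore p G) (k : G) (hk : k ∈ fittingSubgroup G)
    (l : G) (hl : l ∈ fittingSubgroup G) :
    (v * k * v⁻¹ * k⁻¹) * l = l * (v * k * v⁻¹ * k⁻¹) := by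
  have : Fact p.Prime := ⟨hp⟩
  have hPn : (pCore p G).Normal := Cfsg.Agent.Lib.Helper1.pCore_normal p
  have hPs : SqF ↥(pCore p G) := Cfsg.Agent.Lib.Helper52.Sqf.SqF.of_normal h (pCore p G)
  have hc2 := Cfsg.Agent.Lib.Helper84.Sqf.class_two_of_pGroup hPs
    (Cfsg.Agent.Lib.Helper1.pCore_isPGroup (G := G) p)
  -- central elements of `O_p(G)` commute with `F(G)`
  have hcentF : ∀ z ∈ pCore p G, (∀ u ∈ pCore p G, z * u = u * z) →
      ∀ l ∈ fittingSubgroup G, z * l = l * z := by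
    intro z hz hzc l hl
    obtain ⟨a, ha, hconj⟩ := Cfsg.Agent.Lib.Helper1.Sqf.fitting_acts_inner p l hl
    have h1 := hconj z hz
    have h2 : a * z * a⁻¹ = z := by
      rw [← hzc a ha]; group
    rw [h2] at h1
    calc z * l = (l * z * l⁻¹) * l := by rw [h1]
      _ = l * z := by group
  obtain ⟨a, ha, hconj⟩ := Cfsg.Agent.Lib.Helper1.Sqf.fitting_acts_inner p k hk
  have h1 := hconj v⁻¹ (inv_mem hv)
  have hc : v * k * v⁻¹ * k⁻¹ = v * a * v⁻¹ * a⁻¹ := by
    calc v * k * v⁻¹ * k⁻¹ = v * (k * v⁻¹ * k⁻¹) := by group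
      _ = v * (a * v⁻¹ * a⁻¹) := by rw [h1]
      _ = v * a * v⁻¹ * a⁻¹ := by group
  rw [hc]
  have hmem : v * a * v⁻¹ * a⁻¹ ∈ pCore p G :=
    mul_mem (mul_mem (mul_mem hv ha) (inv_mem hv)) (inv_mem ha)
  refine hcentF _ hmem ?_ l hl
  intro u hu
  have h3 := hc2 ⟨v, hv⟩ ⟨a, ha⟩ ⟨u, hu⟩
  have h4 := congrArg Subtype.val h3
  simpa using h4

/-- [CLASS2] -/
theorem upperCentralSeries_fitting_two [Finite G] (h : SqF G) :
    Subgroup.upperCentralSeries ↥(fittingSubgroup G) 2 = ⊤ := by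
  have hle : (⨆ p : Nat.Primes, pCore (p : ℕ) G) ≤
      (Subgroup.upperCentralSeries ↥(fittingSubgroup G) 2).map (fittingSubgroup G).subtype := by
    apply iSup_le
    intro p v hv
    have : Fact (p : ℕ).Prime := ⟨p.2⟩
    have hvF : v ∈ fittingSubgroup G :=
      Cfsg.Agent.Lib.Helper1.le_fittingSubgroup (Cfsg.Agent.Lib.Helper1.pCore_normal (p : ℕ))
        (Cfsg.Agent.Lib.Helper1.pCore_isPGroup (G := G) (p : ℕ)).isNilpotent hv
    refine Subgroup.mem_map.mpr ⟨⟨v, hvF⟩, ?_, rfl⟩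
    show (⟨v, hvF⟩ : ↥(fittingSubgroup G)) ∈ Subgroup.upperCentralSeries ↥(fittingSubgroup G) (1 + 1)
    rw [Subgroup.mem_upperCentralSeries_succ_iff]
    intro y
    rw [Subgroup.upperCentralSeries_one, Subgroup.mem_center_iff]
    intro l
    apply Subtype.ext
    have := comm_pCore_fitting_central h (p : ℕ) p.2 v hv (y : G) y.2 (l : G) l.2
    simpa [commutatorElement_def] using this.symm
  rw [eq_top_iff]
  intro x _
  have hx : (x : G) ∈ ⨆ p : Nat.Primes, pCore (p : ℕ) G := by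
    rw [← Cfsg.Agent.Lib.Helper1.fittingSubgroup_eq_iSup_pCore]; exact x.2
  obtain ⟨x', hx', hxx'⟩ := Subgroup.mem_map.mp (hle hx)
  have hxe : x' = x := Subtype.ext hxx'
  rw [← hxe]; exact hx'

end Cfsg.Agent.Lib.Helper42.Sqf
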