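import Mathlib
import Cfsg.Agent.Lib.Helper85.SqfDefs
import Cfsg.Agent.Lib.Helper1.PCore
import Cfsg.Agent.Lib.Helper1.Fitting

/-!
# Project SQF (S4130, owner helper85), module [IDX-U] (helper42, hedge): the Fitting witness

`exists_fitting_witness_of`: from [IDX-M] (`q`-elements not centralising `O_p(G)` share their centraliser in
`O_p(G)`) and [IDX-F] (a `q`-element centralising all `O_p(G)`, `p ≠ q`, lies in `F(G)`), both taken as
hypotheses, there is `u ∈ F(G)` such that every `q`-element commuting with `u` lies in `F(G)`.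
Induction over a finite set of primes `≠ q`; `u` is a product of commuting elements of coprime prime-power orders.
-/

set_option autoImplicit false

namespace Cfsg.Agent.Lib.Helper42.Sqf

open Cfsg

variable {G : Type*} [Group G]

/-- elements of `O_p(G)` and `O_r(G)` commute for `p ≠ r` -/
theorem pCore_commute_of_ne [Finite G] {p r : ℕ} [Fact p.Prime] [Fact r.Prime] (hpr : p ≠ r) {a b : G}
    (ha : a ∈ pCore p G) (hb : b ∈ pCore r G) : a * b = b * a := by
  have hd : Disjoint (pCore p G) (pCore r G) :=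
    IsPGroup.disjoint_of_ne p r hpr _ _ (Cfsg.Agent.Lib.Helper1.pCore_isPGroup p)
      (Cfsg.Agent.Lib.Helper1.pCore_isPGroup r)
  exact Subgroup.commute_of_normal_of_disjoint _ _ (Cfsg.Agent.Lib.Helper1.pCore_normal p)
    (Cfsg.Agent.Lib.Helper1.pCore_normal r) hd a b ha hb

/-- the order of an element of `O_p(G)` is a power of `p` -/
theorem orderOf_of_mem_pCore [Finite G] {p : ℕ} [Fact p.Prime] {w : G} (hw : w ∈ pCore p G) :
    ∃ k : ℕ, orderOf w = p ^ k := by
  obtain ⟨k, hk⟩ := (IsPGroup.iff_orderOf.mp (Cfsg.Agent.Lib.Helper1.pCore_isPGroup (G := G) p)) ⟨w, hw⟩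
  refine ⟨k, ?_⟩
  rw [← hk]
  exact (Subgroup.orderOf_mk w hw).symm

/-- `O_p(G) ≤ F(G)` -/
theorem pCore_le_fitting [Finite G] (p : ℕ) [Fact p.Prime] : pCore p G ≤ fittingSubgroup G :=
  Cfsg.Agent.Lib.Helper1.le_fittingSubgroup (Cfsg.Agent.Lib.Helper1.pCore_normal p)
    (Cfsg.Agent.Lib.Helper1.pCore_isPGroup p).isNilpotent

/-- `O_p(G)` is trivial when `p ∤ |G|` -/
theorem eq_one_of_mem_pCore_of_not_dvd [Finite G] {p : ℕ} [Fact p.Prime] (hpG : ¬ p ∣ Nat.card G)
    {v : G} (hv : v ∈ pCore p G) : v = 1 := by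
  obtain ⟨k, hk⟩ := orderOf_of_mem_pCore hv
  have hdvd : orderOf v ∣ Nat.card G := orderOf_dvd_natCard v
  rcases Nat.eq_zero_or_pos k with h0 | h0
  · rw [h0, pow_zero] at hk
    exact orderOf_eq_one_iff.mp hk
  · exfalso
    apply hpG
    refine dvd_trans ?_ hdvd
    rw [hk]
    exact dvd_pow_self p h0.ne'

/-- commuting elements of coprime orders are powers of their product: whatever commutes with the product
commutes with both factors -/
theorem commute_of_commute_mul_of_coprime [Finite G] {u w y : G} (huw : u * w = w * u)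
    (hco : (orderOf u).Coprime (orderOf w)) (hy : y * (u * w) = (u * w) * y) :
    y * u = u * y ∧ y * w = w * y := by
  have hc : Commute u w := huw
  have hyc : Commute y (u * w) := hy
  constructor
  · -- `(u w)^b = u^b`, `b = orderOf w`
    have h1 : (u * w) ^ orderOf w = u ^ orderOf w := by
      rw [hc.mul_pow, pow_orderOf_eq_one, mul_one]
    obtain ⟨m, hm⟩ := exists_pow_eq_self_of_coprime (x := u) (n := orderOf w) hco.symm
    have h2 : Commute y ((u ^ orderOf w) ^ m) := by
      rw [← h1]
      exact (hyc.pow_right _).pow_right _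
    rw [hm] at h2
    exact h2
  · have h1 : (u * w) ^ orderOf u = w ^ orderOf u := by
      rw [hc.mul_pow, pow_orderOf_eq_one, one_mul]
    obtain ⟨m, hm⟩ := exists_pow_eq_self_of_coprime (x := w) (n := orderOf u) hco
    have h2 : Commute y ((w ^ orderOf u) ^ m) := by
      rw [← h1]
      exact (hyc.pow_right _).pow_right _
    rw [hm] at h2
    exact h2

/-- [IDX-U] modulo [IDX-M] and [IDX-F] -/
theorem exists_fitting_witness_of [Finite G] (q : ℕ) [Fact q.Prime]
    (hM : ∀ (p : ℕ) [Fact p.Prime], p ≠ q → ∀ x x' : G, (∃ k : ℕ, orderOf x = q ^ k) →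
      (∃ k : ℕ, orderOf x' = q ^ k) →
      (¬ ∀ v ∈ pCore p G, x * v = v * x) → (¬ ∀ v ∈ pCore p G, x' * v = v * x') →
      pCore p G ⊓ Subgroup.centralizer ({x} : Set G) =
        pCore p G ⊓ Subgroup.centralizer ({x'} : Set G))
    (hF : ∀ x : G, (∃ k : ℕ, orderOf x = q ^ k) →
      (∀ p : ℕ, p.Prime → p ≠ q → ∀ v ∈ pCore p G, x * v = v * x) → x ∈ fittingSubgroup G) :
    ∃ u ∈ fittingSubgroup G, ∀ y : G, (∃ k : ℕ, orderOf y = q ^ k) → y * u = u * y →
      y ∈ fittingSubgroup G := by
  have key : ∀ S : Finset ℕ, (∀ p ∈ S, p.Prime ∧ p ≠ q) →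
      ∃ u ∈ fittingSubgroup G,
        (∀ r : ℕ, r.Prime → r ∉ S →
          (∀ v ∈ pCore r G, u * v = v * u) ∧ (orderOf u).Coprime r) ∧
        (∀ y : G, (∃ k : ℕ, orderOf y = q ^ k) → y * u = u * y →
          ∀ p ∈ S, ∀ v ∈ pCore p G, y * v = v * y) := by
    intro S
    induction S using Finset.induction_on with
    | empty =>
      intro _
      refine ⟨1, one_mem _, fun r _ _ => ⟨fun v _ => by simp, by simp⟩, ?_⟩
      intro y _ _ p hp
      exact absurd hp (Finset.notMem_empty p)
    | insert p S hpS ih =>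
      intro hS
      have hp : p.Prime ∧ p ≠ q := hS p (Finset.mem_insert_self p S)
      have : Fact p.Prime := ⟨hp.1⟩
      obtain ⟨u, huF, hI, hcl⟩ := ih (fun r hr => hS r (Finset.mem_insert_of_mem hr))
      by_cases hall : ∀ y : G, (∃ k : ℕ, orderOf y = q ^ k) → ∀ v ∈ pCore p G, y * v = v * y
      · refine ⟨u, huF, fun r hr hrS => hI r hr (fun h => hrS (Finset.mem_insert_of_mem h)), ?_⟩
        intro y hy hyu p' hp'
        rcases Finset.mem_insert.mp hp' with rfl | hp'S
        · exact hall y hy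
        · exact hcl y hy hyu p' hp'S
      · push Not at hall
        obtain ⟨y₀, hy₀, w, hw, hy₀w⟩ := hall
        obtain ⟨huw_comm, huw_cop⟩ := hI p hp.1 hpS
        have huw : u * w = w * u := huw_comm w hw
        obtain ⟨k, hk⟩ := orderOf_of_mem_pCore hw
        have hco : (orderOf u).Coprime (orderOf w) := by
          rw [hk]; exact Nat.Coprime.pow_right k huw_cop
        refine ⟨u * w, mul_mem huF (pCore_le_fitting p hw), ?_, ?_⟩
        · intro r hr hrS
          have hrp : r ≠ p := fun h => hrS (h ▸ Finset.mem_insert_self p S)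
          have hrS' : r ∉ S := fun h => hrS (Finset.mem_insert_of_mem h)
          obtain ⟨h1, h2⟩ := hI r hr hrS'
          have : Fact r.Prime := ⟨hr⟩
          refine ⟨fun v hv => ?_, ?_⟩
          · have h3 : w * v = v * w := pCore_commute_of_ne (Ne.symm hrp) hw hv
            calc u * w * v = u * (w * v) := mul_assoc _ _ _
              _ = u * (v * w) := by rw [h3]
              _ = (u * v) * w := (mul_assoc _ _ _).symm
              _ = (v * u) * w := by rw [h1 v hv]
              _ = v * (u * w) := mul_assoc _ _ _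
          · have hdvd : orderOf (u * w) ∣ orderOf u * orderOf w :=
              (show Commute u w from huw).orderOf_mul_dvd_mul_orderOf
            refine Nat.Coprime.coprime_dvd_left hdvd ?_
            refine Nat.Coprime.mul_left h2 ?_
            rw [hk]
            exact Nat.Coprime.pow_left k ((Nat.coprime_primes hp.1 hr).mpr (Ne.symm hrp))
        · intro y hy hyuw p' hp'
          obtain ⟨hyu, hyw⟩ := commute_of_commute_mul_of_coprime huw hco hyuw
          rcases Finset.mem_insert.mp hp' with rfl | hp'S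
          · by_contra hnc
            have heq := hM p' hp.2 y y₀ hy hy₀ hnc (fun hc => hy₀w (hc w hw))
            have hwy : w ∈ pCore p' G ⊓ Subgroup.centralizer ({y} : Set G) :=
              Subgroup.mem_inf.mpr ⟨hw, Subgroup.mem_centralizer_singleton_iff.mpr hyw.symm⟩
            rw [heq] at hwy
            have h5 := Subgroup.mem_centralizer_singleton_iff.mp (Subgroup.mem_inf.mp hwy).2
            exact hy₀w h5.symm
          · exact hcl y hy hyu p' hp'S
  obtain ⟨u, huF, _, hcl⟩ := key ((Nat.card G).primeFactors.erase q)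
    (fun p hp => ⟨Nat.prime_of_mem_primeFactors (Finset.mem_of_mem_erase hp),
      Finset.ne_of_mem_erase hp⟩)
  refine ⟨u, huF, fun y hy hyu => hF y hy ?_⟩
  intro p hp hpq v hv
  have : Fact p.Prime := ⟨hp⟩
  by_cases hpG : p ∣ Nat.card G
  · exact hcl y hy hyu p
      (Finset.mem_erase.mpr ⟨hpq, Nat.mem_primeFactors.mpr ⟨hp, hpG, Nat.card_pos.ne'⟩⟩) v hv
  · have : v = 1 := eq_one_of_mem_pCore_of_not_dvd hpG hv
    rw [this]; simp

end Cfsg.Agent.Lib.Helper42.Sqf
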