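/-
helper42: module SUZ2-[T-A1] of helper85's project SUZ2 part 2 (S3797; board #6054, sheet
Lib/Helper85/Suz2/SUZ2_SHEET.md): under `THyp G`, if some 2-element does not centralize all
involutions then `G` has a normal subgroup of index 2 containing `O_2(G)` which is still transitive on
the involutions.  (Huppert coordinates [HUP-A] on `Z0 (O_2 G)`; the field automorphism parts give a
homomorphism to the cyclic group `Gal(F/F_2)`; orbit counting on the odd set of involutions.)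
-/
import Mathlib
import Cfsg.Agent.Lib.Helper85.Suz2ThDefs
import Cfsg.Agent.Lib.Helper98.Suz2HupA
import Cfsg.Agent.Lib.Helper84.Suz2TInv
import Cfsg.Agent.Lib.Helper42.Suz2TShyp

set_option autoImplicit false
set_option linter.style.haveILetI false

namespace Cfsg.Agent.Lib.Helper42.Suz2

open Cfsg Cfsg.Agent.Lib.Helper19.Suz Cfsg.Agent.Lib.Helper85.Suz2

universe u

/-! ### a homomorphism to a cyclic group -/

/-- a homomorphism to a cyclic group which does not kill some 2-element gives a subgroup of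
index 2 containing its kernel -/
theorem exists_index_two_of_hom {G : Type*} [Group G] {Γ : Type*} [Group Γ] [IsCyclic Γ]
    (χ : G →* Γ) (s : G) (j : ℕ) (hs : s ^ (2 ^ j) = 1) (hχs : χ s ≠ 1) :
    ∃ G₁ : Subgroup G, G₁.index = 2 ∧ χ.ker ≤ G₁ := by
  obtain ⟨⟨τ, g₀, rfl⟩, hgen⟩ := IsCyclic.exists_generator (α := ↥χ.range)
  have hall : ∀ g : G, ∃ k : ℤ, χ g = χ g₀ ^ k := by
    intro g
    obtain ⟨k, hk⟩ := Subgroup.mem_zpowers_iff.mp (hgen ⟨χ g, g, rfl⟩)
    exact ⟨k, by simpa using (congrArg Subtype.val hk).symm⟩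
  -- the order of `χ g₀` is even
  have heven : (2 : ℤ) ∣ (orderOf (χ g₀) : ℤ) := by
    obtain ⟨k, hk⟩ := hall s
    have h1 : orderOf (χ s) ∣ orderOf (χ g₀) := by
      rw [hk]
      exact orderOf_dvd_of_mem_zpowers (Subgroup.zpow_mem_zpowers _ _)
    have h2 : orderOf (χ s) ∣ 2 ^ j := by
      apply orderOf_dvd_of_pow_eq_one
      rw [← map_pow, hs, map_one]
    obtain ⟨i, -, hi⟩ := (Nat.dvd_prime_pow Nat.prime_two).mp h2
    have hi0 : i ≠ 0 := by
      rintro rfl
      rw [pow_zero, orderOf_eq_one_iff] at hi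
      exact hχs hi
    have h3 : 2 ∣ orderOf (χ g₀) := by
      refine dvd_trans ?_ h1
      rw [hi]
      exact dvd_pow_self 2 hi0
    exact_mod_cast h3
  have hmem : ∀ k : ℤ, χ g₀ ^ k ∈ Subgroup.zpowers (χ g₀ ^ 2) ↔ Even k := by
    intro k
    constructor
    · intro hk
      obtain ⟨i, hi⟩ := Subgroup.mem_zpowers_iff.mp hk
      have h1 : χ g₀ ^ (k - 2 * i) = 1 := by
        rw [zpow_sub, ← hi, ← zpow_natCast, ← zpow_mul]
        simp
      have h2 : (orderOf (χ g₀) : ℤ) ∣ k - 2 * i := orderOf_dvd_iff_zpow_eq_one.mpr h1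
      have h3 : (2 : ℤ) ∣ k - 2 * i := dvd_trans heven h2
      have h4 : (2 : ℤ) ∣ k := by
        have := dvd_add h3 (dvd_mul_right 2 i)
        simpa using this
      exact even_iff_two_dvd.mpr h4
    · rintro ⟨i, rfl⟩
      refine Subgroup.mem_zpowers_iff.mpr ⟨i, ?_⟩
      rw [← zpow_natCast, ← zpow_mul]
      congr 1
      push_cast
      ring
  refine ⟨(Subgroup.zpowers (χ g₀ ^ 2)).comap χ, ?_, ?_⟩
  · rw [Subgroup.index_eq_two_iff]
    refine ⟨g₀, fun b => ?_⟩
    obtain ⟨k, hk⟩ := hall b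
    have h1 : b ∈ (Subgroup.zpowers (χ g₀ ^ 2)).comap χ ↔ Even k := by
      rw [Subgroup.mem_comap, hk]
      exact hmem k
    have h2 : b * g₀ ∈ (Subgroup.zpowers (χ g₀ ^ 2)).comap χ ↔ Even (k + 1) := by
      rw [Subgroup.mem_comap, map_mul, hk, ← zpow_add_one]
      exact hmem (k + 1)
    rw [h1, h2, Int.even_add_one]
    by_cases hk' : Even k
    · exact Or.inr ⟨hk', fun h => h hk'⟩
    · exact Or.inl ⟨hk', hk'⟩
  · intro g hg
    rw [Subgroup.mem_comap, MonoidHom.mem_ker.mp hg]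
    exact Subgroup.one_mem _

theorem exists_index_two_of_ringAut {G : Type*} [Group G] {F : Type} [Field F] [Fintype F]
    (hchar : CharP F 2) (χ : G →* (F ≃+* F)) (s : G) (j : ℕ) (hs : s ^ (2 ^ j) = 1)
    (hχs : χ s ≠ 1) : ∃ G₁ : Subgroup G, G₁.index = 2 ∧ χ.ker ≤ G₁ := by
  letI := ZMod.algebra F 2
  let gal : (F ≃+* F) →* (F ≃ₐ[ZMod 2] F) :=
    { toFun := fun f => AlgEquiv.ofRingEquiv (f := f) (fun x => by
        have := Subsingleton.elim ((f : F →+* F).comp (algebraMap (ZMod 2) F)) (algebraMap (ZMod 2) F)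
        exact DFunLike.congr_fun this x)
      map_one' := by ext x; rfl
      map_mul' := fun f g => by ext x; rfl }
  have hgal : ∀ (f : F ≃+* F) (x : F), gal f x = f x := fun f x => rfl
  have hne : (gal.comp χ) s ≠ 1 := by
    intro h
    apply hχs
    ext x
    have := DFunLike.congr_fun h x
    simpa [hgal] using this
  obtain ⟨G₁, h1, h2⟩ := exists_index_two_of_hom (gal.comp χ) s j hs hne
  refine ⟨G₁, h1, fun g hg => h2 ?_⟩
  rw [MonoidHom.mem_ker] at hg ⊢
  rw [MonoidHom.comp_apply, hg, map_one]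

/-! ### consequences of the coordinates `ZCoord` -/

section zcoord

variable {P : Type u} [Group P] {Y : Subgroup (MulAut P)} {F : Type} [Field F] [Fintype F]
  {aZ : P → F} {κ : MulAut P → F} {σ : MulAut P → (F ≃+* F)}

theorem zcoord_σ_mul (zc : ZCoord P Y F aZ κ σ) {k k' : MulAut P} (hk : k ∈ Y) (hk' : k' ∈ Y) :
    σ (k * k') = σ k * σ k' := by
  have key : ∀ u : F, κ (k * k') * σ (k * k') u = κ k * σ k (κ k') * σ k (σ k' u) := by
    intro u
    obtain ⟨z, hz, rfl⟩ := zc.aZ_surj u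
    have h1 := zc.act (k * k') (Y.mul_mem hk hk') z hz
    have h2 := zc.act k hk (k' z) (aut_mem_Z0 k' hz)
    have h3 := zc.act k' hk' z hz
    rw [MulAut.mul_apply] at h1
    rw [← h1, h2, h3, map_mul, mul_assoc]
  have h1 := key 1
  rw [map_one, map_one, map_one, mul_one, mul_one] at h1
  ext u
  have h2 := key u
  rw [h1] at h2
  have hne : κ k * σ k (κ k') ≠ 0 := by
    rw [← h1]
    exact zc.κ_ne _ (Y.mul_mem hk hk')
  exact mul_left_cancel₀ hne h2

theorem zcoord_σ_eq_one_of_fix (zc : ZCoord P Y F aZ κ σ) {k : MulAut P} (hk : k ∈ Y)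
    (hfix : ∀ z ∈ Z0 P, k z = z) : σ k = 1 := by
  have key : ∀ u : F, u = κ k * σ k u := by
    intro u
    obtain ⟨z, hz, rfl⟩ := zc.aZ_surj u
    have := zc.act k hk z hz
    rw [hfix z hz] at this
    exact this
  have h1 := key 1
  rw [map_one, mul_one] at h1
  ext u
  have := key u
  rw [← h1, one_mul] at this
  exact this.symm

theorem zcoord_fix_of_σ_eq_one (zc : ZCoord P Y F aZ κ σ) {k : MulAut P} (hk : k ∈ Y)
    (hσ : σ k = 1) (j : ℕ) (hpow : k ^ (2 ^ j) = 1) : ∀ z ∈ Z0 P, k z = z := by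
  have hch := zc.char2
  have hact : ∀ z ∈ Z0 P, aZ (k z) = κ k * aZ z := by
    intro z hz
    have := zc.act k hk z hz
    rw [hσ] at this
    exact this
  have hpowm : ∀ m : ℕ, ∀ z ∈ Z0 P, aZ ((k ^ m) z) = κ k ^ m * aZ z := by
    intro m
    induction m with
    | zero => intro z _; rw [pow_zero, pow_zero, MulAut.one_apply, one_mul]
    | succ m ih =>
      intro z hz
      rw [pow_succ', MulAut.mul_apply, hact _ (aut_mem_Z0 (k ^ m) hz), ih z hz, pow_succ', mul_assoc]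
  have ha : κ k ^ (2 ^ j) = 1 := by
    obtain ⟨z₁, hz₁, h1⟩ := zc.aZ_surj 1
    have := hpowm (2 ^ j) z₁ hz₁
    rw [hpow, MulAut.one_apply, h1, mul_one] at this
    exact this.symm
  have ha1 : κ k = 1 := by
    have h0 : (κ k - 1) ^ (2 ^ j) = 0 := by
      rw [sub_pow_char_pow, ha, one_pow, sub_self]
    exact sub_eq_zero.mp (pow_eq_zero_iff (by positivity) |>.mp h0)
  intro z hz
  have hz2 : z * z = 1 := hz.2
  have hw : k z * z ∈ Z0 P := (Z0 P).mul_mem (aut_mem_Z0 k hz) hz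
  have h0 : aZ (k z * z) = 0 := by
    rw [zc.aZ_mul _ (aut_mem_Z0 k hz) _ hz, hact z hz, ha1, one_mul]
    exact CharTwo.add_self_eq_zero _
  have h1 := zc.aZ_inj _ hw h0
  calc k z = k z * (z * z) := by rw [hz2, mul_one]
    _ = (k z * z) * z := by rw [mul_assoc]
    _ = z := by rw [h1, one_mul]

end zcoord

/-! ### the involutions as a `G`-set of odd cardinality -/

section count

variable {G : Type u} [Group G]

/-- the type of involutions of `G` -/
def Inv (G : Type u) [Group G] : Type u := {x : G // x ≠ 1 ∧ x * x = 1}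

/-- `G` acts on its involutions by conjugation -/
instance invMulAction : MulAction G (Inv G) where
  smul g x := ⟨g * x.1 * g⁻¹, by
      intro h
      apply x.2.1
      have e : x.1 = g⁻¹ * (g * x.1 * g⁻¹) * g := by group
      rw [e, h]
      group, by
      have e : g * x.1 * g⁻¹ * (g * x.1 * g⁻¹) = g * (x.1 * x.1) * g⁻¹ := by group
      rw [e, x.2.2]
      group⟩
  one_smul x := Subtype.ext (by
    show 1 * x.1 * 1⁻¹ = x.1
    group)
  mul_smul g h x := Subtype.ext (by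
    show (g * h) * x.1 * (g * h)⁻¹ = g * (h * x.1 * h⁻¹) * g⁻¹
    group)

theorem inv_smul_val (g : G) (x : Inv G) : ((g • x : Inv G)).1 = g * x.1 * g⁻¹ := rfl

/-- constructor -/
def Inv.mk {x : G} (h1 : x ≠ 1) (h2 : x * x = 1) : Inv G := ⟨x, h1, h2⟩

theorem Inv.mk_val {x : G} (h1 : x ≠ 1) (h2 : x * x = 1) : (Inv.mk h1 h2).1 = x := rfl

/-- the elements of square one form a subgroup (they commute by [T-INV]) -/
def sqOne (h : THyp G) : Subgroup G where
  carrier := {x | x * x = 1}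
  one_mem' := by simp
  mul_mem' := by
    intro a b ha hb
    simp only [Set.mem_ofPred_eq] at ha hb ⊢
    by_cases ha1 : a = 1
    · rw [ha1, one_mul]; exact hb
    by_cases hb1 : b = 1
    · rw [hb1, mul_one]; exact ha
    have hcomm : a * b = b * a :=
      (Cfsg.Agent.Lib.Helper84.Suz2.THyp.inv_mem h hb1 hb).2 a
        (Cfsg.Agent.Lib.Helper84.Suz2.THyp.inv_mem h ha1 ha).1
    calc a * b * (a * b) = a * (b * a) * b := by group
      _ = a * (a * b) * b := by rw [hcomm]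
      _ = (a * a) * (b * b) := by group
      _ = 1 := by rw [ha, hb, one_mul]
  inv_mem' := by
    intro a ha
    simp only [Set.mem_ofPred_eq] at ha ⊢
    have : a⁻¹ = a := inv_eq_of_mul_eq_one_left ha
    rw [this]; exact ha

theorem odd_card_inv (h : THyp G) : Odd (Nat.card (Inv G)) := by
  classical
  haveI := h.fin
  haveI : Fact (Nat.Prime 2) := ⟨Nat.prime_two⟩
  have hp : IsPGroup 2 ↥(sqOne h) := by
    intro g
    refine ⟨1, ?_⟩
    apply Subtype.ext
    have : (g : G) * g = 1 := g.2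
    simpa [pow_two] using this
  obtain ⟨n, hn⟩ := IsPGroup.iff_card.mp hp
  have e1 : Inv G ≃ {z : ↥(sqOne h) // z ≠ 1} :=
    { toFun := fun x => ⟨⟨x.1, x.2.2⟩, fun hh => x.2.1 (congrArg Subtype.val hh)⟩
      invFun := fun z => ⟨z.1.1, fun hh => z.2 (Subtype.ext hh), z.1.2⟩
      left_inv := fun x => rfl
      right_inv := fun z => rfl }
  have e2 := Equiv.optionSubtypeNe (1 : ↥(sqOne h))
  have hcard : Nat.card (Inv G) + 1 = 2 ^ n := by
    rw [← hn, Nat.card_congr e1, ← Nat.card_congr e2, Finite.card_option]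
  have hn0 : n ≠ 0 := by
    rintro rfl
    obtain ⟨x, -, -, hx1, hx2, -⟩ := h.two
    have hfin : Finite (Inv G) := Finite.of_injective (fun x : Inv G => x.1) Subtype.val_injective
    have : 0 < Nat.card (Inv G) := by
      haveI : Nonempty (Inv G) := ⟨⟨x, hx1, hx2⟩⟩
      exact Nat.card_pos
    rw [pow_zero] at hcard
    omega
  obtain ⟨m, rfl⟩ := Nat.exists_eq_succ_of_ne_zero hn0
  rw [pow_succ] at hcard
  exact ⟨2 ^ m - 1, by have := Nat.one_le_two_pow (n := m); omega⟩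

theorem transitive_of_index_two (h : THyp G) (G₁ : Subgroup G) (hidx : G₁.index = 2) :
    ∀ x y : G, x ≠ 1 → x * x = 1 → y ≠ 1 → y * y = 1 → ∃ g ∈ G₁, g * x * g⁻¹ = y := by
  intro x y hx1 hx2 hy1 hy2
  haveI : MulAction.IsPretransitive G (Inv G) := ⟨fun a b => by
    obtain ⟨g, hg⟩ := h.conj a.1 b.1 a.2.1 a.2.2 b.2.1 b.2.2
    exact ⟨g, Subtype.ext hg⟩⟩
  have hst : ¬ MulAction.stabilizer G (Inv.mk hx1 hx2) ≤ G₁ := by
    intro hle
    have h1 := Subgroup.index_dvd_of_le hle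
    rw [hidx, MulAction.index_stabilizer_of_transitive] at h1
    exact (Nat.not_even_iff_odd.mpr (odd_card_inv h)) (even_iff_two_dvd.mpr h1)
  obtain ⟨c, hc, hcG⟩ := SetLike.not_le_iff_exists.mp hst
  obtain ⟨g, hg⟩ := h.conj x y hx1 hx2 hy1 hy2
  by_cases hgG : g ∈ G₁
  · exact ⟨g, hgG, hg⟩
  · refine ⟨g * c, ?_, ?_⟩
    · rw [Subgroup.mul_mem_iff_of_index_two hidx]
      exact ⟨fun h' => absurd h' hgG, fun h' => absurd h' hcG⟩
    · have hcx' : c • Inv.mk hx1 hx2 = Inv.mk hx1 hx2 := MulAction.mem_stabilizer_iff.mp hc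
      have hcx : c * x * c⁻¹ = x := congrArg (fun t : Inv G => t.1) hcx'
      calc g * c * x * (g * c)⁻¹ = g * (c * x * c⁻¹) * g⁻¹ := by group
        _ = y := by rw [hcx, hg]

end count

/-! ### the module -/

section main

variable {G : Type u} [Group G]

/-- [T-B2] (inline copy): `O_2(G)` with all conjugations satisfies `SHyp` -/
theorem THyp.shyp_core' (h : THyp G) : SHyp ↥(pCore 2 G) (conjY (pCore 2 G) ⊤) := by
  haveI := h.fin
  haveI : Fact (Nat.Prime 2) := ⟨Nat.prime_two⟩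
  haveI := h.sol
  have hn : (pCore 2 G).Normal := inferInstance
  apply shyp_conjY (pCore 2 G) ⊤
  · intro g _
    rw [Subgroup.mem_normalizer_iff]
    intro x
    exact ⟨fun hx => hn.conj_mem x hx g, fun hx => by
      have := hn.conj_mem _ hx g⁻¹
      simpa [mul_assoc] using this⟩
  · infer_instance
  · exact Cfsg.Agent.Lib.Helper76.pCore_isPGroup 2
  · intro x _ y _ hx1 hx2 hy1 hy2
    obtain ⟨g, hg⟩ := h.conj x y hx1 hx2 hy1 hy2
    exact ⟨g, Subgroup.mem_top g, hg⟩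
  · obtain ⟨x, y, hxy, hx1, hx2, hy1, hy2⟩ := h.two
    exact ⟨x, (Cfsg.Agent.Lib.Helper84.Suz2.THyp.inv_mem h hx1 hx2).1, y,
      (Cfsg.Agent.Lib.Helper84.Suz2.THyp.inv_mem h hy1 hy2).1, hxy, hx1, hx2, hy1, hy2⟩

/-- [T-A1] -/
theorem THyp.exists_index_two (h : THyp G) (S : Sylow 2 G)
    (hS : ∃ s ∈ (S : Subgroup G), ∃ x : G, x * x = 1 ∧ s * x ≠ x * s) :
    ∃ G₁ : Subgroup G, G₁.Normal ∧ G₁.index = 2 ∧ pCore 2 G ≤ G₁ ∧
      ∀ x y : G, x ≠ 1 → x * x = 1 → y ≠ 1 → y * y = 1 → ∃ g ∈ G₁, g * x * g⁻¹ = y := by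
  haveI := h.fin
  obtain ⟨F, iF, iFt, aZ, κ, σ, zc⟩ :=
    Cfsg.Agent.Lib.Helper98.Suz2.SHyp.exists_zcoord (THyp.shyp_core' h)
  let cj : G →* MulAut ↥(pCore 2 G) := MulAut.conjNormal
  have hcj : ∀ (g : G) (z : ↥(pCore 2 G)), ((cj g z : ↥(pCore 2 G)) : G) = g * z * g⁻¹ :=
    fun g z => MulAut.conjNormal_apply g z
  have hcjY : ∀ g, cj g ∈ conjY (pCore 2 G) ⊤ := fun g =>
    ⟨g, Subgroup.mem_top g, fun x => hcj g x⟩
  let χ : G →* (F ≃+* F) := MonoidHom.mk' (fun g => σ (cj g)) (fun a b => by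
    rw [map_mul]
    exact zcoord_σ_mul zc (hcjY a) (hcjY b))
  have hχ : ∀ g, χ g = σ (cj g) := fun g => rfl
  obtain ⟨s, hsS, x, hx2, hsx⟩ := hS
  obtain ⟨j, hj⟩ := (IsPGroup.iff_orderOf.mp S.2) ⟨s, hsS⟩
  rw [Subgroup.orderOf_mk] at hj
  have hs : s ^ (2 ^ j) = 1 := by rw [← hj]; exact pow_orderOf_eq_one s
  have hχs : χ s ≠ 1 := by
    intro hσ
    rw [hχ] at hσ
    have hx1 : x ≠ 1 := by
      rintro rfl
      exact hsx (by rw [mul_one, one_mul])
    obtain ⟨hxP, hxc⟩ := Cfsg.Agent.Lib.Helper84.Suz2.THyp.inv_mem h hx1 hx2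
    have hxZ : (⟨x, hxP⟩ : ↥(pCore 2 G)) ∈ Z0 ↥(pCore 2 G) :=
      ⟨Subgroup.mem_center_iff.mpr (fun p => Subtype.ext (hxc p p.2)), Subtype.ext hx2⟩
    have hpow : cj s ^ (2 ^ j) = 1 := by rw [← map_pow, hs, map_one]
    have hfix := zcoord_fix_of_σ_eq_one zc (hcjY s) hσ j hpow _ hxZ
    have h2 : s * x * s⁻¹ = x := by
      have := congrArg Subtype.val hfix
      rw [hcj] at this
      exact this
    apply hsx
    calc s * x = (s * x * s⁻¹) * s := by group
      _ = x * s := by rw [h2]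
  obtain ⟨G₁, hidx, hker⟩ := exists_index_two_of_ringAut zc.char2 χ s j hs hχs
  refine ⟨G₁, Subgroup.normal_of_index_eq_two hidx, hidx, ?_, transitive_of_index_two h G₁ hidx⟩
  intro p hp
  apply hker
  rw [MonoidHom.mem_ker, hχ]
  apply zcoord_σ_eq_one_of_fix zc (hcjY p)
  intro z hz
  apply Subtype.ext
  rw [hcj]
  have h1 := Subgroup.mem_center_iff.mp hz.1 ⟨p, hp⟩
  have h2 : p * (z : G) = (z : G) * p := congrArg Subtype.val h1
  rw [h2, mul_inv_cancel_right]

end main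

end Cfsg.Agent.Lib.Helper42.Suz2
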