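/-
helper42: module SUZ2-[T-RED] of helper85's project SUZ2 part 2 (S3797; board #6054, sheet
Lib/Helper85/Suz2/SUZ2_SHEET.md): `G / O_{2'}(G)` inherits the hypotheses (`THyp`).
-/
import Cfsg.Agent.Lib.Helper85.Suz2ThDefs
import Cfsg.Agent.Lib.Helper76.PCore

set_option autoImplicit false

namespace Cfsg.Agent.Lib.Helper42.Suz2

open Cfsg Cfsg.Agent.Lib.Helper19.Suz Cfsg.Agent.Lib.Helper85.Suz2

universe u

variable {G : Type u} [Group G]

/-- an element of a subgroup of odd order whose square is one is trivial -/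
theorem eq_one_of_sq_of_odd [Finite G] {K : Subgroup G} (hK : (Nat.card K).Coprime 2) {x : G}
    (hx : x ∈ K) (hx2 : x ^ 2 = 1) : x = 1 := by
  have h1 : orderOf x ∣ 2 := orderOf_dvd_of_pow_eq_one hx2
  have h2 : orderOf x ∣ Nat.card K := Subgroup.orderOf_dvd_natCard K hx
  have h3 : orderOf x ∣ 1 := by
    have := Nat.dvd_gcd h2 h1
    rwa [hK] at this
  exact orderOf_eq_one_iff.mp (Nat.dvd_one.mp h3)

/-- a 2-element of a subgroup of odd order is trivial -/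
theorem eq_one_of_two_elt_of_odd [Finite G] {K : Subgroup G} (hK : (Nat.card K).Coprime 2)
    (S : Sylow 2 G) {x : G} (hxS : x ∈ (S : Subgroup G)) (hx : x ∈ K) : x = 1 := by
  obtain ⟨k, hk⟩ := (IsPGroup.iff_orderOf.mp S.2) ⟨x, hxS⟩
  rw [Subgroup.orderOf_mk] at hk
  have h2 : orderOf x ∣ Nat.card K := Subgroup.orderOf_dvd_natCard K hx
  have h3 : orderOf x ∣ 1 := by
    have := Nat.dvd_gcd h2 (dvd_refl (orderOf x))
    rw [hk] at this ⊢
    rwa [Nat.Coprime.pow_right k hK] at this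
  exact orderOf_eq_one_iff.mp (Nat.dvd_one.mp h3)

/-- an involution of `G / K`, `K` of odd order, is the image of an involution -/
theorem exists_involution_lift [Finite G] (K : Subgroup G) [K.Normal]
    (hK : (Nat.card K).Coprime 2) (xb : G ⧸ K) (hxb1 : xb ≠ 1) (hxb2 : xb * xb = 1) :
    ∃ x : G, x ≠ 1 ∧ x ^ 2 = 1 ∧ (x : G ⧸ K) = xb := by
  obtain ⟨x₀, rfl⟩ := QuotientGroup.mk_surjective xb
  have hmem : x₀ * x₀ ∈ K := by
    rw [← QuotientGroup.eq_one_iff, QuotientGroup.mk_mul]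
    exact hxb2
  have hodd : Odd (orderOf (x₀ * x₀)) := by
    have h2 : orderOf (x₀ * x₀) ∣ Nat.card K := Subgroup.orderOf_dvd_natCard K hmem
    exact Odd.of_dvd_nat (Nat.coprime_two_right.mp hK) h2
  obtain ⟨k, hk⟩ := hodd
  have himg : ((x₀ ^ orderOf (x₀ * x₀) : G) : G ⧸ K) = (x₀ : G ⧸ K) := by
    rw [QuotientGroup.mk_pow, hk, pow_succ, pow_mul, pow_two, hxb2, one_pow, one_mul]
  refine ⟨x₀ ^ orderOf (x₀ * x₀), ?_, ?_, himg⟩
  · intro h
    apply hxb1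
    rw [← himg, h]
    rfl
  · rw [← pow_mul, mul_comm, pow_mul, pow_two, pow_orderOf_eq_one]

/-- [T-RED] -/
theorem thyp_quotient [Finite G] (hG : Group.IsSolvable G) (S : Sylow 2 G)
    (htwo : ∃ x y : G, x ∈ (S : Subgroup G) ∧ y ∈ (S : Subgroup G) ∧ x ≠ y ∧ x ≠ 1 ∧ x ^ 2 = 1 ∧
      y ≠ 1 ∧ y ^ 2 = 1)
    (hconj : ∀ x y : G, x ≠ 1 → x ^ 2 = 1 → y ≠ 1 → y ^ 2 = 1 → IsConj x y) :
    THyp (G ⧸ pPrimeCore 2 G) := by
  have hK : (Nat.card (pPrimeCore 2 G)).Coprime 2 := Cfsg.Agent.Lib.Helper76.pPrimeCore_coprime 2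
  refine ⟨inferInstance, ?_, ?_, ?_, ?_⟩
  · have := hG
    exact Group.isSolvable_of_surjective (QuotientGroup.mk'_surjective (pPrimeCore 2 G))
  · intro N hN hcop
    exact Cfsg.Agent.Lib.Helper76.quotient_pPrimeCore_core_trivial 2 N hN hcop
  · intro xb yb hxb1 hxb2 hyb1 hyb2
    obtain ⟨x, hx1, hx2, rfl⟩ := exists_involution_lift (pPrimeCore 2 G) hK xb hxb1 hxb2
    obtain ⟨y, hy1, hy2, rfl⟩ := exists_involution_lift (pPrimeCore 2 G) hK yb hyb1 hyb2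
    obtain ⟨c, hc⟩ := isConj_iff.mp (hconj x y hx1 hx2 hy1 hy2)
    refine ⟨(c : G ⧸ pPrimeCore 2 G), ?_⟩
    rw [← hc]
    rfl
  · obtain ⟨x, y, hxS, hyS, hxy, hx1, hx2, hy1, hy2⟩ := htwo
    refine ⟨(x : G ⧸ pPrimeCore 2 G), (y : G ⧸ pPrimeCore 2 G), ?_, ?_, ?_, ?_, ?_⟩
    · intro h
      have hm : x⁻¹ * y ∈ pPrimeCore 2 G := QuotientGroup.eq.mp h
      have hS : x⁻¹ * y ∈ (S : Subgroup G) := mul_mem (inv_mem hxS) hyS
      have := eq_one_of_two_elt_of_odd hK S hS hm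
      exact hxy (inv_mul_eq_one.mp this)
    · intro h
      exact hx1 (eq_one_of_sq_of_odd hK ((QuotientGroup.eq_one_iff x).mp h) hx2)
    · rw [← QuotientGroup.mk_mul, ← pow_two, hx2]
      rfl
    · intro h
      exact hy1 (eq_one_of_sq_of_odd hK ((QuotientGroup.eq_one_iff y).mp h) hy2)
    · rw [← QuotientGroup.mk_mul, ← pow_two, hy2]
      rfl

end Cfsg.Agent.Lib.Helper42.Suz2
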