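/-
helper42: module S3043-[B1c] of helper90's project S3043 (board #5016): a group isomorphic to
`SL₂(F)`, `F` of characteristic 2, of order `q (q+1) (q-1)` with `q = 2^k`, has `|F| = 2^k` and is
isomorphic to `PSL₂(F)`.
-/
import Mathlib
import Cfsg.Agent.Lib.Helper90.TIInvDefs
import Cfsg.Agent.Lib.Helper5.SL2Sylow

set_option autoImplicit false

namespace Cfsg.Agent.Lib.Helper42.TIInvB1c

open Cfsg.Agent.Lib.Helper90.TIInv

variable {G : Type*} [Group G] [Finite G] {M : Subgroup G} {z : G}

/-- the product of three consecutive numbers is strictly increasing -/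
theorem three_consec_lt {a b : ℕ} (h : a < b) : a * (a + 1) * (a + 2) < b * (b + 1) * (b + 2) := by
  have h1 : a + 1 ≤ b := h
  calc a * (a + 1) * (a + 2) < (a + 1) * (a + 1 + 1) * (a + 1 + 2) := by nlinarith
    _ ≤ b * (b + 1) * (b + 2) := by gcongr

theorem three_consec_inj {a b : ℕ} (h : a * (a + 1) * (a + 2) = b * (b + 1) * (b + 2)) : a = b := by
  rcases lt_trichotomy a b with hab | hab | hab
  · exact absurd h (three_consec_lt hab).ne
  · exact hab
  · exact absurd h.symm (three_consec_lt hab).ne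

/-- in characteristic 2 the centre of `SL₂(F)` is trivial -/
theorem center_SL2_eq_bot {F : Type*} [Field F] [CharP F 2] :
    Subgroup.center (Matrix.SpecialLinearGroup (Fin 2) F) = ⊥ := by
  rw [eq_bot_iff]
  intro A hA
  rw [Matrix.SpecialLinearGroup.mem_center_iff] at hA
  obtain ⟨r, hr, hA⟩ := hA
  rw [Fintype.card_fin] at hr
  have h2 : (2 : F) = 0 := by
    have := CharP.cast_eq_zero F 2
    exact_mod_cast this
  have h1 : (r - 1) ^ 2 = 0 := by
    have : (r - 1) ^ 2 = r ^ 2 - 2 * r + 1 := by ring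
    rw [this, hr, h2]; ring_nf
    linear_combination h2
  have hr1 : r = 1 := by
    have := pow_eq_zero_iff (two_ne_zero) |>.mp h1
    linear_combination this
  rw [Subgroup.mem_bot]
  apply Subtype.ext
  rw [← hA, hr1]
  simp

theorem sl2_to_psl2 {F : Type} [Field F] [Fintype F] [CharP F 2] {k : ℕ}
    (e : G ≃* Matrix.SpecialLinearGroup (Fin 2) F)
    (hG : Nat.card G = 2 ^ k * (2 ^ k + 1) * (2 ^ k - 1)) :
    Fintype.card F = 2 ^ k ∧ Nonempty (G ≃* Matrix.ProjectiveSpecialLinearGroup (Fin 2) F) := by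
  constructor
  · have hc : Nat.card G = Fintype.card F * (Fintype.card F ^ 2 - 1) := by
      rw [Nat.card_congr e.toEquiv]
      exact Cfsg.Agent.Lib.Helper5.card_SL2
    have hq : 2 ≤ Fintype.card F := Fintype.one_lt_card
    obtain ⟨a, ha⟩ : ∃ a, Fintype.card F = a + 1 := ⟨Fintype.card F - 1, by omega⟩
    have hk : 1 ≤ 2 ^ k := Nat.one_le_two_pow
    obtain ⟨b, hb⟩ : ∃ b, 2 ^ k = b + 1 := ⟨2 ^ k - 1, by omega⟩
    rw [hc, ha, hb] at hG
    have e1 : (a + 1) ^ 2 - 1 = a * (a + 2) := by
      have : (a + 1) ^ 2 = a * (a + 2) + 1 := by ring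
      omega
    have e2 : b + 1 - 1 = b := by omega
    rw [e1, e2] at hG
    have : a = b := by
      apply three_consec_inj
      linear_combination hG
    rw [ha, hb, this]
  · have hb := center_SL2_eq_bot (F := F)
    exact ⟨e.trans ((QuotientGroup.quotientBot (G := Matrix.SpecialLinearGroup (Fin 2) F)).symm.trans
      (QuotientGroup.quotientMulEquivOfEq hb.symm))⟩

end Cfsg.Agent.Lib.Helper42.TIInvB1c
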