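/-
helper42: module S3043-[F11] of helper90's project S3043 (board #5016): the index equation
`n h + m h = h + |C| m`, by double counting the pairs `(g, u)`, `g ∉ N`, `u` an involution of
`N ∩ g N g⁻¹`.
-/
import Mathlib
import Cfsg.Agent.Lib.Helper90.TIInvDefs

set_option autoImplicit false
set_option linter.unusedVariables false

namespace Cfsg.Agent.Lib.Helper42.TIInvF11

open Cfsg.Agent.Lib.Helper90.TIInv

variable {G : Type*} [Group G] [Finite G] {M : Subgroup G} {z : G}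

omit [Finite G] in
theorem mem_cj_iff (g u : G) (K : Subgroup G) : u ∈ cj g K ↔ g⁻¹ * u * g ∈ K := by
  rw [Subgroup.mem_map]
  constructor
  · rintro ⟨n, hn, rfl⟩
    have : g⁻¹ * ((MulAut.conj g).toMonoidHom n) * g = n := by
      show g⁻¹ * (g * n * g⁻¹) * g = n
      group
    rw [this]; exact hn
  · intro hu
    refine ⟨g⁻¹ * u * g, hu, ?_⟩
    show g * (g⁻¹ * u * g) * g⁻¹ = u
    group

omit [Finite G] in
theorem orderOf_conj' (g u : G) : orderOf (g⁻¹ * u * g) = orderOf u := by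
  have := MulEquiv.orderOf_eq (MulAut.conj g⁻¹) u
  rwa [MulAut.conj_apply, inv_inv] at this

omit [Finite G] in
theorem z_mem_Hz (h : Hyp M z) : z ∈ Hz M z :=
  ⟨h.zN, Subgroup.mem_centralizer_iff.mpr fun y hy => by
    rw [Set.mem_singleton_iff] at hy; rw [hy]⟩

omit [Finite G] in
theorem M_le_Nm : M ≤ Nm M := Subgroup.le_normalizer

omit [Finite G] in
theorem comm_of_mem_Cz {c : G} (hc : c ∈ Cz z) : z * c = c * z :=
  Subgroup.mem_centralizer_iff.mp hc z (Set.mem_singleton z)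

omit [Finite G] in
theorem M_inf_Cz (b : Basic M z) : M ⊓ Cz z = ⊥ := by
  rw [eq_bot_iff, ← b.MH]
  intro x hx
  exact ⟨hx.1, M_le_Nm hx.1, hx.2⟩

omit [Finite G] in
/-- the elements conjugating an involution of `N` into `N` form a set in bijection with `C × M` -/
theorem card_conj_mem (h : Hyp M z) (b : Basic M z) (i : InvN M z) (u : G)
    (hu2 : orderOf u = 2) (huN : u ∈ Nm M) :
    Nat.card {g : G // g⁻¹ * u * g ∈ Nm M} = Nat.card (Cz z) * Nat.card M := by
  obtain ⟨a, ha, rfl⟩ := i.invs u huN hu2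
  obtain ⟨b0, hb0, hab⟩ := i.conj a ha
  rw [← Nat.card_prod]
  symm
  have hmem : ∀ p : ↥(Cz z) × ↥M,
      ((b0 * (p.1 : G) * (p.2 : G))⁻¹ * (a * z) * (b0 * (p.1 : G) * (p.2 : G))) ∈ Nm M := by
    rintro ⟨⟨c, hc⟩, ⟨b', hb'⟩⟩
    have hcz := comm_of_mem_Cz hc
    have e : (b0 * c * b')⁻¹ * (a * z) * (b0 * c * b') = b'⁻¹ * z * b' := by
      rw [hab]
      calc (b0 * c * b')⁻¹ * (b0 * z * b0⁻¹) * (b0 * c * b')
          = b'⁻¹ * (c⁻¹ * (z * c)) * b' := by group
        _ = b'⁻¹ * (c⁻¹ * (c * z)) * b' := by rw [hcz]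
        _ = b'⁻¹ * z * b' := by group
    show (b0 * c * b')⁻¹ * (a * z) * (b0 * c * b') ∈ Nm M
    rw [e]
    exact (Nm M).mul_mem ((Nm M).mul_mem ((Nm M).inv_mem (M_le_Nm hb')) h.zN) (M_le_Nm hb')
  apply Nat.card_congr
  refine Equiv.ofBijective (fun p : ↥(Cz z) × ↥M =>
    (⟨b0 * (p.1 : G) * (p.2 : G), hmem p⟩ : {g : G // g⁻¹ * (a * z) * g ∈ Nm M})) ⟨?_, ?_⟩
  · rintro ⟨⟨c, hc⟩, ⟨b', hb'⟩⟩ ⟨⟨c₂, hc₂⟩, ⟨b₂, hb₂⟩⟩ hp
    have hp' : b0 * c * b' = b0 * c₂ * b₂ := congrArg Subtype.val hp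
    have h1 : c * b' = c₂ * b₂ := by
      have : b0 * (c * b') = b0 * (c₂ * b₂) := by rw [← mul_assoc, ← mul_assoc]; exact hp'
      exact mul_left_cancel this
    have h2 : c₂⁻¹ * c = b₂ * b'⁻¹ := by
      calc c₂⁻¹ * c = c₂⁻¹ * (c * b') * b'⁻¹ := by group
        _ = c₂⁻¹ * (c₂ * b₂) * b'⁻¹ := by rw [h1]
        _ = b₂ * b'⁻¹ := by group
    have h3 : c₂⁻¹ * c ∈ M ⊓ Cz z :=
      ⟨h2 ▸ M.mul_mem hb₂ (M.inv_mem hb'), (Cz z).mul_mem ((Cz z).inv_mem hc₂) hc⟩
    rw [M_inf_Cz b, Subgroup.mem_bot] at h3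
    have h4 : c = c₂ := by
      have := inv_mul_eq_one.mp h3
      exact this.symm
    subst h4
    have h5 : b' = b₂ := mul_left_cancel h1
    subst h5
    rfl
  · rintro ⟨g, hg⟩
    have hv2 : orderOf (g⁻¹ * (a * z) * g) = 2 := by
      rw [orderOf_conj']; exact i.isInv a ha
    obtain ⟨a', ha', hv⟩ := i.invs _ hg hv2
    obtain ⟨b1, hb1, hab1⟩ := i.conj a' ha'
    rw [hab, hab1] at hv
    -- hv : g⁻¹ * (b0 * z * b0⁻¹) * g = b1 * z * b1⁻¹
    have hc : b0⁻¹ * g * b1 ∈ Cz z := by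
      rw [Subgroup.mem_centralizer_iff]
      intro y hy
      rw [Set.mem_singleton_iff] at hy
      subst hy
      have e1 : b0 * y * b0⁻¹ * g = g * (b1 * y * b1⁻¹) := by
        rw [← hv]; group
      calc y * (b0⁻¹ * g * b1) = b0⁻¹ * (b0 * y * b0⁻¹ * g) * b1 := by group
        _ = b0⁻¹ * (g * (b1 * y * b1⁻¹)) * b1 := by rw [e1]
        _ = b0⁻¹ * g * b1 * y := by group
    refine ⟨(⟨b0⁻¹ * g * b1, hc⟩, ⟨b1⁻¹, M.inv_mem hb1⟩), ?_⟩
    apply Subtype.ext
    show b0 * (b0⁻¹ * g * b1) * b1⁻¹ = g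
    group

omit [Group G] [Finite G] in
theorem card_filter_mem [Fintype G] [DecidableEq G] (p : G → Prop) [DecidablePred p] :
    (Finset.univ.filter p).card = Nat.card {g : G // p g} := by
  rw [Nat.card_eq_fintype_card, Fintype.card_subtype]

theorem indexEq (h : Hyp M z) (b : Basic M z) (i : InvN M z) (s : Semi M) (t : TwoPt M z) :
    IndexEq M z := by
  classical
  have : Fintype G := Fintype.ofFinite G
  unfold IndexEq
  set N := Nm M with hN
  let S : Finset G := Finset.univ.filter (fun g => g ∉ N)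
  let T : Finset G := Finset.univ.filter (fun u => orderOf u = 2 ∧ u ∈ N)
  have hT : T.card = Nat.card M := by
    rw [card_filter_mem]; exact i.cardInv
  have hNc : (Finset.univ.filter (fun g : G => g ∈ N)).card = Nat.card N := by
    rw [card_filter_mem]
  have hS : S.card + Nat.card N = Nat.card G := by
    rw [← hNc, Nat.card_eq_fintype_card, ← Finset.card_univ (α := G)]
    rw [add_comm]
    exact Finset.card_filter_add_card_filter_not (s := Finset.univ) (fun g : G => g ∈ N)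
  have h1 : ∀ g ∈ S, (T.bipartiteAbove (fun g u => g⁻¹ * u * g ∈ N) g).card = 1 := by
    intro g hg
    have hgN : g ∉ N := (Finset.mem_filter.mp hg).2
    obtain ⟨a, ha, hinter⟩ := t g hgN
    rw [Finset.card_eq_one]
    refine ⟨a * z * a⁻¹, ?_⟩
    ext u
    rw [Finset.mem_bipartiteAbove, Finset.mem_singleton, Finset.mem_filter]
    constructor
    · rintro ⟨⟨-, hu2, huN⟩, hug⟩
      have hu : u ∈ N ⊓ cj g N := ⟨huN, (mem_cj_iff g u N).mpr hug⟩
      rw [hinter, mem_cj_iff] at hu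
      have := i.zuniq _ hu (by rw [orderOf_conj']; exact hu2)
      calc u = a * (a⁻¹ * u * a) * a⁻¹ := by group
        _ = a * z * a⁻¹ := by rw [this]
    · rintro rfl
      have hmem : a * z * a⁻¹ ∈ N ⊓ cj g N := by
        rw [hinter, mem_cj_iff]
        have : a⁻¹ * (a * z * a⁻¹) * a = z := by group
        rw [this]; exact z_mem_Hz h
      refine ⟨⟨Finset.mem_univ _, ?_, hmem.1⟩, (mem_cj_iff g _ N).mp hmem.2⟩
      have := orderOf_conj' a⁻¹ z
      rw [inv_inv] at this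
      rw [this]; exact h.hz
  have h2 : ∀ u ∈ T, (S.bipartiteBelow (fun g u => g⁻¹ * u * g ∈ N) u).card + Nat.card N =
      Nat.card (Cz z) * Nat.card M := by
    intro u hu
    obtain ⟨-, hu2, huN⟩ := Finset.mem_filter.mp hu
    rw [← card_conj_mem h b i u hu2 huN, ← hNc, ← card_filter_mem (fun g : G => g⁻¹ * u * g ∈ N)]
    have e1 : S.bipartiteBelow (fun g u => g⁻¹ * u * g ∈ N) u =
        (Finset.univ.filter (fun g : G => g⁻¹ * u * g ∈ N)).filter (fun g => ¬ g ∈ N) := by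
      ext g
      simp only [Finset.mem_bipartiteBelow, Finset.mem_filter, Finset.mem_univ, true_and, S]
      tauto
    have e2 : Finset.univ.filter (fun g : G => g ∈ N) =
        (Finset.univ.filter (fun g : G => g⁻¹ * u * g ∈ N)).filter (fun g => g ∈ N) := by
      ext g
      simp only [Finset.mem_filter, Finset.mem_univ, true_and]
      constructor
      · intro hg
        exact ⟨N.mul_mem (N.mul_mem (N.inv_mem hg) huN) hg, hg⟩
      · exact fun hg => hg.2
    rw [e1, e2, add_comm]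
    exact Finset.card_filter_add_card_filter_not (fun g : G => g ∈ N)
  have key := Finset.sum_card_bipartiteAbove_eq_sum_card_bipartiteBelow (s := S) (t := T)
    (fun g u => g⁻¹ * u * g ∈ N)
  rw [Finset.sum_congr rfl h1, Finset.sum_const, smul_eq_mul, mul_one] at key
  -- arithmetic
  have hmpos : 0 < Nat.card M := Nat.card_pos
  have hcardN : Nat.card N = Nat.card M * Nat.card (Hz M z) := b.cardN
  have hG : N.index * Nat.card N = Nat.card G := N.index_mul_card
  have hsum : (∑ u ∈ T, (S.bipartiteBelow (fun g u => g⁻¹ * u * g ∈ N) u).card) +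
      Nat.card M * Nat.card N = Nat.card M * (Nat.card (Cz z) * Nat.card M) := by
    have := Finset.sum_congr rfl h2
    rw [Finset.sum_add_distrib, Finset.sum_const, Finset.sum_const, smul_eq_mul, smul_eq_mul,
      hT] at this
    exact this
  rw [← key] at hsum
  -- hsum : S.card + m * |N| = m * (c * m); hS : S.card + |N| = |G| = n * |N|
  have hfin : Nat.card M * (N.index * Nat.card (Hz M z) + Nat.card M * Nat.card (Hz M z)) =
      Nat.card M * (Nat.card (Hz M z) + Nat.card (Cz z) * Nat.card M) := by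
    rw [hcardN] at hsum hS hG
    nlinarith [hsum, hS, hG]
  exact Nat.eq_of_mul_eq_mul_left hmpos hfin

end Cfsg.Agent.Lib.Helper42.TIInvF11
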