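import Mathlib
import Cfsg.Agent.Lib.Helper36.Tri.TauOut
import Cfsg.Agent.Lib.Helper36.Tri.OutPlusTwo
import Cfsg.Agent.Lib.Helper36.Tri.FieldPartG
import Cfsg.Agent.Lib.Helper44.TriEps
import Cfsg.Agent.Lib.Helper36.InndiagPlus3
import Cfsg.Agent.Lib.Helper36.AutO.OutMinusOdd

/-!
# TRI8 module [C4-GAMMA] (helper36's S2608 project, board #4651): the automorphism of `PΩ⁺₈(q)`
induced by octonion conjugation is not inner-diagonal, is an involution and commutes with the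
coordinate field automorphisms.
-/

set_option autoImplicit false
set_option linter.unusedSimpArgs false
set_option linter.unusedVariables false
set_option linter.unusedSectionVars false

namespace Cfsg.Agent.Lib.Helper42.Tri

open Cfsg.Agent.Lib.Helper13 hiding isoGroup mem_isoGroup
open Cfsg.Agent.Lib.Helper36 Cfsg.Agent.Lib.Helper44 Cfsg.Agent.Lib.Helper36.AutO
  Cfsg.Agent.Lib.Helper36.Tri Module Cfsg.Agent.S2168

variable {F : Type*} [Field F] [Fintype F]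

/-- the permutation part of octonion conjugation -/
def sK : Equiv.Perm (Fin 4 ⊕ Fin 4) := Equiv.swap (Sum.inl 0) (Sum.inr 0)

/-- the sign part of octonion conjugation -/
def dK (F : Type*) [Field F] : Fin 4 ⊕ Fin 4 → F := Sum.elim ![1, -1, -1, -1] ![1, -1, -1, -1]

theorem gK_eq_perm_mul_diag :
    ((Cfsg.Agent.Lib.Helper44.TriEps.gK F : GL (Fin 4 ⊕ Fin 4) F) :
      Matrix (Fin 4 ⊕ Fin 4) (Fin 4 ⊕ Fin 4) F) = sK.permMatrix F * Matrix.diagonal (dK F) := by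
  apply Matrix.mulVec_injective
  funext v
  rw [Cfsg.Agent.Lib.Helper44.TriEps.gK_mulVec, ← Matrix.mulVec_mulVec, Matrix.permMatrix_mulVec]
  funext i
  rw [Function.comp_apply, Matrix.mulVec_diagonal]
  rcases i with i | i <;> fin_cases i <;>
    simp [oconj, sK, dK, Equiv.swap_apply_def]

theorem det_gK :
    ((Cfsg.Agent.Lib.Helper44.TriEps.gK F : GL (Fin 4 ⊕ Fin 4) F) :
      Matrix (Fin 4 ⊕ Fin 4) (Fin 4 ⊕ Fin 4) F).det = -1 := by
  rw [gK_eq_perm_mul_diag, Matrix.det_mul, Matrix.det_permutation, Matrix.det_diagonal]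
  have h1 : Equiv.Perm.sign sK = -1 := by
    unfold sK
    apply Equiv.Perm.sign_swap
    intro h; cases h
  rw [h1, Fintype.prod_sum_type, Fin.prod_univ_four, Fin.prod_univ_four]
  simp [dK]

theorem gK_mul_self :
    Cfsg.Agent.Lib.Helper44.TriEps.gK F * Cfsg.Agent.Lib.Helper44.TriEps.gK F = 1 := by
  apply Units.ext
  apply Matrix.mulVec_injective
  funext v
  rw [Units.val_mul, ← Matrix.mulVec_mulVec, Cfsg.Agent.Lib.Helper44.TriEps.gK_mulVec,
    Cfsg.Agent.Lib.Helper44.TriEps.gK_mulVec, oconj_oconj, Units.val_one, Matrix.one_mulVec]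

theorem glMap_gK (σ : F ≃+* F) :
    glMap σ (Cfsg.Agent.Lib.Helper44.TriEps.gK F) = Cfsg.Agent.Lib.Helper44.TriEps.gK F := by
  apply Units.ext
  rw [glMap_coe, gK_eq_perm_mul_diag, Matrix.map_mul]
  congr 1
  · ext i j
    simp only [Matrix.map_apply, Equiv.Perm.permMatrix, PEquiv.toMatrix_apply]
    split_ifs <;> simp
  · ext i j
    rcases i with i | i <;> rcases j with j | j <;> fin_cases i <;> fin_cases j <;>
      simp [Matrix.diagonal, dK]

/-- an isometry of determinant `-1` of the plus form does not induce an inner-diagonal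
automorphism -/
theorem simAut_not_mem_inndiag_of_det [DecidableEq F] (h2 : (2 : F) ≠ 0) (m : ℕ) (hm : 3 ≤ m)
    (g : GL (Fin m ⊕ Fin m) F) (hg : g ∈ Cfsg.isometryGroup F (⇑(plusQF m F)))
    (hdet : (g : Matrix (Fin m ⊕ Fin m) (Fin m ⊕ Fin m) F).det = -1) :
    simAut (⇑(plusQF m F)) ⟨g, isometryGroup_le_similarity (⇑(plusQF m F)) hg⟩ ∉
      inndiagPlusQ m F := by
  intro hmem
  have hQ := plusQF_nondeg m F
  have hcard : Fintype.card (Fin m ⊕ Fin m) = 2 * m := card_plus_index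
  have hdim : 5 ≤ Fintype.card (Fin m ⊕ Fin m) := by rw [hcard]; omega
  have hdim' : 2 ≤ finrank F (Fin m ⊕ Fin m → F) := by
    rw [Module.finrank_fintype_fun_eq_card]
    omega
  obtain ⟨v₀, hv₀'⟩ := exists_Q_eq (plusQF m F) hQ h2 hdim' 1 one_ne_zero
  have hv₀ : plusQF m F v₀ ≠ 0 := by rw [hv₀']; exact one_ne_zero
  rw [inndiag_eq h2 v₀ hv₀] at hmem
  obtain ⟨g', hg', hgg'⟩ := hmem
  set h : ↥(Cfsg.Geo.quadSimilarityGroup (⇑(plusQF m F))) :=
    ⟨g, isometryGroup_le_similarity (⇑(plusQF m F)) hg⟩ with hh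
  have h1 : simAut (⇑(plusQF m F)) (g'⁻¹ * h) = 1 := by
    rw [map_mul, map_inv, hgg', inv_mul_cancel]
  have h3 := psi_eq_one_of_simAut_eq_one (plusQF m F) v₀ hv₀ m hQ h2 hcard hdim _ h1
  have h4 := ((psi_eq_one_iff (plusQF m F) v₀ hv₀ m hQ h2 hcard _).mp h3).2
  rw [map_mul, map_inv, (MonoidHom.mem_ker).mp hg', inv_one, one_mul, psi2_eq_one_iff,
    deltaHom_apply] at h4
  have hm1 : mult (plusQF m F) v₀ hv₀ h = 1 := by
    apply mult_eq
    intro v
    rw [(mem_isometryGroup_iff' (⇑(plusQF m F)) _).mp hg v, Units.val_one, one_mul]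
  have hd : Matrix.GeneralLinearGroup.det g = -1 := by
    apply Units.ext
    rw [Matrix.GeneralLinearGroup.val_det_apply, hdet, Units.val_neg, Units.val_one]
  rw [hm1, one_pow, inv_one, mul_one] at h4
  have h5 : Matrix.GeneralLinearGroup.det g = 1 := h4
  rw [hd] at h5
  exact neg_one_ne_one_units h2 h5

theorem gammaK_facts (h2 : (2 : F) ≠ 0) :
    (Cfsg.Agent.Lib.Helper44.TriEps.gammaK F : MulAut (Cfsg.POmega F (Cfsg.quadFormPlus 4 F))) ∉
      Cfsg.inndiagPOmegaPlus 4 F ∧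
    Cfsg.Agent.Lib.Helper44.TriEps.gammaK F * Cfsg.Agent.Lib.Helper44.TriEps.gammaK F = 1 ∧
    ∀ σ : F ≃+* F, pairAut (⇑(QO F)) 1 σ (hypQF_pair_one 4 σ) *
        Cfsg.Agent.Lib.Helper44.TriEps.gammaK F =
      Cfsg.Agent.Lib.Helper44.TriEps.gammaK F * pairAut (⇑(QO F)) 1 σ (hypQF_pair_one 4 σ) := by
  classical
  have hiso : Cfsg.Agent.Lib.Helper44.TriEps.gK F ∈ Cfsg.isometryGroup F (⇑(plusQF 4 F)) := by
    rw [mem_isometryGroup_iff']
    intro v
    rw [Cfsg.Agent.Lib.Helper44.TriEps.gK_mulVec]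
    exact onorm_oconj v
  refine ⟨?_, ?_, ?_⟩
  · have := simAut_not_mem_inndiag_of_det h2 4 (by norm_num)
      (Cfsg.Agent.Lib.Helper44.TriEps.gK F) hiso det_gK
    exact this
  · unfold Cfsg.Agent.Lib.Helper44.TriEps.gammaK
    rw [← map_mul]
    have : (⟨Cfsg.Agent.Lib.Helper44.TriEps.gK F, Cfsg.Agent.Lib.Helper44.TriEps.gK_mem⟩ :
        ↥(Cfsg.Geo.quadSimilarityGroup (⇑(QO F)))) *
        ⟨Cfsg.Agent.Lib.Helper44.TriEps.gK F, Cfsg.Agent.Lib.Helper44.TriEps.gK_mem⟩ = 1 := by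
      apply Subtype.ext
      exact gK_mul_self
    rw [this, map_one]
  · intro σ
    unfold Cfsg.Agent.Lib.Helper44.TriEps.gammaK
    set h : ↥(Cfsg.Geo.quadSimilarityGroup (⇑(QO F))) :=
      ⟨Cfsg.Agent.Lib.Helper44.TriEps.gK F, Cfsg.Agent.Lib.Helper44.TriEps.gK_mem⟩ with hh
    have hc := conj_simAut (⇑(QO F)) 1 σ (hypQF_pair_one 4 σ)
      (pairAut (⇑(QO F)) 1 σ (hypQF_pair_one 4 σ))
      (isInduced_pairAut (⇑(QO F)) 1 σ (hypQF_pair_one 4 σ)) h h
      (by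
        show Cfsg.Agent.Lib.Helper44.TriEps.gK F =
          1 * glMap σ (Cfsg.Agent.Lib.Helper44.TriEps.gK F) * 1⁻¹
        rw [glMap_gK]; simp)
    calc pairAut (⇑(QO F)) 1 σ (hypQF_pair_one 4 σ) * simAut (⇑(QO F)) h
        = (pairAut (⇑(QO F)) 1 σ (hypQF_pair_one 4 σ) * simAut (⇑(QO F)) h *
            (pairAut (⇑(QO F)) 1 σ (hypQF_pair_one 4 σ))⁻¹) *
            pairAut (⇑(QO F)) 1 σ (hypQF_pair_one 4 σ) := by group
      _ = simAut (⇑(QO F)) h * pairAut (⇑(QO F)) 1 σ (hypQF_pair_one 4 σ) := by rw [hc]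

end Cfsg.Agent.Lib.Helper42.Tri
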