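import Mathlib
import Cfsg.Agent.Lib.Helper36.Tri.TauOut
import Cfsg.Agent.Lib.Helper36.Tri.OutPlusTwo
import Cfsg.Agent.Lib.Helper36.Tri.FieldPartG
import Cfsg.Agent.Lib.Helper44.TriEps
import Cfsg.Agent.Lib.Helper36.InndiagPlus3
import Cfsg.Agent.Lib.Helper36.AutO.OutMinusOdd
import Cfsg.Agent.S2724
import Cfsg.Agent.S2725

/-!
# TRI8 module [C4-IDX] (helper36's S2608 project, board #4651): the indices
`Inn < Inndiag < PGO` for `PΩ⁺₈(q)`, `q` odd, from the landed S2724 and S2725.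
-/

set_option autoImplicit false
set_option linter.unusedSimpArgs false
set_option linter.unusedVariables false
set_option linter.unusedSectionVars false

namespace Cfsg.Agent.Lib.Helper42.Tri

open Cfsg.Agent.Lib.Helper13 hiding isoGroup mem_isoGroup
open Cfsg.Agent.Lib.Helper36 Cfsg.Agent.Lib.Helper44 Cfsg.Agent.Lib.Helper36.AutO
  Cfsg.Agent.Lib.Helper36.Tri Module Cfsg.Agent.S2168

variable {F : Type*} [Field F] [Fintype F]

/-- index of a kernel given as `N.subgroupOf K`, for a surjective hom onto a finite group -/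
theorem relIndex_of_surjective_ker {A E : Type*} [Group A] [Group E] (N K : Subgroup A)
    (φ : ↥K →* E) (hφs : Function.Surjective φ) (hφk : φ.ker = N.subgroupOf K) :
    N.relIndex K = Nat.card E := by
  unfold Subgroup.relIndex
  rw [← hφk, Subgroup.index_ker, MonoidHom.range_eq_top.mpr hφs]
  exact Nat.card_congr (Subgroup.topEquiv (G := E)).toEquiv

theorem two_ne_zero_of_odd_card (hodd : Odd (Fintype.card F)) : (2 : F) ≠ 0 := by
  apply Ring.two_ne_zero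
  intro h
  have := (FiniteField.even_card_iff_char_two (F := F)).mp h
  rcases hodd with ⟨k, hk⟩
  omega

theorem inndiag8_facts (hodd : Odd (Fintype.card F)) :
    Cfsg.Inn (Cfsg.POmega F (Cfsg.quadFormPlus 4 F)) ≤ Cfsg.inndiagPOmegaPlus 4 F ∧
    Cfsg.inndiagPOmegaPlus 4 F ≤ Cfsg.pgoAut F (Cfsg.quadFormPlus 4 F) ∧
    (Cfsg.Inn (Cfsg.POmega F (Cfsg.quadFormPlus 4 F))).relIndex (Cfsg.inndiagPOmegaPlus 4 F) = 4 ∧
    (∀ x ∈ Cfsg.inndiagPOmegaPlus 4 F, x * x ∈ Cfsg.Inn (Cfsg.POmega F (Cfsg.quadFormPlus 4 F))) ∧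
    (Cfsg.inndiagPOmegaPlus 4 F).relIndex (Cfsg.pgoAut F (Cfsg.quadFormPlus 4 F)) = 2 := by
  classical
  have h2 : (2 : F) ≠ 0 := two_ne_zero_of_odd_card hodd
  have hQ := plusQF_nondeg 4 F
  have hdim' : 2 ≤ finrank F (Fin 4 ⊕ Fin 4 → F) := by
    rw [Module.finrank_fintype_fun_eq_card, Fintype.card_sum, Fintype.card_fin]
    norm_num
  obtain ⟨v₀, hv₀'⟩ := exists_Q_eq (plusQF 4 F) hQ h2 hdim' 1 one_ne_zero
  have hv₀ : plusQF 4 F v₀ ≠ 0 := by rw [hv₀']; exact one_ne_zero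
  have hInnI : Cfsg.Inn (Cfsg.POmega F (Cfsg.quadFormPlus 4 F)) ≤ Cfsg.inndiagPOmegaPlus 4 F := by
    rw [← inndiagPlusQ_eq]
    exact le_trans (Inn_le_psoAut (⇑(plusQF 4 F))) (psoAut_le_inndiag h2 v₀ hv₀)
  have hIP : Cfsg.inndiagPOmegaPlus 4 F ≤ Cfsg.pgoAut F (Cfsg.quadFormPlus 4 F) := by
    rw [← inndiagPlusQ_eq, inndiag_eq h2 v₀ hv₀]
    rintro _ ⟨g, -, rfl⟩
    have : simAut (⇑(plusQF 4 F)) g ∈ Cfsg.pgoAut F (⇑(plusQF 4 F)) := by
      rw [pgoAut_eq]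
      exact ⟨g, rfl⟩
    exact this
  obtain ⟨φ, hφs, hφk⟩ := (Cfsg.Agent.S2725.result (F := F) hodd (m := 4) (le_refl 4)).2.2
    (by decide)
  obtain ⟨ψ, hψs, hψk⟩ := (Cfsg.Agent.S2724.result (F := F) hodd (m := 4) (le_refl 4)).2
    (by rintro ⟨h, -⟩; revert h; decide)
  have h4 : (Cfsg.Inn (Cfsg.POmega F (Cfsg.quadFormPlus 4 F))).relIndex
      (Cfsg.inndiagPOmegaPlus 4 F) = 4 := by
    rw [relIndex_of_surjective_ker _ _ φ hφs hφk, Nat.card_eq_fintype_card]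
    rfl
  have h8 : (Cfsg.Inn (Cfsg.POmega F (Cfsg.quadFormPlus 4 F))).relIndex
      (Cfsg.pgoAut F (Cfsg.quadFormPlus 4 F)) = 8 := by
    rw [relIndex_of_surjective_ker _ _ ψ hψs hψk, DihedralGroup.nat_card]
  refine ⟨hInnI, hIP, h4, ?_, ?_⟩
  · intro x hx
    have h1 : (⟨x, hx⟩ * ⟨x, hx⟩ : ↥(Cfsg.inndiagPOmegaPlus 4 F)) ∈ φ.ker := by
      rw [MonoidHom.mem_ker, map_mul]
      generalize φ ⟨x, hx⟩ = y
      revert y
      decide
    rw [hφk, Subgroup.mem_subgroupOf] at h1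
    exact h1
  · have hmul := Subgroup.relIndex_mul_relIndex _ _ _ hInnI hIP
    rw [h4, h8] at hmul
    omega

end Cfsg.Agent.Lib.Helper42.Tri
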