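import Mathlib
import Cfsg.Agent.Lib.Helper36.Tri.TauOut
import Cfsg.Agent.Lib.Helper36.Tri.OutPlusTwo
import Cfsg.Agent.Lib.Helper36.Tri.FieldPartG
import Cfsg.Agent.Lib.Helper44.TriEps
import Cfsg.Agent.Lib.Helper36.InndiagPlus3
import Cfsg.Agent.Lib.Helper36.AutO.OutMinusOdd

/-!
# TRI8 module [C-REFL] (helper36's S2608 project, board #4651): a graph reflection of `PΩ⁺_{2m}(q)`
commuting with the coordinate field automorphisms.
-/

set_option autoImplicit false
set_option linter.unusedSimpArgs false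
set_option linter.unusedVariables false
set_option linter.unusedSectionVars false

namespace Cfsg.Agent.Lib.Helper42.Tri

open Cfsg.Agent.Lib.Helper13 hiding isoGroup mem_isoGroup
open Cfsg.Agent.Lib.Helper36 Cfsg.Agent.Lib.Helper44 Cfsg.Agent.Lib.Helper36.AutO
  Cfsg.Agent.Lib.Helper36.Tri Module

variable {F : Type*} [Field F]

/-- the permutation matrix of an involution, as an invertible matrix -/
noncomputable def permGL {ι : Type} [Fintype ι] [DecidableEq ι] (s : Equiv.Perm ι)
    (hs : s * s = 1) : GL ι F :=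
  ⟨s.permMatrix F, s.permMatrix F, by rw [← Matrix.permMatrix_mul, hs, Matrix.permMatrix_one],
    by rw [← Matrix.permMatrix_mul, hs, Matrix.permMatrix_one]⟩

theorem permGL_coe {ι : Type} [Fintype ι] [DecidableEq ι] (s : Equiv.Perm ι) (hs : s * s = 1) :
    ((permGL (F := F) s hs : GL ι F) : Matrix ι ι F) = s.permMatrix F := rfl

theorem permGL_mul_self {ι : Type} [Fintype ι] [DecidableEq ι] (s : Equiv.Perm ι)
    (hs : s * s = 1) : permGL (F := F) s hs * permGL s hs = 1 := by
  apply Units.ext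
  rw [Units.val_mul, permGL_coe, ← Matrix.permMatrix_mul, hs, Matrix.permMatrix_one]
  rfl

theorem glMap_permGL {ι : Type} [Fintype ι] [DecidableEq ι] (s : Equiv.Perm ι) (hs : s * s = 1)
    (σ : F ≃+* F) : glMap σ (permGL (F := F) s hs) = permGL s hs := by
  apply Units.ext
  rw [glMap_coe, permGL_coe]
  ext i j
  simp only [Matrix.map_apply, Equiv.Perm.permMatrix, PEquiv.toMatrix_apply]
  split_ifs <;> simp

/-- the swap of the first hyperbolic pair -/
def reflPerm (m : ℕ) (hm : 0 < m) : Equiv.Perm (Fin m ⊕ Fin m) :=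
  Equiv.swap (Sum.inl ⟨0, hm⟩) (Sum.inr ⟨0, hm⟩)

theorem reflPerm_mul_self (m : ℕ) (hm : 0 < m) : reflPerm m hm * reflPerm m hm = 1 :=
  Equiv.swap_mul_self _ _

theorem quadFormPlus_comp_reflPerm (m : ℕ) (hm : 0 < m) (v : Fin m ⊕ Fin m → F) :
    Cfsg.quadFormPlus m F (v ∘ reflPerm m hm) = Cfsg.quadFormPlus m F v := by
  unfold Cfsg.quadFormPlus
  apply Finset.sum_congr rfl
  intro i _
  by_cases hi : i = ⟨0, hm⟩
  · subst hi
    simp only [Function.comp_apply, reflPerm, Equiv.swap_apply_left, Equiv.swap_apply_right]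
    ring
  · have h1 : reflPerm m hm (Sum.inl i) = Sum.inl i := by
      unfold reflPerm
      apply Equiv.swap_apply_of_ne_of_ne
      · intro h; exact hi (Sum.inl.inj h)
      · intro h; cases h
    have h2 : reflPerm m hm (Sum.inr i) = Sum.inr i := by
      unfold reflPerm
      apply Equiv.swap_apply_of_ne_of_ne
      · intro h; cases h
      · intro h; exact hi (Sum.inr.inj h)
    simp only [Function.comp_apply, h1, h2]

theorem permGL_refl_mem (m : ℕ) (hm : 0 < m) :
    permGL (F := F) (reflPerm m hm) (reflPerm_mul_self m hm) ∈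
      Cfsg.isometryGroup F (Cfsg.quadFormPlus m F) := by
  rw [mem_isometryGroup_iff']
  intro v
  rw [permGL_coe, Matrix.permMatrix_mulVec]
  exact quadFormPlus_comp_reflPerm m hm v

theorem det_permGL_refl (m : ℕ) (hm : 0 < m) :
    ((permGL (F := F) (reflPerm m hm) (reflPerm_mul_self m hm) : GL (Fin m ⊕ Fin m) F) :
      Matrix (Fin m ⊕ Fin m) (Fin m ⊕ Fin m) F).det = -1 := by
  rw [permGL_coe, Matrix.det_permutation]
  have : Equiv.Perm.sign (reflPerm m hm) = -1 := by
    unfold reflPerm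
    apply Equiv.Perm.sign_swap
    intro h; cases h
  rw [this]
  simp

variable [Fintype F]

theorem exists_graph_refl (h2 : (2 : F) ≠ 0) (m : ℕ) (hm : 4 ≤ m) :
    ∃ γ : MulAut (Cfsg.POmega F (Cfsg.quadFormPlus m F)),
      γ ∈ Cfsg.pgoAut F (Cfsg.quadFormPlus m F) ∧ γ ∉ Cfsg.psoAut F (Cfsg.quadFormPlus m F) ∧
      γ * γ = 1 ∧
      ∀ σ : F ≃+* F, pairAut (Cfsg.quadFormPlus m F) 1 σ (hypQF_pair_one m σ) * γ =
        γ * pairAut (Cfsg.quadFormPlus m F) 1 σ (hypQF_pair_one m σ) := by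
  classical
  have hm0 : 0 < m := by omega
  set g0 : GL (Fin m ⊕ Fin m) F := permGL (reflPerm m hm0) (reflPerm_mul_self m hm0) with hg0
  have hiso : g0 ∈ Cfsg.isometryGroup F (Cfsg.quadFormPlus m F) := permGL_refl_mem m hm0
  have hsim : g0 ∈ Cfsg.Geo.quadSimilarityGroup (Cfsg.quadFormPlus m F) :=
    isometryGroup_le_similarity (Cfsg.quadFormPlus m F) hiso
  set h : ↥(Cfsg.Geo.quadSimilarityGroup (Cfsg.quadFormPlus m F)) := ⟨g0, hsim⟩ with hh
  have hcard : Fintype.card (Fin m ⊕ Fin m) = 2 * m := by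
    rw [Fintype.card_sum, Fintype.card_fin]; ring
  refine ⟨simAut (Cfsg.quadFormPlus m F) h, ?_, ?_, ?_, ?_⟩
  · rw [pgoAut_eq]
    exact ⟨_, rfl⟩
  · exact simAut_not_mem_psoAut_of_det (hypQF m F) hypQF_nondeg h2 (by rw [hcard]; omega) m hcard
      g0 hiso (det_permGL_refl m hm0)
  · rw [← map_mul]
    have : h * h = 1 := by
      apply Subtype.ext
      exact permGL_mul_self (reflPerm m hm0) (reflPerm_mul_self m hm0)
    rw [this, map_one]
  · intro σ
    have hc := conj_simAut (Cfsg.quadFormPlus m F) 1 σ (hypQF_pair_one m σ)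
      (pairAut (Cfsg.quadFormPlus m F) 1 σ (hypQF_pair_one m σ))
      (isInduced_pairAut (Cfsg.quadFormPlus m F) 1 σ (hypQF_pair_one m σ)) h h
      (by
        show g0 = 1 * glMap σ g0 * 1⁻¹
        rw [hg0, glMap_permGL]; simp)
    calc pairAut (Cfsg.quadFormPlus m F) 1 σ (hypQF_pair_one m σ) *
          simAut (Cfsg.quadFormPlus m F) h
        = (pairAut (Cfsg.quadFormPlus m F) 1 σ (hypQF_pair_one m σ) *
            simAut (Cfsg.quadFormPlus m F) h *
            (pairAut (Cfsg.quadFormPlus m F) 1 σ (hypQF_pair_one m σ))⁻¹) *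
            pairAut (Cfsg.quadFormPlus m F) 1 σ (hypQF_pair_one m σ) := by group
      _ = simAut (Cfsg.quadFormPlus m F) h *
            pairAut (Cfsg.quadFormPlus m F) 1 σ (hypQF_pair_one m σ) := by rw [hc]

end Cfsg.Agent.Lib.Helper42.Tri
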